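import Cfsg.Agent.Lib.QTXi.Pair

/-!
# The prime three

An offender for a pair with `p = 3` is impossible when an automorphism fixes one line and moves the others.
-/

set_option autoImplicit false
set_option linter.unusedSectionVars false
set_option linter.style.haveILetI false

namespace Cfsg.Agent.QTXi

open Subgroup Pieces

universe u

variable {G : Type u} [Group G] [Finite G]

namespace Shape

variable {P T₀ : Subgroup G}

/-- Four lines cover. -/
theorem cover_four (h : Shape 3 P T₀) (e : Fin 4 → G) (he : ∀ i, e i ∈ P)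
    (he' : ∀ i, e i ∉ (⁅P, P⁆ : Subgroup G)) (hne : ∀ i j, i ≠ j → e j ∉ line P (e i))
    {w : G} (hw : w ∈ P) (hw' : w ∉ (⁅P, P⁆ : Subgroup G)) : ∃ i, w ∈ line P (e i) := by
  classical
  haveI := Fintype.ofFinite G
  by_contra hn
  push Not at hn
  let f : Fin 5 → G := Fin.cons w e
  have hf : ∀ i, f i ∈ P ∧ f i ∉ (⁅P, P⁆ : Subgroup G) := Fin.cases ⟨hw, hw'⟩ fun i => ⟨he i, he' i⟩
  have hd : ∀ i j, i ≠ j → f j ∉ line P (f i) := by
    intro i j
    refine Fin.cases ?_ (fun i => ?_) i <;> refine Fin.cases ?_ (fun j => ?_) j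
    · exact fun hh => absurd rfl hh
    · intro _ hh
      exact hn j (h.line_eq hw hw' (he' j) hh ▸ mem_sup_left (mem_zpowers w))
    · exact fun _ => hn i
    · exact fun hh => hne i j fun e1 => hh (by rw [e1])
  set K := Finset.univ.filter fun v : G => v ∈ (⁅P, P⁆ : Subgroup G)
  set S : Fin 5 → Finset G := fun i => (Finset.univ.filter fun v : G => v ∈ line P (f i)) \ K
  have hc : ∀ H : Subgroup G, (Finset.univ.filter fun v : G => v ∈ H).card = Nat.card H := fun H => by
    rw [Nat.card_eq_fintype_card, Fintype.card_subtype]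
  have hdisj : ((Finset.univ : Finset (Fin 5)) : Set (Fin 5)).PairwiseDisjoint S := by
    intro i _ j _ hij
    refine Finset.disjoint_left.2 fun v hv hv' => hd i j hij ?_
    simp only [S, K, Finset.mem_sdiff, Finset.mem_filter, Finset.mem_univ, true_and] at hv hv'
    rw [← h.line_eq (hf i).1 (hf i).2 hv.2 hv.1, h.line_eq (hf j).1 (hf j).2 hv.2 hv'.1]
    exact mem_sup_left (mem_zpowers _)
  have hsub : Finset.univ.biUnion S ⊆ (Finset.univ.filter fun v : G => v ∈ P) \ K := by
    intro v hv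
    simp only [S, Finset.mem_biUnion, Finset.mem_univ, true_and, Finset.mem_sdiff, Finset.mem_filter] at hv ⊢
    obtain ⟨i, hi, hi'⟩ := hv
    exact ⟨h.line_le (hf i).1 hi, hi'⟩
  have hKP : K ⊆ Finset.univ.filter fun v : G => v ∈ P := fun v hv => by
    simp only [K, Finset.mem_filter, Finset.mem_univ, true_and] at hv ⊢
    exact h.derived_le hv
  have hKl : ∀ i, K ⊆ Finset.univ.filter fun v : G => v ∈ line P (f i) := fun i v hv => by
    simp only [K, Finset.mem_filter, Finset.mem_univ, true_and] at hv ⊢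
    exact mem_sup_right hv
  have h1 := Finset.card_le_card hsub
  rw [Finset.card_biUnion hdisj, Finset.card_sdiff_of_subset hKP, hc, h.card_eq, hc] at h1
  simp only [S] at h1
  rw [Finset.sum_congr rfl fun i _ => by
    rw [Finset.card_sdiff_of_subset (hKl i), hc, hc, h.card_line (hf i).1 (hf i).2]] at h1
  simp only [Finset.sum_const, Finset.card_univ, Fintype.card_fin, smul_eq_mul] at h1
  have := Nat.card_pos (α := (⁅P, P⁆ : Subgroup G))
  omega

end Shape

namespace Offender

variable {P T₀ B V : Subgroup G} (o : Offender 3 P T₀ B V)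

include o

theorem four_piece {e : G} (he : Active P V e) : 4 ≤ Nat.card (piece ⁅V, P⁆ e) := by
  set S := o.shape
  haveI := Fact.mk S.prime
  haveI : Fact (Nat.Prime 2) := ⟨Nat.prime_two⟩
  obtain ⟨w, hw, -, hwl⟩ := S.exists_notMem_lines {e} (fun f hf => by
    rw [Finset.mem_singleton] at hf; subst hf; exact ⟨he.1, he.2.1⟩) (Finset.singleton_nonempty e)
    (by rw [Finset.card_singleton]; norm_num)
  have hmod := card_modEq (S.exp w hw) (W := piece ⁅V, P⁆ e)
    (by
      refine zpowers_le.1 (le_normalizer_of_conj fun b hb u hu => ?_)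
      have hbP := zpowers_le.2 hw hb
      exact conj_mem_piece (o.norm_U (le_normalizer hbP) (o.pV hbP)) (o.comm_cent hbP he.1) hu)
    (fun u hu hc => Subgroup.mem_bot.1 ((o.piece_disjoint he.1 he.2.1 hw (hwl e (Finset.mem_singleton_self e))).le
      ⟨hu, mem_piece.2 ⟨(mem_piece.1 hu).1, hc⟩⟩))
  have h1 := (Subgroup.one_lt_card_iff_ne_bot _).2 he.2.2
  omega

/-- The configuration is impossible. -/
theorem no_three {m x y : G} (hm : m ∈ normalizer (P : Set G)) (hmV : m ∈ normalizer (V : Set G))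
    (hx : x ∈ P) (hx' : x ∉ (⁅P, P⁆ : Subgroup G)) (hy : y ∈ P) (hyx : y ∉ Shape.line P x)
    (hmx : m * x * m⁻¹ * x⁻¹ ∈ (⁅P, P⁆ : Subgroup G))
    (hmy : m * y * m⁻¹ * y⁻¹ ∈ Shape.line P x) (hmy' : m * y * m⁻¹ * y⁻¹ ∉ (⁅P, P⁆ : Subgroup G)) :
    False := by
  classical
  set S := o.shape
  haveI := Fact.mk S.prime
  haveI : Fact (Nat.Prime 2) := ⟨Nat.prime_two⟩
  set l := m * y * m⁻¹ * y⁻¹ with hl
  have hlP : l ∈ P := S.line_le hx hmy
  have hy' : y ∉ (⁅P, P⁆ : Subgroup G) := fun e => hyx (mem_sup_right e)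
  -- `m` fixes the line of `x` elementwise
  have hfixx : Shape.line P x ≤ S.fixMod hm := sup_le (zpowers_le.2 ⟨hx, hmx⟩) fun d hd =>
    ⟨S.derived_le hd, mul_mem (S.derived_normal hm hd) (Subgroup.inv_mem _ hd)⟩
  set f1 := m * y * m⁻¹
  set f2 := m * f1 * m⁻¹
  let e : Fin 4 → G := ![x, y, f1, f2]
  have hf1 : f1 = l * y := by rw [hl, inv_mul_cancel_right]
  have hf1P : f1 ∈ P := (mem_normalizer_iff.1 hm y).1 hy
  have hf2P : f2 ∈ P := (mem_normalizer_iff.1 hm f1).1 hf1P
  have hout : ∀ {c : G}, c ∉ (⁅P, P⁆ : Subgroup G) → m * c * m⁻¹ ∉ (⁅P, P⁆ : Subgroup G) := by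
    intro c hc hcd
    have := S.derived_normal (Subgroup.inv_mem _ hm) hcd
    rw [show m⁻¹ * (m * c * m⁻¹) * m⁻¹⁻¹ = c by group] at this
    exact hc this
  have heP : ∀ i, e i ∈ P := by intro i; fin_cases i; exacts [hx, hy, hf1P, hf2P]
  have he' : ∀ i, e i ∉ (⁅P, P⁆ : Subgroup G) := by
    intro i; fin_cases i; exacts [hx', hy', hout hy', hout (hout hy')]
  have hsymm : ∀ {a b : G}, a ∈ P → a ∉ (⁅P, P⁆ : Subgroup G) → b ∉ (⁅P, P⁆ : Subgroup G) →
      b ∉ Shape.line P a → b ∈ P → a ∉ Shape.line P b := fun {a b} ha ha' hb' h hb h' =>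
    h (S.line_eq hb hb' ha' h' ▸ mem_sup_left (mem_zpowers b))
  have hxy : x ∉ Shape.line P y := hsymm hx hx' hy' hyx hy
  have hxi : ∀ {a : G}, a ∈ Shape.line P x → a ∈ Shape.line P y → a ∈ (⁅P, P⁆ : Subgroup G) := by
    intro a h1 h2
    by_contra ha
    refine hxy ?_
    rw [← S.line_eq hy hy' ha h2, S.line_eq hx hx' ha h1]
    exact mem_sup_left (mem_zpowers x)
  have h1x : f1 ∉ Shape.line P x := fun h => hyx (by
    rw [show y = l⁻¹ * f1 by rw [hf1, inv_mul_cancel_left]]
    exact mul_mem (Subgroup.inv_mem _ hmy) h)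
  have hml : m * l * m⁻¹ * l⁻¹ ∈ (⁅P, P⁆ : Subgroup G) := (hfixx hmy).2
  have hml' : m * l * m⁻¹ ∈ Shape.line P x := by
    rw [show m * l * m⁻¹ = m * l * m⁻¹ * l⁻¹ * l by group]
    exact mul_mem (mem_sup_right hml) hmy
  have hf2 : f2 = (m * l * m⁻¹ * l) * y := by
    show m * f1 * m⁻¹ = _
    calc m * f1 * m⁻¹ = m * l * m⁻¹ * (m * y * m⁻¹) := by rw [hf1]; group
      _ = m * l * m⁻¹ * (l * y) := by rw [← hf1]
      _ = _ := by group
  have h2x : f2 ∉ Shape.line P x := fun h => hyx (by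
    rw [show y = (m * l * m⁻¹ * l)⁻¹ * f2 by rw [hf2, inv_mul_cancel_left]]
    exact mul_mem (Subgroup.inv_mem _ (mul_mem hml' hmy)) h)
  have h1y : f1 ∉ Shape.line P y := fun h => hmy' (hxi hmy (by
    rw [show l = f1 * y⁻¹ by rw [hf1, mul_inv_cancel_right]]
    exact mul_mem h (Subgroup.inv_mem _ (mem_sup_left (mem_zpowers y)))))
  have h2y : f2 ∉ Shape.line P y := fun h => by
    have h1 : m * l * m⁻¹ * l ∈ (⁅P, P⁆ : Subgroup G) := hxi (mul_mem hml' hmy) (by
      rw [show m * l * m⁻¹ * l = f2 * y⁻¹ by rw [hf2, mul_inv_cancel_right]]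
      exact mul_mem h (Subgroup.inv_mem _ (mem_sup_left (mem_zpowers y))))
    refine hmy' ?_
    have h2 : l ^ 2 ∈ (⁅P, P⁆ : Subgroup G) := by
      rw [show l ^ 2 = (m * l * m⁻¹ * l⁻¹)⁻¹ * (m * l * m⁻¹ * l) by rw [pow_two]; group]
      exact mul_mem (Subgroup.inv_mem _ hml) h1
    obtain ⟨n, hn⟩ := exists_pow_eq_self_of_coprime (n := 2) (x := l) (Nat.Coprime.coprime_dvd_right
      (orderOf_dvd_of_pow_eq_one (S.exp l hlP)) (by norm_num))
    rw [← hn]
    exact pow_mem h2 n
  have hmap : ∀ {a b : G}, b ∈ Shape.line P a → m * b * m⁻¹ ∈ Shape.line P (m * a * m⁻¹) := by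
    intro a b hb
    have hle : Shape.line P a ≤ (Shape.line P (m * a * m⁻¹)).comap (MulAut.conj m).toMonoidHom :=
      sup_le (zpowers_le.2 (mem_sup_left (mem_zpowers _))) fun d hd => mem_sup_right (S.derived_normal hm hd)
    exact hle hb
  have h21 : f2 ∉ Shape.line P f1 := fun h => by
    refine h1y ?_
    have hle : Shape.line P f1 ≤ (Shape.line P y).map (MulAut.conj m).toMonoidHom :=
      sup_le (zpowers_le.2 ⟨y, mem_sup_left (mem_zpowers y), rfl⟩) fun d hd => ⟨m⁻¹ * d * m,
        mem_sup_right (by simpa using S.derived_normal (Subgroup.inv_mem _ hm) hd), by simp [mul_assoc]⟩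
    obtain ⟨w, hw, hwe⟩ := hle h
    have hwf : w = f1 := (MulAut.conj m).injective hwe
    rwa [← hwf]
  have hne : ∀ i j, i ≠ j → e j ∉ Shape.line P (e i) := by
    intro i j hij
    fin_cases i <;> fin_cases j
    exacts [absurd rfl hij, hyx, h1x, h2x,
      hxy, absurd rfl hij, h1y, h2y,
      hsymm hx hx' (he' 2) h1x hf1P, hsymm hy hy' (he' 2) h1y hf1P, absurd rfl hij, h21,
      hsymm hx hx' (he' 3) h2x hf2P, hsymm hy hy' (he' 3) h2y hf2P,
        hsymm hf1P (he' 2) (he' 3) h21 hf2P, absurd rfl hij]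
  have hcov := fun {w : G} (hw : w ∈ P) (hw' : w ∉ (⁅P, P⁆ : Subgroup G)) => S.cover_four e heP he' hne hw hw'
  have hrep : ∀ {w : G}, Active P V w → ∀ i, w ∈ Shape.line P (e i) → Active P V (e i) := by
    intro w hw i hi
    refine ⟨heP i, he' i, fun hb => hw.2.2 (le_bot_iff.1 (hb ▸ o.piece_line ?_))⟩
    rw [S.line_eq (heP i) (he' i) hw.2.1 hi]
    exact mem_sup_left (mem_zpowers _)
  -- some line other than that of `x` is active
  obtain ⟨t, ht, htx⟩ : ∃ t ∈ T₀, t * x * t⁻¹ ∉ Shape.line P x := by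
    by_contra hn
    push Not at hn
    rcases S.irr (Shape.line P x) le_sup_right (S.line_le hx) (fun t ht d hd => by
      have hle : Shape.line P x ≤ (Shape.line P x).comap (MulAut.conj t).toMonoidHom :=
        sup_le (zpowers_le.2 (hn t ht)) fun d hd => mem_sup_right (S.derived_mem ht hd)
      exact hle hd) with e1 | e1
    · exact hx' (e1 ▸ mem_sup_left (mem_zpowers x))
    · exact S.line_ne hx e1
  have htP := S.normalizes ht
  have hthree : Active P V y ∧ Active P V f1 ∧ Active P V f2 := by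
    obtain ⟨w, hw, hwx⟩ : ∃ w, Active P V w ∧ w ∉ Shape.line P x := by
      obtain ⟨a, b, ha, hb, hba⟩ := o.exists_two
      by_contra hn
      push Not at hn
      refine hba ?_
      rw [S.line_eq hx hx' ha.2.1 (hn a ha)]
      exact hn b hb
    obtain ⟨i, hi⟩ := hcov hw.1 hw.2.1
    have hi' := hrep hw i hi
    have hback : ∀ {c : G}, Active P V (m * c * m⁻¹) → Active P V c := fun {c} hc => by
      have := o.active_conj (Subgroup.inv_mem _ hm) (Subgroup.inv_mem _ hmV) hc
      rwa [show m⁻¹ * (m * c * m⁻¹) * m⁻¹⁻¹ = c by group] at this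
    have hfwd : ∀ {c : G}, Active P V c → Active P V (m * c * m⁻¹) := fun {c} hc => o.active_conj hm hmV hc
    fin_cases i
    · exact absurd hi hwx
    · exact ⟨hi', hfwd hi', hfwd (hfwd hi')⟩
    · exact ⟨hback hi', hi', hfwd hi'⟩
    · exact ⟨hback (hback hi'), hback hi', hi'⟩
  have hxact : Active P V x := by
    have htP' : t * x * t⁻¹ ∈ P := (mem_normalizer_iff.1 htP x).1 hx
    have ht' : t * x * t⁻¹ ∉ (⁅P, P⁆ : Subgroup G) := fun h => htx (mem_sup_right h)
    obtain ⟨i, hi⟩ := hcov htP' ht'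
    have hact : Active P V (e i) := by
      fin_cases i
      exacts [absurd hi htx, hthree.1, hthree.2.1, hthree.2.2]
    have h1 : Active P V (t * x * t⁻¹) := by
      refine ⟨htP', ht', fun hb => hact.2.2 (le_bot_iff.1 (hb ▸ o.piece_line hi))⟩
    have := o.active_conj (Subgroup.inv_mem _ htP) (Subgroup.inv_mem _ (o.tV ht)) h1
    rwa [show t⁻¹ * (t * x * t⁻¹) * t⁻¹⁻¹ = x by group] at this
  have hall : ∀ i, Active P V (e i) := by
    intro i; fin_cases i
    exacts [hxact, hthree.1, hthree.2.1, hthree.2.2]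
  have hinj : Function.Injective e := fun i j h => by
    by_contra hij
    exact hne i j hij (h ▸ mem_sup_left (mem_zpowers _))
  obtain ⟨-, hsmall | ⟨a, ha, haP, hneg⟩⟩ := o.index_cases
  · -- index at most four
    obtain ⟨a, ha, haV⟩ := SetLike.not_le_iff_exists.1 o.bMoved
    obtain ⟨w, hw, hwd, haw⟩ := S.exists_inverted (o.bP ha)
      (o.trivial_on_P (mul_mem (o.bT ha) (o.bT ha)) (o.bSq a ha)) fun e => haV (o.faith a (o.bT ha) e)
    obtain ⟨i, hi⟩ := hcov hw hwd
    set s := (Finset.univ.erase i).image e with hs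
    have hmem : ∀ c ∈ s, ∃ j, j ≠ i ∧ e j = c := fun c hc => by
      simp only [hs, Finset.mem_image, Finset.mem_erase, Finset.mem_univ, and_true] at hc
      exact hc
    have hcard : s.card = 3 := by
      rw [hs, Finset.card_image_of_injective _ hinj, Finset.card_erase_of_mem (Finset.mem_univ i)]
      rfl
    have h1 := o.join_data ha hw haw s (fun c hc => by obtain ⟨j, -, rfl⟩ := hmem c hc; exact hall j)
      (fun c hc d hd hcd => by
        obtain ⟨j, -, rfl⟩ := hmem c hc
        obtain ⟨k, -, rfl⟩ := hmem d hd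
        exact hne j k fun h => hcd (h ▸ rfl))
      (fun c hc hwc => by
        obtain ⟨j, hj, rfl⟩ := hmem c hc
        refine hne i j (Ne.symm hj) ?_
        rw [← S.line_eq (heP i) (he' i) hwd hi, S.line_eq (heP j) (he' j) hwd hwc]
        exact mem_sup_left (mem_zpowers _))
    have h2 := (Finset.pow_card_le_prod s (fun c => Nat.card (piece ⁅V, P⁆ c)) 4 fun c hc => by
      obtain ⟨j, -, rfl⟩ := hmem c hc; exact o.four_piece (hall j)).trans h1
    rw [hcard] at h2
    have h3 := h2.trans (Nat.pow_le_pow_left hsmall 2)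
    norm_num at h3
  -- minus one is present
  by_cases h4 : (V ⊓ centralizer (B : Set G)).relIndex V ≤ 4
  · -- as before
    have ha2 := o.trivial_on_P (mul_mem (o.bT ha) (o.bT ha)) (o.bSq a ha)
    obtain ⟨w, hw, hwd, haw⟩ := S.exists_inverted (o.bP ha) ha2 haP
    obtain ⟨i, hi⟩ := hcov hw hwd
    set s := (Finset.univ.erase i).image e with hs
    have hmem : ∀ c ∈ s, ∃ j, j ≠ i ∧ e j = c := fun c hc => by
      simp only [hs, Finset.mem_image, Finset.mem_erase, Finset.mem_univ, and_true] at hc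
      exact hc
    have hcard : s.card = 3 := by
      rw [hs, Finset.card_image_of_injective _ hinj, Finset.card_erase_of_mem (Finset.mem_univ i)]
      rfl
    have h1 := o.join_data ha hw haw s (fun c hc => by obtain ⟨j, -, rfl⟩ := hmem c hc; exact hall j)
      (fun c hc d hd hcd => by
        obtain ⟨j, -, rfl⟩ := hmem c hc
        obtain ⟨k, -, rfl⟩ := hmem d hd
        exact hne j k fun h => hcd (h ▸ rfl))
      (fun c hc hwc => by
        obtain ⟨j, hj, rfl⟩ := hmem c hc
        refine hne i j (Ne.symm hj) ?_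
        rw [← S.line_eq (heP i) (he' i) hwd hi, S.line_eq (heP j) (he' j) hwd hwc]
        exact mem_sup_left (mem_zpowers _))
    have h2 := (Finset.pow_card_le_prod s (fun c => Nat.card (piece ⁅V, P⁆ c)) 4 fun c hc => by
      obtain ⟨j, -, rfl⟩ := hmem c hc; exact o.four_piece (hall j)).trans h1
    rw [hcard] at h2
    have h3 := h2.trans (Nat.pow_le_pow_left h4 2)
    norm_num at h3
  -- a second automorphism moves a line
  obtain ⟨b, hb, i, hbi⟩ : ∃ b ∈ B, ∃ i, b * e i * b⁻¹ ∉ Shape.line P (e i) := by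
    by_contra hn
    push Not at hn
    refine h4 (o.small.trans ((Nat.pow_le_pow_left ?_ 2).trans (by norm_num : (2 : ℕ) ^ 2 ≤ 4)))
    rw [← o.kern_eq, relIndex, index_eq_card]
    have hcent : ∀ b ∈ B, b ∈ centralizer (P : Set G) ∨ a⁻¹ * b ∈ centralizer (P : Set G) := by
      intro b hb
      have hb2 := o.trivial_on_P (mul_mem (o.bT hb) (o.bT hb)) (o.bSq b hb)
      have hcase := fun i => S.line_cases (o.bP hb) hb2 (heP i) (he' i) (hn b hb i)
      have hfin : ∀ i j, i ≠ j → ((Shape.line P (e i) ≤ S.fixMod (o.bP hb) ∧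
          Shape.line P (e j) ≤ S.fixMod (o.bP hb)) → b ∈ centralizer (P : Set G)) ∧
          ((Shape.line P (e i) ≤ S.negMod (o.bP hb) ∧ Shape.line P (e j) ≤ S.negMod (o.bP hb)) →
            a⁻¹ * b ∈ centralizer (P : Set G)) := by
        intro i j hij
        have hP := S.line_sup (heP i) (heP j) (he' i) (hne i j hij)
        constructor <;> rintro ⟨h1, h2⟩
        · exact S.mem_centralizer_of_mod (m := 2) (o.bP hb)
            (fun w hw => ((sup_le h1 h2) (hP.ge hw)).2) (by rwa [pow_two]) (by norm_num)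
        · refine S.mem_centralizer_of_mod (m := 2) (mul_mem (Subgroup.inv_mem _ (o.bP ha)) (o.bP hb))
            (fun w hw => ?_) ?_ (by norm_num)
          · have hbw := ((sup_le h1 h2) (hP.ge hw)).2
            have := S.derived_normal (Subgroup.inv_mem _ (o.bP ha))
              (mul_mem hbw (Subgroup.inv_mem _ (hneg w hw)))
            rwa [show a⁻¹ * (b * w * b⁻¹ * w * (a * w * a⁻¹ * w)⁻¹) * a⁻¹⁻¹ =
              a⁻¹ * b * w * (a⁻¹ * b)⁻¹ * w⁻¹ by group] at this
          · have hab : a⁻¹ * b ∈ B := mul_mem (Subgroup.inv_mem _ ha) hb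
            rw [pow_two]
            exact o.trivial_on_P (mul_mem (o.bT hab) (o.bT hab)) (o.bSq _ hab)
      rcases hcase 0 with h0 | h0 <;> rcases hcase 1 with h1 | h1 <;> rcases hcase 2 with h2 | h2
      all_goals first
        | exact Or.inl ((hfin 0 1 (by decide)).1 ⟨h0, h1⟩)
        | exact Or.inr ((hfin 0 1 (by decide)).2 ⟨h0, h1⟩)
        | exact Or.inl ((hfin 0 2 (by decide)).1 ⟨h0, h2⟩)
        | exact Or.inr ((hfin 0 2 (by decide)).2 ⟨h0, h2⟩)
        | exact Or.inl ((hfin 1 2 (by decide)).1 ⟨h1, h2⟩)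
        | exact Or.inr ((hfin 1 2 (by decide)).2 ⟨h1, h2⟩)
    refine (Nat.card_le_card_of_injective
      (fun q : B ⧸ (centralizer (P : Set G)).subgroupOf B => decide ((q.out : G) ∈ centralizer (P : Set G)))
      fun q r hqr => ?_).trans (by simp)
    simp only [decide_eq_decide] at hqr
    rw [← Quotient.out_eq q, ← Quotient.out_eq r]
    refine QuotientGroup.eq.2 ?_
    show (q.out : G)⁻¹ * r.out ∈ centralizer (P : Set G)
    by_cases hq : (q.out : G) ∈ centralizer (P : Set G)
    · exact mul_mem (Subgroup.inv_mem _ hq) (hqr.1 hq)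
    · have h1 := (hcent _ q.out.2).resolve_left hq
      have h2 := (hcent _ r.out.2).resolve_left fun h => hq (hqr.2 h)
      rw [show (q.out : G)⁻¹ * r.out = (a⁻¹ * (q.out : G))⁻¹ * (a⁻¹ * r.out) by group]
      exact mul_mem (Subgroup.inv_mem _ h1) h2
  -- the displacement by `a`
  set U := (⁅V, P⁆ : Subgroup G) with hU
  have haU : a ∈ normalizer (U : Set G) := o.norm_U (o.bP ha) (o.bV ha)
  have haa : ∀ v ∈ U, a * (a * v * a⁻¹) * a⁻¹ = v := fun v hv => by
    rw [show a * (a * v * a⁻¹) * a⁻¹ = a * a * v * (a * a)⁻¹ by group,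
      ← mem_centralizer_iff.1 (o.bSq a ha) v (o.U_le hv), mul_inv_cancel_right]
  let ψ : U →* U := MonoidHom.mk' (fun v => v * ⟨a * v * a⁻¹, (mem_normalizer_iff.1 haU v).1 v.2⟩)
    fun v w => Subtype.ext (by
      show (v : G) * w * (a * ((v : G) * w) * a⁻¹) = (v : G) * (a * v * a⁻¹) * ((w : G) * (a * w * a⁻¹))
      have hc := o.U_comm (w : G) w.2 (a * v * a⁻¹) ((mem_normalizer_iff.1 haU v).1 v.2)
      calc (v : G) * w * (a * ((v : G) * w) * a⁻¹) = (v : G) * ((w : G) * (a * v * a⁻¹)) * (a * w * a⁻¹) := by group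
        _ = (v : G) * (a * v * a⁻¹ * w) * (a * w * a⁻¹) := by rw [hc]
        _ = _ := by group)
  have hgen : ∀ j, ∃ u : U, u ∈ ψ.range ∧ (u : G) ∈ piece U (e j) ∧ u ≠ 1 := by
    intro j
    -- `a` inverts an element moving the piece
    obtain ⟨k, hjk⟩ : ∃ k, k ≠ j := exists_ne j
    set w := a * e k * a⁻¹ * (e k)⁻¹ with hw
    have hwP : w ∈ P := mul_mem ((mem_normalizer_iff.1 (o.bP ha) _).1 (heP k)) (Subgroup.inv_mem _ (heP k))
    have haw : a * w * a⁻¹ = w⁻¹ :=
      S.inverted (o.trivial_on_P (mul_mem (o.bT ha) (o.bT ha)) (o.bSq a ha)) (heP k)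
    by_contra hn
    push Not at hn
    obtain ⟨u, hu, hu1⟩ := ((piece U (e j)).ne_bot_iff_exists_ne_one).1 (hall j).2.2 |> fun ⟨u, h⟩ =>
      (⟨u, u.2, fun e1 => h (Subtype.ext e1)⟩ : ∃ u, u ∈ piece U (e j) ∧ u ≠ 1)
    refine hu1 ?_
    -- `a` fixes the piece pointwise
    have hfix : ∀ v ∈ piece U (e j), a * v * a⁻¹ = v := by
      intro v hv
      have hvU := (mem_piece.1 hv).1
      have hav : a * v * a⁻¹ ∈ piece U (e j) := by
        refine mem_piece.2 ⟨(mem_normalizer_iff.1 haU v).1 hvU, ?_⟩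
        have h1 : a * v * a⁻¹ ∈ piece U (a * e j * a⁻¹) := by
          rw [piece_map haU]; exact ⟨v, hv, rfl⟩
        refine mem_centralizer_singleton_iff.1 (o.line_cent h1 ?_)
        have h2 : a * e j * a⁻¹ * e j ∈ Shape.line P (a * e j * a⁻¹) := mem_sup_right (hneg _ (heP j))
        have h3 := mul_mem (Subgroup.inv_mem _ (mem_sup_left (mem_zpowers _))) h2
        rwa [show (a * e j * a⁻¹)⁻¹ * (a * e j * a⁻¹ * e j) = e j by group] at h3
      have h1 := hn (ψ ⟨v, hvU⟩) ⟨_, rfl⟩ (mul_mem hv hav)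
      have h2 : v * (a * v * a⁻¹) = 1 := congrArg Subtype.val h1
      rw [eq_inv_of_mul_eq_one_right h2, inv_eq_iff_mul_eq_one]
      exact o.vSq v (o.U_le hvU)
    -- hence so does `w`
    have hwU : w ∈ normalizer (U : Set G) := o.norm_U (le_normalizer hwP) (o.pV hwP)
    have hwu : w * u * w⁻¹ ∈ piece U (e j) := conj_mem_piece hwU (o.comm_cent hwP (heP j)) hu
    have h3 : w⁻¹ * u * w = w * u * w⁻¹ := by
      calc w⁻¹ * u * w = a * w * a⁻¹ * (a * u * a⁻¹) * (a * w * a⁻¹)⁻¹ := by
            rw [haw, hfix u hu, inv_inv]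
        _ = a * (w * u * w⁻¹) * a⁻¹ := by group
        _ = _ := hfix _ hwu
    have h4 : w * u = u * w := o.fix_of_sq (S.exp w hwP) (by
      calc w * w * u = w * (w * u * w⁻¹) * w := by group
        _ = w * (w⁻¹ * u * w) * w := by rw [h3]
        _ = _ := by group)
    -- `w` is congruent to the inverse square of `e k`
    refine Subgroup.mem_bot.1 ((o.piece_disjoint (heP j) (he' j) hwP fun hwl => hne j k (Ne.symm hjk) ?_).le
      ⟨hu, mem_piece.2 ⟨(mem_piece.1 hu).1, h4⟩⟩)
    have h5 : (e k) ^ 2 ∈ Shape.line P (e j) := by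
      rw [show (e k) ^ 2 = w⁻¹ * (a * e k * a⁻¹ * e k) by rw [hw, pow_two]; group]
      exact mul_mem (Subgroup.inv_mem _ hwl) (mem_sup_right (hneg _ (heP k)))
    obtain ⟨n, hn'⟩ := exists_pow_eq_self_of_coprime (n := 2) (x := e k) (Nat.Coprime.coprime_dvd_right
      (orderOf_dvd_of_pow_eq_one (S.exp _ (heP k))) (by norm_num))
    rw [← hn']
    exact pow_mem h5 n
  choose u hu hupiece hu1 using hgen
  -- independence
  have hind := fun (t : Finset (Fin 4)) (i : Fin 4) (hi : i ∉ t) =>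
    independent o.U_comm e Finset.univ (fun i _ => o.norm_U (le_normalizer (heP i)) (o.pV (heP i)))
      (fun i _ j _ => o.comm_cent (heP i) (heP j))
      (fun i _ j _ hij => o.piece_disjoint (heP i) (he' i) (heP j) (hne i j hij))
      t (Finset.subset_univ t) i (Finset.mem_univ i) hi
  have hchain : ∀ t : Finset (Fin 4), ∃ Q : Subgroup G, Q ≤ (ψ.range).map U.subtype ∧ Q ≤ join U e t ∧
      2 ^ t.card ≤ Nat.card Q := by
    intro t
    induction t using Finset.induction with
    | empty => exact ⟨⊥, bot_le, bot_le, by simp⟩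
    | insert i t hi ih =>
      obtain ⟨Q, hQ1, hQ2, hQ3⟩ := ih
      refine ⟨Q ⊔ zpowers (u i : G), sup_le hQ1 (zpowers_le.2 ⟨u i, hu i, rfl⟩),
        sup_le (hQ2.trans (Finset.sup_mono (Finset.subset_insert i t)))
          (zpowers_le.2 (Finset.le_sup (f := fun i => piece U (e i)) (Finset.mem_insert_self i t) (hupiece i))),
        ?_⟩
      have hlt : Q < Q ⊔ zpowers (u i : G) := lt_of_le_of_ne le_sup_left fun h => hu1 i (Subtype.ext
        (Subgroup.mem_bot.1 ((hind t i hi).le ⟨hupiece i, hQ2 (h ▸ mem_sup_right (mem_zpowers _))⟩)))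
      obtain ⟨c, hc⟩ := Subgroup.card_dvd_of_le (le_sup_left : Q ≤ Q ⊔ zpowers (u i : G))
      rw [Finset.card_insert_of_notMem hi, pow_succ, hc]
      have hc2 : 2 ≤ c := by
        by_contra h2
        have hle : Nat.card ↥(Q ⊔ zpowers (u i : G)) ≤ Nat.card Q := by
          rw [hc]; exact le_of_le_of_eq (Nat.mul_le_mul_left _ (by omega : c ≤ 1)) (mul_one _)
        exact hlt.ne (Subgroup.eq_of_le_of_card_ge le_sup_left hle)
      exact Nat.mul_le_mul hQ3 hc2
  have h16 : 16 ≤ Nat.card ψ.range := by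
    obtain ⟨Q, hQ, -, hQc⟩ := hchain Finset.univ
    rw [← card_map_of_injective U.subtype_injective]
    exact le_trans (by simpa using hQc) (Subgroup.card_le_of_le hQ)
  -- the fixed points of `B` are smaller
  set D := (centralizer (B : Set G)).subgroupOf U with hD
  have hDker : D < ψ.ker := by
    refine lt_of_le_of_ne (fun v hv => ?_) fun h => ?_
    · refine MonoidHom.mem_ker.2 (Subtype.ext ?_)
      show (v : G) * (a * v * a⁻¹) = 1
      rw [mem_centralizer_iff.1 (show (v : G) ∈ centralizer (B : Set G) from hv) a ha, mul_inv_cancel_right]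
      exact o.vSq v (o.U_le v.2)
    · obtain ⟨v, hv⟩ := hu i
      have hmem : u i ∈ ψ.ker := by
        refine MonoidHom.mem_ker.2 (Subtype.ext ?_)
        show (u i : G) * (a * u i * a⁻¹) = 1
        have e1 : (v : G) * (a * v * a⁻¹) = u i := congrArg Subtype.val hv
        have hv' := (mem_normalizer_iff.1 haU v).1 v.2
        rw [← e1, show a * ((v : G) * (a * v * a⁻¹)) * a⁻¹ = a * v * a⁻¹ * (a * (a * v * a⁻¹) * a⁻¹) by group,
          haa v v.2, ← o.U_comm v v.2 _ hv']
        exact o.vSq _ (o.U_le (mul_mem v.2 hv'))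
      rw [← h] at hmem
      have hbu : b * (u i : G) * b⁻¹ = u i := by
        rw [mem_centralizer_iff.1 (show (u i : G) ∈ centralizer (B : Set G) from hmem) b hb, mul_inv_cancel_right]
      refine hu1 i (Subtype.ext (Subgroup.mem_bot.1 ((o.piece_disjoint (heP i) (he' i)
        ((mem_normalizer_iff.1 (o.bP hb) _).1 (heP i)) hbi).le ⟨hupiece i, ?_⟩)))
      rw [piece_map (o.norm_U (o.bP hb) (o.bV hb))]
      exact ⟨u i, hupiece i, hbu⟩
  have h32 : 2 * 16 ≤ D.index := by
    rw [← Subgroup.relIndex_mul_index hDker.le, Subgroup.index_ker]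
    refine Nat.mul_le_mul ?_ h16
    have h1 : D.relIndex ψ.ker ≠ 1 := fun h => hDker.not_ge (relIndex_eq_one.1 h)
    have h0 : D.relIndex ψ.ker ≠ 0 := index_ne_zero_of_finite
    omega
  have hle : D.index ≤ (V ⊓ centralizer (B : Set G)).relIndex V := by
    have e1 : D.index = (V ⊓ centralizer (B : Set G)).relIndex U := by
      show (centralizer (B : Set G)).relIndex U = _
      rw [← inf_relIndex_right (centralizer (B : Set G)) U, ← inf_relIndex_right (V ⊓ centralizer (B : Set G)) U]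
      congr 1
      rw [inf_comm V, inf_assoc, inf_eq_right.2 o.U_le]
    rw [e1]
    exact relIndex_le_of_le_right o.U_le index_ne_zero_of_finite
  have := o.index_cases.1
  omega

end Offender

end Cfsg.Agent.QTXi
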