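import Cfsg.Agent.Lib.QTXi.Defs
import Cfsg.Agent.Lib.Coprime.OmegaDetect
import Cfsg.Agent.Lib.Coprime.Generation

/-!
# Coprime action of an irreducible pair

If every odd prime has rank at most two, an irreducible pair centralises every `q`-group it normalises,
for odd `q ≠ p`. In a minimal counterexample `U` the fixed points `U₀` of `P` are central of index at most
`q ^ 2`, and the subgroups of fixed points of single elements of `P` between `U₀` and `U` are two lines
permuted by `T`, which makes `T` reducible on `P`.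
-/

set_option autoImplicit false
set_option linter.unusedSectionVars false
set_option linter.style.haveILetI false

namespace Cfsg.Agent.QTXi

open Subgroup Cfsg.Agent
open scoped commutatorElement

universe u

variable {A : Type u} [Group A]

namespace Rigid

theorem mem_cent_singleton {a x : A} : x ∈ centralizer ({a} : Set A) ↔ a * x = x * a :=
  ⟨fun h => mem_centralizer_iff.1 h a rfl, fun h => mem_centralizer_iff.2 fun _ hb => by
    obtain rfl := Set.mem_singleton_iff.1 hb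
    exact h⟩

/-- A smallest moved subgroup. -/
structure Mini (p q : ℕ) (P T U : Subgroup A) : Prop where
  shape : Shape p P T
  qprime : q.Prime
  qodd : q ≠ 2
  ne : q ≠ p
  rank : Cfsg.PRankLE q 2 A
  pgroup : IsPGroup q U
  nP : P ≤ normalizer (U : Set A)
  nT : T ≤ normalizer (U : Set A)
  small : ∀ D : Subgroup A, D ≤ U → P ≤ normalizer (D : Set A) → T ≤ normalizer (D : Set A) → D ≠ U →
    P ≤ centralizer (D : Set A)
  moved : ¬ P ≤ centralizer (U : Set A)

namespace Mini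

variable [Finite A] {p q : ℕ} {P T U : Subgroup A} (M : Mini p q P T U)

include M

theorem coprime : (Nat.card P).Coprime (Nat.card U) := by
  haveI : Fact q.Prime := ⟨M.qprime⟩
  haveI : Fact p.Prime := ⟨M.shape.prime⟩
  obtain ⟨a, ha⟩ := IsPGroup.iff_card.1 M.shape.isPGroup
  obtain ⟨b, hb⟩ := IsPGroup.iff_card.1 M.pgroup
  rw [ha, hb]
  exact ((Nat.coprime_primes M.shape.prime M.qprime).2 M.ne.symm).pow a b

theorem solvable : Group.IsSolvable P ∨ Group.IsSolvable U := by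
  haveI : Fact p.Prime := ⟨M.shape.prime⟩
  exact Or.inl (Coprime.isSolvable_of_isPGroup M.shape.isPGroup)

theorem inter_eq_one {x : A} (hP : x ∈ P) (hU : x ∈ U) : x = 1 :=
  Subgroup.mem_bot.1 ((Coprime.disjoint_of_coprime M.coprime).le_bot ⟨hP, hU⟩)

theorem coprime_order {g d : A} (hg : g ∈ P) (hd : d ∈ U) : (orderOf g).Coprime (orderOf d) :=
  (M.coprime.coprime_dvd_left (Subgroup.orderOf_dvd_natCard _ hg)).coprime_dvd_right
    (Subgroup.orderOf_dvd_natCard _ hd)

theorem conjP {g x : A} (hg : g ∈ normalizer (P : Set A)) (hx : x ∈ P) : g * x * g⁻¹ ∈ P :=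
  (mem_normalizer_iff.1 hg x).1 hx

theorem conjU {g x : A} (hg : g ∈ normalizer (U : Set A)) (hx : x ∈ U) : g * x * g⁻¹ ∈ U :=
  (mem_normalizer_iff.1 hg x).1 hx

theorem commutator_eq : ⁅U, P⁆ = U := by
  by_contra hne
  have hle : ⁅U, P⁆ ≤ U := Coprime.commutator_le_of_le_normalizer M.nP
  have hT : T ≤ normalizer ((⁅U, P⁆ : Subgroup A) : Set A) := fun t ht => by
    rw [← Coprime.conj_smul_eq_self_iff, Coprime.conj_smul_commutator,
      Coprime.conj_smul_eq_self_iff.2 (M.nT ht), Coprime.conj_smul_eq_self_iff.2 (M.shape.normalizes ht)]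
  have h := M.small _ hle (normalizer_commutator_ge_right U P) hT hne
  exact M.moved (Coprime.le_centralizer_of_commutator_commutator_eq_bot M.nP M.coprime M.solvable
    (Coprime.commutator_eq_bot_iff_le_centralizer'.2 h))

theorem derived_fixed : P ≤ centralizer ((⁅U, U⁆ : Subgroup A) : Set A) := by
  haveI : Fact q.Prime := ⟨M.qprime⟩
  haveI : Group.IsNilpotent U := M.pgroup.isNilpotent
  have hU : U ≠ ⊥ := fun e => M.moved fun x _ => by
    rw [mem_centralizer_iff]
    intro y hy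
    rw [SetLike.mem_coe, e, Subgroup.mem_bot] at hy
    rw [hy, one_mul, mul_one]
  have hn : ∀ g ∈ normalizer (U : Set A), g ∈ normalizer ((⁅U, U⁆ : Subgroup A) : Set A) := fun g hg => by
    rw [← Coprime.conj_smul_eq_self_iff, Coprime.conj_smul_commutator, Coprime.conj_smul_eq_self_iff.2 hg]
  exact M.small _ (commutator_le_self U) (fun g hg => hn g (M.nP hg)) (fun g hg => hn g (M.nT hg))
    (Coprime.commutator_lt_of_isNilpotent le_rfl hU le_normalizer).ne

theorem central {D : Subgroup A} (hD : D ≤ U) (hP : P ≤ centralizer (D : Set A)) :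
    U ≤ centralizer (D : Set A) := by
  have h1 : ⁅⁅P, D⁆, U⁆ = ⊥ := by
    rw [commutator_eq_bot_iff_le_centralizer.2 hP, commutator_bot_left]
  have h2 : ⁅⁅D, U⁆, P⁆ = ⊥ := le_bot_iff.1 <| by
    refine le_trans (commutator_mono (commutator_mono hD le_rfl) le_rfl) (le_of_eq ?_)
    exact Coprime.commutator_eq_bot_iff_le_centralizer'.2 M.derived_fixed
  have h3 := commutator_commutator_eq_bot_of_rotate h1 h2
  rw [M.commutator_eq] at h3
  exact commutator_eq_bot_iff_le_centralizer.1 h3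

theorem comm_central {x y z : A} (hx : x ∈ U) (hy : y ∈ U) (hz : z ∈ U) :
    Commute ⁅x, y⁆ z :=
  mem_centralizer_iff.1 (M.central (commutator_le_self U) M.derived_fixed hz) _
    (commutator_mem_commutator hx hy)

theorem pow_q {x : A} (hx : x ∈ U) : x ^ q = 1 := by
  haveI : Fact q.Prime := ⟨M.qprime⟩
  have hmul : ∀ {a b : A}, a ∈ U → b ∈ U → a ^ q = 1 → b ^ q = 1 → (b * a) ^ q = 1 := by
    intro a b ha hb haq hbq
    have hc : a * b = b * a * ⁅a⁻¹, b⁻¹⁆ := by rw [commutatorElement_def]; group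
    have hca : Commute ⁅a⁻¹, b⁻¹⁆ a := M.comm_central (inv_mem ha) (inv_mem hb) ha
    have hcb : Commute ⁅a⁻¹, b⁻¹⁆ b := M.comm_central (inv_mem ha) (inv_mem hb) hb
    have hcq : ⁅a⁻¹, b⁻¹⁆ ^ q = 1 := by
      have h1 : (b⁻¹ * a * b) ^ q = 1 := by
        have h := conj_pow (a := b⁻¹) (b := a) (i := q)
        rw [inv_inv] at h
        rw [h, haq, mul_one, inv_mul_cancel]
      rw [show b⁻¹ * a * b = a * ⁅a⁻¹, b⁻¹⁆ by rw [mul_assoc, hc]; group, hca.symm.mul_pow, haq, one_mul] at h1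
      exact h1
    have hdvd : q ∣ q.choose 2 := M.qprime.dvd_choose_self two_ne_zero
      (lt_of_le_of_ne M.qprime.two_le fun h => M.qodd h.symm)
    obtain ⟨m, hm⟩ := hdvd
    rw [Coprime.OmegaDetect.mul_pow_central hc hca hcb, haq, hbq, hm, pow_mul, hcq, one_pow, one_mul, one_mul]
  let W : Subgroup A :=
    { carrier := {a | a ∈ U ∧ a ^ q = 1}
      one_mem' := ⟨one_mem _, one_pow _⟩
      mul_mem' := fun {a b} ha hb => ⟨mul_mem ha.1 hb.1, hmul hb.1 ha.1 hb.2 ha.2⟩
      inv_mem' := fun {a} ha => ⟨inv_mem ha.1, by rw [inv_pow, ha.2, inv_one]⟩ }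
  have hW : ∀ H : Subgroup A, H ≤ normalizer (U : Set A) → H ≤ normalizer (W : Set A) := fun H hH =>
    le_normalizer_iff.2 fun g hg a ha =>
      ⟨M.conjU (hH hg) ha.1, by rw [conj_pow, ha.2, mul_one, mul_inv_cancel]⟩
  by_contra hne
  have h := M.small W (fun a ha => ha.1) (hW P M.nP) (hW T M.nT) fun e => hne (e.symm.le hx).2
  refine M.moved fun g hg => Coprime.OmegaDetect.mem_centralizer_of_fix ?_ M.pgroup (M.nP hg) fun a ha h' => ?_
  · refine Nat.Coprime.coprime_dvd_left (orderOf_dvd_of_pow_eq_one (M.shape.exp g hg)) ?_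
    exact (Nat.coprime_primes M.shape.prime M.qprime).2 M.ne.symm
  · rcases h' with h' | ⟨h', -⟩
    · exact (mem_centralizer_iff.1 (h hg) a ⟨ha, h'⟩).symm
    · exact absurd h' M.qodd

omit M in
/-- The fixed points of `P`. -/
def U0 (P U : Subgroup A) : Subgroup A := U ⊓ centralizer (P : Set A)

omit M in
/-- The fixed points of an element. -/
def fix (U : Subgroup A) (a : A) : Subgroup A := U ⊓ centralizer ({a} : Set A)

omit M in
theorem U0_le_fix {a : A} (ha : a ∈ P) : U0 P U ≤ fix U a := fun _ hv =>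
  ⟨hv.1, mem_cent_singleton.2 (mem_centralizer_iff.1 hv.2 a ha)⟩

omit M in
theorem fixed_of_U0 : P ≤ centralizer (U0 P U : Set A) :=
  le_centralizer_iff.1 fun _ hv => hv.2

theorem U0_central : U ≤ centralizer (U0 P U : Set A) := M.central inf_le_left fixed_of_U0

theorem derived_le_U0 : ⁅U, U⁆ ≤ U0 P U :=
  le_inf (commutator_le_self U) (le_centralizer_iff.1 M.derived_fixed)

theorem U0_ne : U0 P U ≠ U := fun e => M.moved fun _ hg => by
  have h := fixed_of_U0 (U := U) hg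
  rwa [e] at h

/-- Subgroups over `U₀` are normal in `U`. -/
theorem normal_over {N : Subgroup A} (h0 : U0 P U ≤ N) (hN : N ≤ U) : U ≤ normalizer (N : Set A) :=
  le_normalizer_iff.2 fun g hg n hn => by
    rw [show g * n * g⁻¹ = ⁅g, n⁆ * n by rw [commutatorElement_def]; group]
    exact mul_mem (h0 (M.derived_le_U0 (commutator_mem_commutator hg (hN hn)))) hn

theorem elementary_le {S : Subgroup A} (hS : S ≤ U) (hc : S ≤ centralizer (S : Set A)) :
    Nat.card S ≤ q ^ 2 :=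
  M.rank S ⟨⟨fun a b => Subtype.ext (mem_centralizer_iff.1 (hc b.2) a a.2)⟩⟩ fun _ ha => M.pow_q (hS ha)

theorem card_le : Nat.card U ≤ q ^ 2 * Nat.card (U0 P U) := by
  haveI : Fact q.Prime := ⟨M.qprime⟩
  by_cases hab : U ≤ centralizer (U : Set A)
  · exact (M.elementary_le le_rfl hab).trans (Nat.le_mul_of_pos_right _ Nat.card_pos)
  obtain ⟨x, hx, y, hy, hxy⟩ : ∃ x ∈ U, ∃ y ∈ U, x * y ≠ y * x := by
    by_contra hcon
    push Not at hcon
    exact hab fun a ha => mem_centralizer_iff.2 fun b hb => hcon b hb a ha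
  have hx0 : x ∉ U0 P U := fun h => hxy (mem_centralizer_iff.1 (M.U0_central hy) x h)
  have hC : U0 P U ≤ centralizer (U0 P U : Set A) := inf_le_left.trans M.U0_central
  set S := U0 P U ⊔ zpowers x with hSdef
  have hS : S ≤ U := sup_le inf_le_left (zpowers_le.2 hx)
  have hxS : x ∈ centralizer (U0 P U : Set A) := M.U0_central hx
  have hSc : S ≤ centralizer (S : Set A) := by
    refine sup_le ?_ ?_ <;> rw [le_centralizer_iff] <;> refine sup_le ?_ ?_
    · exact hC
    · exact zpowers_le.2 hxS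
    · rw [le_centralizer_iff]; exact zpowers_le.2 hxS
    · rw [zpowers_le]
      exact mem_centralizer_iff.2 fun z hz => by
        obtain ⟨k, rfl⟩ := mem_zpowers_iff.1 hz
        exact ((Commute.refl x).zpow_left k).eq
  have hlt : U0 P U < S :=
    lt_of_le_of_ne le_sup_left fun e => hx0 (e.symm ▸ mem_sup_right (mem_zpowers x))
  have hU0ne : U0 P U ≠ ⊥ := fun e => hxy (by
    have h := M.derived_le_U0 (commutator_mem_commutator hx hy)
    rw [e, Subgroup.mem_bot, commutatorElement_eq_one_iff_mul_comm] at h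
    exact h)
  obtain ⟨i, hi⟩ := IsPGroup.iff_card.1 (M.pgroup.to_le (H := U0 P U) inf_le_left)
  obtain ⟨j, hj⟩ := IsPGroup.iff_card.1 (M.pgroup.to_le hS)
  have hij : i < j := by
    by_contra hle
    exact hlt.ne (eq_of_le_of_card_ge le_sup_left (by
      rw [hi, hj]; exact Nat.pow_le_pow_right M.qprime.pos (by omega)))
  have hj2 : j ≤ 2 := (Nat.pow_le_pow_iff_right M.qprime.one_lt).1 (hj ▸ M.elementary_le hS hSc)
  have hi1 : i ≠ 0 := fun e => hU0ne (eq_bot_of_card_eq _ (by rw [hi, e, pow_zero]))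
  obtain ⟨rfl, rfl⟩ : i = 1 ∧ j = 2 := by omega
  -- the centraliser of `x` in `U` is `S`
  have hCS : fix U x ≤ S := fun z hz => by
    have hzx : Commute x z := mem_cent_singleton.1 hz.2
    have hzS : z ∈ centralizer (S : Set A) := by
      have : S ≤ centralizer ({z} : Set A) := sup_le
        (fun v hv => mem_cent_singleton.2 (mem_centralizer_iff.1 (M.U0_central hz.1) v hv).symm)
        (zpowers_le.2 (mem_cent_singleton.2 hzx.symm.eq))
      exact mem_centralizer_iff.2 fun v hv => (mem_cent_singleton.1 (this hv)).symm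
    set S' := S ⊔ zpowers z with hS'
    have hS'U : S' ≤ U := sup_le hS (zpowers_le.2 hz.1)
    have hS'c : S' ≤ centralizer (S' : Set A) := by
      refine sup_le ?_ ?_ <;> rw [le_centralizer_iff] <;> refine sup_le ?_ ?_
      · exact hSc
      · exact zpowers_le.2 hzS
      · rw [le_centralizer_iff]; exact zpowers_le.2 hzS
      · rw [zpowers_le]
        exact mem_centralizer_iff.2 fun w hw => by
          obtain ⟨k, rfl⟩ := mem_zpowers_iff.1 hw
          exact ((Commute.refl z).zpow_left k).eq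
    have := eq_of_le_of_card_ge (le_sup_left : S ≤ S') (hj ▸ M.elementary_le hS'U hS'c)
    rw [this]
    exact mem_sup_right (mem_zpowers z)
  let f : U →* U0 P U :=
    MonoidHom.mk' (fun z => ⟨⁅x, (z : A)⁆, M.derived_le_U0 (commutator_mem_commutator hx z.2)⟩) fun a b =>
      Subtype.ext <| by
        show ⁅x, (a : A) * b⁆ = ⁅x, (a : A)⁆ * ⁅x, (b : A)⁆
        have h := (M.comm_central hx b.2 a.2).eq
        simp only [commutatorElement_def] at h ⊢
        calc x * (a * b : A) * x⁻¹ * (a * b : A)⁻¹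
            = x * a * x⁻¹ * (x * b * x⁻¹ * (b : A)⁻¹) * (a : A)⁻¹ := by group
          _ = x * a * x⁻¹ * (a : A)⁻¹ * ((a : A) * (x * b * x⁻¹ * (b : A)⁻¹)) * (a : A)⁻¹ := by group
          _ = x * a * x⁻¹ * (a : A)⁻¹ * (x * b * x⁻¹ * (b : A)⁻¹ * (a : A)) * (a : A)⁻¹ := by rw [h]
          _ = _ := by group
  have hker : Nat.card f.ker ≤ Nat.card S := by
    refine Nat.card_le_card_of_injective (fun z => ⟨z.1.1, hCS ⟨z.1.2, mem_cent_singleton.2 ?_⟩⟩) ?_
    · exact commutatorElement_eq_one_iff_mul_comm.1 (congrArg Subtype.val (MonoidHom.mem_ker.1 z.2))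
    · intro a b e
      exact Subtype.ext (Subtype.ext (congrArg Subtype.val e :))
  rw [← card_mul_index f.ker, index_ker, hi]
  exact Nat.mul_le_mul (hker.trans hj.le) ((card_le_card_group _).trans hi.le)

theorem no_chain {X Y : Subgroup A} (h0 : U0 P U < X) (hXY : X < Y) (hY : Y < U) : False := by
  haveI : Fact q.Prime := ⟨M.qprime⟩
  have key : ∀ {B C : Subgroup A}, C ≤ U → B < C → ∀ i j, Nat.card B = q ^ i → Nat.card C = q ^ j → i < j := by
    intro B C _ hlt i j hi hj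
    by_contra hle
    exact hlt.ne (eq_of_le_of_card_ge hlt.le (by
      rw [hi, hj]; exact Nat.pow_le_pow_right M.qprime.pos (by omega)))
  obtain ⟨a, ha⟩ := IsPGroup.iff_card.1 (M.pgroup.to_le (H := U0 P U) inf_le_left)
  obtain ⟨b, hb⟩ := IsPGroup.iff_card.1 (M.pgroup.to_le (hXY.le.trans hY.le))
  obtain ⟨c, hc⟩ := IsPGroup.iff_card.1 (M.pgroup.to_le hY.le)
  obtain ⟨d, hd⟩ := IsPGroup.iff_card.1 M.pgroup
  have h := M.card_le
  rw [ha, hd, ← pow_add] at h
  have := (Nat.pow_le_pow_iff_right M.qprime.one_lt).1 h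
  have h1 := key (hXY.le.trans hY.le) h0 a b ha hb
  have h2 := key hY.le hXY b c hb hc
  have h3 := key le_rfl hY c d hc hd
  omega

omit M in
/-- A subgroup strictly between the fixed points and `U`. -/
def Line (P U N : Subgroup A) : Prop := U0 P U < N ∧ N < U

theorem line_gen {N : Subgroup A} (hN : Line P U N) {y : A} (hy : y ∈ N) (hy0 : y ∉ U0 P U) :
    N = U0 P U ⊔ zpowers y := by
  by_contra hne
  refine M.no_chain (lt_of_le_of_ne le_sup_left fun e => hy0 (e.symm ▸ mem_sup_right (mem_zpowers y)))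
    (lt_of_le_of_ne (sup_le hN.1.le (zpowers_le.2 hy)) (Ne.symm hne)) hN.2

theorem line_inf {N N' : Subgroup A} (hN : Line P U N) (hN' : Line P U N') (hne : N ≠ N') :
    N ⊓ N' = U0 P U := by
  by_contra h
  have h1 : U0 P U < N ⊓ N' := lt_of_le_of_ne (le_inf hN.1.le hN'.1.le) (Ne.symm h)
  rcases (inf_le_left : N ⊓ N' ≤ N).eq_or_lt with e | e
  · rcases (inf_eq_left.1 e).eq_or_lt with e' | e'
    · exact hne e'
    · exact M.no_chain hN.1 e' hN'.2
  · exact M.no_chain h1 e hN.2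

theorem line_sup {N N' : Subgroup A} (hN : Line P U N) (hN' : Line P U N') (hne : N ≠ N') :
    N ⊔ N' = U := by
  by_contra h
  rcases (le_sup_left : N ≤ N ⊔ N').eq_or_lt with e | e
  · rcases (sup_eq_left.1 e.symm).eq_or_lt with e' | e'
    · exact hne e'.symm
    · exact M.no_chain hN'.1 e' hN.2
  · exact M.no_chain hN.1 e (lt_of_le_of_ne (sup_le hN.2.le hN'.2.le) h)

/-- An element of `P` fixing `y` modulo `U₀` fixes it. -/
theorem fix_of_mod {g y : A} (hg : g ∈ P) (h : g * y * g⁻¹ * y⁻¹ ∈ U0 P U) :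
    g * y = y * g :=
  Coprime.OmegaDetect.eq_one_of_fix (mem_centralizer_iff.1 h.2 g hg) (M.coprime_order hg h.1)

theorem line_fixed {g : A} (hg : g ∈ P) {N : Subgroup A} (hN : Line P U N) {y : A} (hy : y ∈ N)
    (hy0 : y ∉ U0 P U) (h : g * y = y * g) : N ≤ centralizer ({g} : Set A) := by
  rw [M.line_gen hN hy hy0]
  exact sup_le ((U0_le_fix hg).trans inf_le_right) (zpowers_le.2 (mem_cent_singleton.2 h))

theorem mem_kern {g : A} (hg : g ∈ P) {N N' : Subgroup A} (hN : Line P U N) (hN' : Line P U N')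
    (hne : N ≠ N') (h : N ≤ centralizer ({g} : Set A)) (h' : N' ≤ centralizer ({g} : Set A)) :
    g ∈ P ⊓ centralizer (U : Set A) := by
  refine ⟨hg, mem_centralizer_iff.2 fun v hv => ?_⟩
  rw [← M.line_sup hN hN' hne] at hv
  exact (mem_cent_singleton.1 (sup_le h h' hv)).symm

/-- An element fixing one of three lines and stabilising two others centralises `U`. -/
theorem triple {g : A} (hg : g ∈ P) {N₁ N₂ N₃ : Subgroup A} (h₁ : Line P U N₁) (h₂ : Line P U N₂)
    (h₃ : Line P U N₃) (h12 : N₁ ≠ N₂) (h13 : N₁ ≠ N₃) (h23 : N₂ ≠ N₃)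
    (hf : N₁ ≤ centralizer ({g} : Set A)) (hs₂ : ∀ v ∈ N₂, g * v * g⁻¹ ∈ N₂)
    (hs₃ : ∀ v ∈ N₃, g * v * g⁻¹ ∈ N₃) : g ∈ P ⊓ centralizer (U : Set A) := by
  obtain ⟨w, hw, hw0⟩ := SetLike.exists_of_lt h₃.1
  obtain ⟨y₁, hy₁, y₂, hy₂, rfl⟩ : ∃ y₁ ∈ N₁, ∃ y₂ ∈ N₂, y₁ * y₂ = w := by
    have hwU : w ∈ N₁ ⊔ N₂ := (M.line_sup h₁ h₂ h12).symm ▸ h₃.2.le hw
    rw [← SetLike.mem_coe, coe_mul_of_right_le_normalizer_left N₁ N₂
      (h₂.2.le.trans (M.normal_over h₁.1.le h₁.2.le))] at hwU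
    exact hwU
  have hy20 : y₂ ∉ U0 P U := fun h => hw0 <| by
    have : y₁ * y₂ ∈ N₁ ⊓ N₃ := ⟨mul_mem hy₁ (h₁.1.le h), hw⟩
    rwa [M.line_inf h₁ h₃ h13] at this
  have hfy : g * y₁ * g⁻¹ = y₁ := by rw [mem_cent_singleton.1 (hf hy₁), mul_inv_cancel_right]
  have h23' : y₂⁻¹ * (g * y₂ * g⁻¹) ∈ N₂ ⊓ N₃ := by
    refine Subgroup.mem_inf.2 ⟨mul_mem (inv_mem hy₂) (hs₂ _ hy₂), ?_⟩
    have h := mul_mem (inv_mem hw) (hs₃ _ hw)
    rwa [show (y₁ * y₂)⁻¹ * (g * (y₁ * y₂) * g⁻¹) =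
      y₂⁻¹ * (y₁⁻¹ * (g * y₁ * g⁻¹)) * (g * y₂ * g⁻¹) by group, hfy, inv_mul_cancel, mul_one] at h
  rw [M.line_inf h₂ h₃ h23] at h23'
  have hmod : g * y₂ * g⁻¹ * y₂⁻¹ ∈ U0 P U := by
    have hc := mem_centralizer_iff.1 (M.U0_central (h₂.2.le hy₂)) _ h23'
    rw [show g * y₂ * g⁻¹ * y₂⁻¹ = y₂ * (y₂⁻¹ * (g * y₂ * g⁻¹)) * y₂⁻¹ by group, ← hc,
      mul_inv_cancel_right]
    exact h23'
  exact M.mem_kern hg h₁ h₂ h12 hf (M.line_fixed hg h₂ hy₂ hy20 (M.fix_of_mod hg hmod))

theorem kern_le : P ⊓ centralizer (U : Set A) ≤ ⁅P, P⁆ := by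
  refine (M.shape.sub_cases inf_le_left fun t ht d hd => ⟨M.conjP (M.shape.normalizes ht) hd.1, ?_⟩).resolve_right
    fun e => M.moved fun g hg => ((e.symm.le hg) : g ∈ P ⊓ _).2
  refine mem_centralizer_iff.2 fun v hv => ?_
  have h := mem_centralizer_iff.1 hd.2 (t⁻¹ * v * t)
    (by simpa using M.conjU (inv_mem (M.nT ht)) hv)
  calc v * (t * d * t⁻¹) = t * (t⁻¹ * v * t * d) * t⁻¹ := by group
    _ = t * (d * (t⁻¹ * v * t)) * t⁻¹ := by rw [h]
    _ = t * d * t⁻¹ * v := by group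

theorem line_of {a : A} (ha : a ∈ P) (hK : a ∉ P ⊓ centralizer (U : Set A)) (hne : ¬ fix U a ≤ U0 P U) :
    Line P U (fix U a) := by
  refine ⟨lt_of_le_of_ne (U0_le_fix ha) fun e => hne e.symm.le, lt_of_le_of_ne inf_le_left fun e => hK ⟨ha, ?_⟩⟩
  exact mem_centralizer_iff.2 fun v hv => (mem_cent_singleton.1 (e.symm.le hv : v ∈ fix U a).2).symm

theorem conj_fix {n a v : A} (hn : n ∈ normalizer (U : Set A)) (hv : v ∈ fix U a) :
    n * v * n⁻¹ ∈ fix U (n * a * n⁻¹) :=
  ⟨M.conjU hn hv.1, mem_cent_singleton.2 <| by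
    rw [show n * a * n⁻¹ * (n * v * n⁻¹) = n * (a * v) * n⁻¹ by group, mem_cent_singleton.1 hv.2]
    group⟩

theorem fix_conj_line {n a : A} (hn : n ∈ normalizer (U : Set A)) (hnP : n ∈ normalizer (P : Set A))
    (ha : a ∈ P) (hL : Line P U (fix U a)) : Line P U (fix U (n * a * n⁻¹)) := by
  obtain ⟨v, hv, hv0⟩ := SetLike.exists_of_lt hL.1
  obtain ⟨w, hw, hwn⟩ := SetLike.exists_of_lt hL.2
  refine ⟨lt_of_le_of_ne (U0_le_fix (M.conjP hnP ha)) fun e => hv0 ?_,
    lt_of_le_of_ne inf_le_left fun e => hwn ?_⟩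
  · have h1 : n * v * n⁻¹ ∈ U0 P U := e.symm.le (M.conj_fix hn hv)
    refine ⟨hv.1, mem_centralizer_iff.2 fun c hc => ?_⟩
    have h2 := mem_centralizer_iff.1 h1.2 _ (M.conjP hnP hc)
    calc c * v = n⁻¹ * (n * c * n⁻¹ * (n * v * n⁻¹)) * n := by group
      _ = n⁻¹ * (n * v * n⁻¹ * (n * c * n⁻¹)) * n := by rw [h2]
      _ = v * c := by group
  · have h1 := M.conj_fix (inv_mem hn) (e.symm.le (M.conjU hn hw))
    rwa [show n⁻¹ * (n * a * n⁻¹) * n⁻¹⁻¹ = a by group, show n⁻¹ * (n * w * n⁻¹) * n⁻¹⁻¹ = w by group] at h1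

theorem derived_eq_zpowers {c : A} (hc : c ∈ (⁅P, P⁆ : Subgroup A)) (hc1 : c ≠ 1) : zpowers c = ⁅P, P⁆ := by
  refine eq_of_le_of_card_ge (zpowers_le.2 hc) ?_
  rw [Nat.card_zpowers]
  rcases (Nat.dvd_prime M.shape.prime).1 M.shape.derived_card with h | h
  · exact absurd ((card_eq_one.1 h) ▸ hc) (by simpa using hc1)
  · rw [h]
    haveI : Fact p.Prime := ⟨M.shape.prime⟩
    exact (orderOf_eq_prime (M.shape.exp c (M.shape.derived_le hc)) hc1).ge

omit M in
theorem no_gen (h : Shape p P T) (a : A) (ha : a ∈ P) : ¬ P ≤ ⁅P, P⁆ ⊔ zpowers a := fun hle => by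
  haveI : Fact p.Prime := ⟨h.prime⟩
  haveI : Group.IsNilpotent P := h.isPGroup.isNilpotent
  have e : zpowers a = P := Coprime.eq_of_le_of_sup_commutator_eq (zpowers_le.2 ha)
    (le_antisymm (sup_le (zpowers_le.2 ha) h.derived_le) (hle.trans_eq (sup_comm _ _)))
  have h1 : p ^ 2 ∣ Nat.card P := h.index ▸ relIndex_dvd_card _ _
  rw [← e, Nat.card_zpowers] at h1
  have := Nat.le_of_dvd h.prime.pos (h1.trans (orderOf_dvd_of_pow_eq_one (h.exp a ha)))
  nlinarith [h.prime.two_le]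

/-- The derived subgroup acts trivially. -/
theorem derived_trivial : (⁅P, P⁆ : Subgroup A) ≤ centralizer (U : Set A) := by
  haveI : Fact p.Prime := ⟨M.shape.prime⟩
  by_contra hcon
  obtain ⟨z, hz, hzU⟩ := SetLike.not_le_iff_exists.1 hcon
  have hz1 : z ≠ 1 := fun e => hzU (e ▸ one_mem _)
  have hfree : ∀ c ∈ (⁅P, P⁆ : Subgroup A), c ≠ 1 → fix U c ≤ U0 P U := by
    intro c hc hc1
    set D := U ⊓ centralizer ((⁅P, P⁆ : Subgroup A) : Set A)
    have hn : ∀ g ∈ normalizer (U : Set A), g ∈ normalizer (P : Set A) → ∀ v ∈ D, g * v * g⁻¹ ∈ D := by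
      intro g hg hgP v hv
      refine ⟨M.conjU hg hv.1, mem_centralizer_iff.2 fun d hd => ?_⟩
      have hd' : g⁻¹ * d * g ∈ (⁅P, P⁆ : Subgroup A) := by
        have hD : g⁻¹ ∈ normalizer ((⁅P, P⁆ : Subgroup A) : Set A) := by
          rw [← Coprime.conj_smul_eq_self_iff, Coprime.conj_smul_commutator,
            Coprime.conj_smul_eq_self_iff.2 (inv_mem hgP)]
        simpa using (mem_normalizer_iff.1 hD d).1 hd
      have h := mem_centralizer_iff.1 hv.2 _ hd'
      calc d * (g * v * g⁻¹) = g * (g⁻¹ * d * g * v) * g⁻¹ := by group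
        _ = g * (v * (g⁻¹ * d * g)) * g⁻¹ := by rw [h]
        _ = g * v * g⁻¹ * d := by group
    have hD : D ≠ U := fun e => hzU (mem_centralizer_iff.2 fun v hv =>
      (mem_centralizer_iff.1 (e.symm.le hv : v ∈ D).2 z hz).symm)
    have := M.small D inf_le_left (le_normalizer_iff.2 fun g hg => hn g (M.nP hg) (le_normalizer hg))
      (le_normalizer_iff.2 fun g hg => hn g (M.nT hg) (M.shape.normalizes hg)) hD
    intro v hv
    refine ⟨hv.1, le_centralizer_iff.1 this ⟨hv.1, ?_⟩⟩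
    refine mem_centralizer_iff.2 fun d hd => ?_
    rw [SetLike.mem_coe, ← M.derived_eq_zpowers hc hc1] at hd
    obtain ⟨k, rfl⟩ := mem_zpowers_iff.1 hd
    exact ((show Commute c v from mem_cent_singleton.1 hv.2).zpow_left k).eq
  -- a noncyclic abelian subgroup
  obtain ⟨x, hx, hxd⟩ : ∃ x ∈ P, x ∉ (⁅P, P⁆ : Subgroup A) := SetLike.not_le_iff_exists.1 fun h =>
    no_gen M.shape 1 (one_mem _) (h.trans le_sup_left)
  set E := (⁅P, P⁆ : Subgroup A) ⊔ zpowers x with hE
  have hEP : E ≤ P := sup_le M.shape.derived_le (zpowers_le.2 hx)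
  have hxc : x ∈ centralizer ((⁅P, P⁆ : Subgroup A) : Set A) := mem_centralizer_iff.2 fun d hd =>
    (mem_centralizer_iff.1 (M.shape.central hd) x hx).symm
  have hEc : E ≤ centralizer (E : Set A) := by
    refine sup_le ?_ ?_ <;> rw [le_centralizer_iff] <;> refine sup_le ?_ ?_
    · exact M.shape.central.trans (centralizer_le (SetLike.coe_subset_coe.2 M.shape.derived_le))
    · exact zpowers_le.2 hxc
    · rw [le_centralizer_iff]; exact zpowers_le.2 hxc
    · rw [zpowers_le]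
      exact mem_centralizer_iff.2 fun w hw => by
        obtain ⟨k, rfl⟩ := mem_zpowers_iff.1 hw
        exact ((Commute.refl x).zpow_left k).eq
  haveI : IsMulCommutative E := ⟨⟨fun a b => Subtype.ext (mem_centralizer_iff.1 (hEc b.2) a a.2)⟩⟩
  have hEnc : ¬ IsCyclic E := fun hcyc => by
    obtain ⟨e, he⟩ := hcyc.exists_generator
    have hEe : E = zpowers (e : A) := le_antisymm (fun w hw => by
      obtain ⟨k, hk⟩ := mem_zpowers_iff.1 (he ⟨w, hw⟩)
      exact mem_zpowers_iff.2 ⟨k, by simpa using congrArg Subtype.val hk⟩) (zpowers_le.2 e.2)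
    have hle : Nat.card E ≤ p := by
      rw [hEe, Nat.card_zpowers]
      exact Nat.le_of_dvd M.shape.prime.pos (orderOf_dvd_of_pow_eq_one (M.shape.exp _ (hEP e.2)))
    have hD : Nat.card ↥(⁅P, P⁆ : Subgroup A) = p := by
      rw [← M.derived_eq_zpowers hz hz1, Nat.card_zpowers]
      exact orderOf_eq_prime (M.shape.exp z (M.shape.derived_le hz)) hz1
    have := eq_of_le_of_card_ge (le_sup_left : (⁅P, P⁆ : Subgroup A) ≤ E) (hD.symm ▸ hle)
    exact hxd (this ▸ mem_sup_right (mem_zpowers x))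
  have hgen := Coprime.fixedGen_eq hEnc (hEP.trans M.nP) (M.coprime.coprime_dvd_left (card_dvd_of_le hEP))
  obtain ⟨a, haE, ha1, hane⟩ : ∃ a ∈ E, a ≠ 1 ∧ ¬ fix U a ≤ U0 P U := by
    by_contra hcon
    push Not at hcon
    refine M.U0_ne (le_antisymm inf_le_left ?_)
    exact hgen.ge.trans (iSup₂_le fun e he => hcon e he.1 he.2)
  have haP := hEP haE
  have had : a ∉ (⁅P, P⁆ : Subgroup A) := fun h => hane (hfree a h ha1)
  -- three conjugates of `a`
  obtain ⟨y, hy, hya⟩ : ∃ y ∈ P, y * a ≠ a * y := by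
    by_contra hcon
    push Not at hcon
    rcases M.shape.sub_cases (D := P ⊓ centralizer (P : Set A)) inf_le_left (fun t ht d hd => by
        refine ⟨M.conjP (M.shape.normalizes ht) hd.1, mem_centralizer_iff.2 fun v hv => ?_⟩
        have h := mem_centralizer_iff.1 hd.2 (t⁻¹ * v * t)
          (by simpa using M.conjP (inv_mem (M.shape.normalizes ht)) hv)
        calc v * (t * d * t⁻¹) = t * (t⁻¹ * v * t * d) * t⁻¹ := by group
          _ = t * (d * (t⁻¹ * v * t)) * t⁻¹ := by rw [h]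
          _ = t * d * t⁻¹ * v := by group) with h | h
    · exact had (h ⟨haP, mem_centralizer_iff.2 fun v hv => hcon v hv⟩)
    · have : ⁅P, P⁆ = (⊥ : Subgroup A) := commutator_eq_bot_iff_le_centralizer.2 (inf_eq_left.1 h)
      rw [this, Subgroup.mem_bot] at hz
      exact hz1 hz
  set c := ⁅y, a⁆ with hcdef
  have hc : c ∈ (⁅P, P⁆ : Subgroup A) := commutator_mem_commutator hy haP
  have hc1 : c ≠ 1 := fun e => hya (commutatorElement_eq_one_iff_mul_comm.1 e)
  have hcc : c * c ≠ 1 := fun e => hc1 <| by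
    have h1 : orderOf c ∣ 2 := orderOf_dvd_of_pow_eq_one (by rw [pow_two, e])
    have h2 : orderOf c ∣ p := orderOf_dvd_of_pow_eq_one (M.shape.exp c (M.shape.derived_le hc))
    exact orderOf_eq_one_iff.1 (Nat.eq_one_of_dvd_coprimes
      ((Nat.coprime_primes Nat.prime_two M.shape.prime).2 M.shape.odd.symm) h1 h2)
  have hcy : Commute c y := (mem_centralizer_iff.1 (M.shape.central hc) y hy).symm
  have hca : Commute c a := (mem_centralizer_iff.1 (M.shape.central hc) a haP).symm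
  have hb : y * a * y⁻¹ = c * a := by rw [hcdef, commutatorElement_def]; group
  have hd : y * (c * a) * y⁻¹ = c * c * a := by
    rw [show y * (c * a) * y⁻¹ = y * c * y⁻¹ * (y * a * y⁻¹) by group, ← hcy.eq, mul_inv_cancel_right, hb]
    group
  have hyU := M.nP hy
  have hK : a ∉ P ⊓ centralizer (U : Set A) := fun h => had (M.kern_le h)
  have hla := M.line_of haP hK hane
  have hlb : Line P U (fix U (c * a)) := hb ▸ M.fix_conj_line hyU (le_normalizer hy) haP hla
  have hld : Line P U (fix U (c * c * a)) :=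
    hd ▸ M.fix_conj_line hyU (le_normalizer hy) (mul_mem (M.shape.derived_le hc) haP) hlb
  have hdist : ∀ d e : A, d ∈ (⁅P, P⁆ : Subgroup A) → d ≠ 1 → Line P U (fix U e) →
      fix U e ≠ fix U (d * e) := by
    intro d e hd' hd1 hl he
    refine hl.1.not_ge fun v hv => hfree d hd' hd1 ⟨hv.1, mem_cent_singleton.2 ?_⟩
    have h1 : e * v = v * e := mem_cent_singleton.1 hv.2
    have h2 : d * e * v = v * (d * e) := mem_cent_singleton.1 (he.le hv).2
    rw [mul_assoc, h1, ← mul_assoc, ← mul_assoc] at h2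
    exact mul_right_cancel h2
  have hstab : ∀ d ∈ (⁅P, P⁆ : Subgroup A), ∀ v ∈ fix U (d * a), a * v * a⁻¹ ∈ fix U (d * a) := by
    intro d hd' v hv
    have h := M.conj_fix (M.nP haP) hv
    rwa [show a * (d * a) * a⁻¹ = a * d by group, mem_centralizer_iff.1 (M.shape.central hd') a haP] at h
  refine hK (M.triple haP hla hlb hld (hdist c a hc hc1 hla) (hdist _ a (mul_mem hc hc) hcc hla) ?_
    inf_le_right (hstab c hc) (hstab _ (mul_mem hc hc)))
  simpa only [mul_assoc] using hdist c (c * a) hc hc1 hlb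

/-- The fixed points of the elements outside the derived subgroup generate. -/
theorem gen {N : Subgroup A} (hN : N ≤ U) (h : ∀ a ∈ P, a ∉ (⁅P, P⁆ : Subgroup A) → fix U a ≤ N) : U ≤ N := by
  haveI : Fact p.Prime := ⟨M.shape.prime⟩
  set H := P ⊔ U
  have hKP := M.shape.derived_le
  have hK : H ≤ normalizer ((⁅P, P⁆ : Subgroup A) : Set A) :=
    sup_le (normalizer_commutator_ge_left P P)
      ((le_centralizer_iff.1 M.derived_trivial).trans (centralizer_le_normalizer _))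
  haveI : ((⁅P, P⁆ : Subgroup A).subgroupOf H).Normal := normal_subgroupOf_of_le_normalizer hK
  let f := QuotientGroup.mk' ((⁅P, P⁆ : Subgroup A).subgroupOf H)
  have hker : ∀ x : H, f x = 1 ↔ (x : A) ∈ (⁅P, P⁆ : Subgroup A) := fun x =>
    (QuotientGroup.eq_one_iff x).trans mem_subgroupOf
  set E := (P.subgroupOf H).map f
  set W := (U.subgroupOf H).map f
  haveI : IsMulCommutative E := ⟨⟨by
    rintro ⟨_, a, ha, rfl⟩ ⟨_, b, hb, rfl⟩
    refine Subtype.ext ?_
    show f a * f b = f b * f a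
    rw [← commutatorElement_eq_one_iff_mul_comm, ← map_commutatorElement, hker]
    exact commutator_mem_commutator (mem_subgroupOf.1 ha) (mem_subgroupOf.1 hb)⟩⟩
  have hEnc : ¬ IsCyclic E := fun hcyc => by
    obtain ⟨⟨_, a, ha, rfl⟩, hgen⟩ := hcyc.exists_generator
    refine no_gen M.shape a (mem_subgroupOf.1 ha) fun b hb => ?_
    obtain ⟨k, hk⟩ := mem_zpowers_iff.1 (hgen ⟨f ⟨b, mem_sup_left hb⟩,
      mem_map_of_mem f (mem_subgroupOf.2 hb)⟩)
    have hk' : f (a ^ k) = f ⟨b, mem_sup_left hb⟩ := by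
      rw [map_zpow]; simpa using congrArg Subtype.val hk
    have h1 : f (⟨b, mem_sup_left hb⟩ * (a ^ k)⁻¹) = 1 := by rw [map_mul, map_inv, hk', mul_inv_cancel]
    rw [hker] at h1
    have h2 := mul_mem (mem_sup_left (T := zpowers (a : A)) h1)
      (mem_sup_right (zpow_mem (mem_zpowers (a : A)) k))
    simpa using h2
  have hEW : E ≤ normalizer (W : Set (H ⧸ (⁅P, P⁆ : Subgroup A).subgroupOf H)) := by
    rw [le_normalizer_iff]
    rintro _ ⟨a, ha, rfl⟩ _ ⟨v, hv, rfl⟩
    exact ⟨a * v * a⁻¹, M.conjU (M.nP (mem_subgroupOf.1 ha)) (mem_subgroupOf.1 hv), by simp⟩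
  have hcop : (Nat.card E).Coprime (Nat.card W) := by
    refine ((M.coprime.coprime_dvd_left ?_).coprime_dvd_right ?_)
    · exact (card_map_dvd _ f).trans (dvd_of_eq (Nat.card_congr (subgroupOfEquivOfLe le_sup_left).toEquiv))
    · exact (card_map_dvd _ f).trans (dvd_of_eq (Nat.card_congr (subgroupOfEquivOfLe le_sup_right).toEquiv))
  intro v hv
  have hle : Coprime.fixedGen E W ≤ (N.subgroupOf H).map f := iSup₂_le fun e ⟨he, he1⟩ => by
    obtain ⟨a, ha, rfl⟩ := he
    rintro _ ⟨⟨w, hw, rfl⟩, hwc⟩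
    refine ⟨w, h a (mem_subgroupOf.1 ha) (fun hd => he1 ((hker a).2 hd)) ⟨mem_subgroupOf.1 hw, ?_⟩, rfl⟩
    have hc : (⁅a, w⁆ : H) ∈ (⁅P, P⁆ : Subgroup A).subgroupOf H := by
      rw [mem_subgroupOf, ← hker, map_commutatorElement, commutatorElement_eq_one_iff_mul_comm]
      exact mem_cent_singleton.1 hwc
    have hU' : ((⁅a, w⁆ : H) : A) ∈ U := by
      have h1 := mul_mem (M.conjU (M.nP (mem_subgroupOf.1 ha)) (mem_subgroupOf.1 hw)) (inv_mem (mem_subgroupOf.1 hw))
      simpa [commutatorElement_def] using h1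
    have := M.inter_eq_one (hKP (mem_subgroupOf.1 hc)) hU'
    refine mem_cent_singleton.2 (commutatorElement_eq_one_iff_mul_comm.1 ?_)
    rw [← this]
    simp [commutatorElement_def]
  rw [Coprime.fixedGen_eq hEnc hEW hcop] at hle
  obtain ⟨m, hm, hmv⟩ := hle (mem_map_of_mem f (show (⟨v, mem_sup_right hv⟩ : H) ∈ U.subgroupOf H from
    mem_subgroupOf.2 hv))
  have h1 : f (m⁻¹ * ⟨v, mem_sup_right hv⟩) = 1 := by rw [map_mul, map_inv, hmv, inv_mul_cancel]
  rw [hker] at h1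
  have h2 : (m : A)⁻¹ * v = 1 := M.inter_eq_one (hKP (by simpa using h1))
    (mul_mem (inv_mem (hN (mem_subgroupOf.1 hm))) hv)
  rw [inv_mul_eq_one] at h2
  exact h2 ▸ mem_subgroupOf.1 hm

theorem contradiction : False := by
  set K := (⁅P, P⁆ : Subgroup A) with hK
  have hKc := M.derived_trivial
  have hKP := M.shape.derived_le
  have hnK : ∀ {a : A}, a ∉ K → a ∉ P ⊓ centralizer (U : Set A) := fun ha h => ha (M.kern_le h)
  obtain ⟨a, ha, haK, hane⟩ : ∃ a ∈ P, a ∉ K ∧ ¬ fix U a ≤ U0 P U := by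
    by_contra hcon
    push Not at hcon
    exact M.U0_ne (le_antisymm inf_le_left (M.gen inf_le_left hcon))
  set N₁ := fix U a with hN₁
  have hl₁ := M.line_of ha (hnK haK) hane
  obtain ⟨b, hb, hbK, hbne⟩ : ∃ b ∈ P, b ∉ K ∧ ¬ fix U b ≤ N₁ := by
    by_contra hcon
    push Not at hcon
    exact hl₁.2.not_ge (M.gen hl₁.2.le hcon)
  set N₂ := fix U b with hN₂
  have hl₂ := M.line_of hb (hnK hbK) fun h => hbne (h.trans hl₁.1.le)
  have h12 : N₁ ≠ N₂ := fun e => hbne e.ge
  -- elements of `P` congruent modulo `K` have the same fixed points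
  have hcongr : ∀ {x y : A}, x⁻¹ * y ∈ K → fix U x ≤ fix U y := by
    intro x y h v hv
    refine ⟨hv.1, mem_cent_singleton.2 ?_⟩
    have h1 : x * v = v * x := mem_cent_singleton.1 hv.2
    have h2 : x⁻¹ * y * v = v * (x⁻¹ * y) := (mem_centralizer_iff.1 (hKc h) v hv.1).symm
    calc y * v = x * (x⁻¹ * y * v) := by group
      _ = x * v * (x⁻¹ * y) := by rw [h2]; group
      _ = v * y := by rw [h1]; group
  have hstab : ∀ {g x : A}, g ∈ P → x ∈ P → ∀ v ∈ fix U x, g * v * g⁻¹ ∈ fix U x := by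
    intro g x hg hx v hv
    refine hcongr ?_ (M.conj_fix (M.nP hg) hv)
    rw [show (g * x * g⁻¹)⁻¹ * x = g * x⁻¹ * g⁻¹ * x⁻¹⁻¹ by group]
    exact commutator_mem_commutator hg (inv_mem hx)
  have htwo : ∀ {d : A}, d ∈ P → Line P U (fix U d) → fix U d = N₁ ∨ fix U d = N₂ := by
    intro d hd hl
    by_contra hcon
    push Not at hcon
    exact hnK haK (M.triple ha hl₁ hl₂ hl h12 hcon.1.symm hcon.2.symm inf_le_right
      (hstab ha hb) (hstab ha hd))
  have hKT : ∀ t ∈ T, ∀ k ∈ K, t * k * t⁻¹ ∈ K := fun t ht k hk => M.shape.derived_mem ht hk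
  have hconj_inj : ∀ {t : A}, t ∈ T → ∀ {x y : A}, fix U (t * x * t⁻¹) = fix U (t * y * t⁻¹) →
      fix U x ≤ fix U y := by
    intro t ht x y e v hv
    have h := M.conj_fix (inv_mem (M.nT ht)) (e.le (M.conj_fix (M.nT ht) hv))
    rwa [show t⁻¹ * (t * y * t⁻¹) * t⁻¹⁻¹ = y by group, show t⁻¹ * (t * v * t⁻¹) * t⁻¹⁻¹ = v by group] at h
  have hlT : ∀ {t x : A}, t ∈ T → x ∈ P → Line P U (fix U x) →
      fix U (t * x * t⁻¹) = N₁ ∨ fix U (t * x * t⁻¹) = N₂ := fun ht hx hl =>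
    htwo (M.conjP (M.shape.normalizes ht) hx) (M.fix_conj_line (M.nT ht) (M.shape.normalizes ht) hx hl)
  have hne' : ∀ {t : A}, t ∈ T → fix U (t * a * t⁻¹) ≠ fix U (t * b * t⁻¹) := fun ht e =>
    h12 (le_antisymm (hconj_inj ht e) (hconj_inj ht e.symm))
  -- an element fixing both lines centralises `P / K`
  have hfixed : ∀ {t : A}, t ∈ T → fix U (t * a * t⁻¹) = N₁ → ∀ x ∈ P, t * x * t⁻¹ * x⁻¹ ∈ K := by
    intro t ht he x hx
    have he2 : fix U (t * b * t⁻¹) = N₂ :=
      (hlT ht hb hl₂).resolve_left fun e => hne' ht (he.trans e.symm)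
    have hc : t * x * t⁻¹ * x⁻¹ ∈ P := mul_mem (M.conjP (M.shape.normalizes ht) hx) (inv_mem hx)
    have key : ∀ d : A, d ∈ P → Line P U (fix U d) → fix U (t * d * t⁻¹) = fix U d →
        fix U d ≤ centralizer ({t * x * t⁻¹ * x⁻¹} : Set A) := by
      intro d hd hl hfd
      obtain ⟨w, hw, hw0⟩ := SetLike.exists_of_lt hl.1
      refine M.line_fixed hc hl hw hw0 (M.fix_of_mod hc ?_)
      -- the two actions on the line are by powers modulo `U₀`, so they commute
      have hU0n : ∀ g ∈ normalizer (U : Set A), g ∈ normalizer (P : Set A) →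
          ∀ v ∈ U0 P U, g * v * g⁻¹ ∈ U0 P U := by
        intro g hg hgP v hv
        refine ⟨M.conjU hg hv.1, mem_centralizer_iff.2 fun e he' => ?_⟩
        have h := mem_centralizer_iff.1 hv.2 (g⁻¹ * e * g) (by simpa using M.conjP (inv_mem hgP) he')
        calc e * (g * v * g⁻¹) = g * (g⁻¹ * e * g * v) * g⁻¹ := by group
          _ = g * (v * (g⁻¹ * e * g)) * g⁻¹ := by rw [h]
          _ = g * v * g⁻¹ * e := by group
      have hdec : ∀ v ∈ fix U d, ∃ k : ℤ, ∃ u ∈ U0 P U, v = u * w ^ k := by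
        intro v hv
        rw [M.line_gen hl hw hw0, ← SetLike.mem_coe, coe_mul_of_right_le_normalizer_left _ _
          ((zpowers_le.2 (M.U0_central hw.1)).trans (centralizer_le_normalizer _))] at hv
        obtain ⟨u, hu, r, hr, e⟩ := hv
        obtain ⟨k, rfl⟩ := mem_zpowers_iff.1 hr
        exact ⟨k, u, hu, e.symm⟩
      obtain ⟨k, u, hu, hk⟩ := hdec _ (hstab hx hd w hw)
      -- modulo `U₀`, conjugation by `x` on the line is the `k`th power
      have hpow : ∀ v ∈ fix U d, ∃ u ∈ U0 P U, x * v * x⁻¹ = u * v ^ k := by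
        intro v hv
        obtain ⟨l, u₁, hu₁, rfl⟩ := hdec v hv
        have hcw : ∀ s ∈ U0 P U, Commute s w := fun s hs => mem_centralizer_iff.1 (M.U0_central hw.1) s hs
        have hxu : x * u₁ * x⁻¹ = u₁ := by
          rw [mem_centralizer_iff.1 hu₁.2 x hx, mul_inv_cancel_right]
        refine ⟨u₁ * u ^ l * (u₁ ^ k)⁻¹, mul_mem (mul_mem hu₁ (zpow_mem hu l)) (inv_mem (zpow_mem hu₁ k)), ?_⟩
        rw [show x * (u₁ * w ^ l) * x⁻¹ = x * u₁ * x⁻¹ * (x * w ^ l * x⁻¹) by group, hxu, ← conj_zpow, hk,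
          ((hcw u hu).zpow_right k).mul_zpow, ((hcw u₁ hu₁).zpow_right l).mul_zpow, ← zpow_mul, ← zpow_mul,
          mul_comm k l]
        group
      -- `⁅t, x⁆` fixes `w` modulo `U₀`
      set w' := x⁻¹ * w * x with hw'
      have hw'N : w' ∈ fix U d := by simpa using hstab (inv_mem hx) hd w hw
      obtain ⟨u₃, hu₃, h₃⟩ := hpow _ hw'N
      obtain ⟨u₄, hu₄, h₄⟩ := hpow _ (show t⁻¹ * w' * t ∈ fix U d by
        have h := M.conj_fix (inv_mem (M.nT ht)) (hfd.symm ▸ hw'N : w' ∈ fix U (t * d * t⁻¹))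
        simpa [mul_assoc] using h)
      have hw3 : x * w' * x⁻¹ = w := by rw [hw']; group
      have hpk : w' ^ k = u₃⁻¹ * w := by rw [eq_inv_mul_iff_mul_eq, ← h₃, hw3]
      have hu₄' : t * u₄ * t⁻¹ ∈ U0 P U := hU0n t (M.nT ht) (M.shape.normalizes ht) _ hu₄
      have : t * x * t⁻¹ * x⁻¹ * w * (t * x * t⁻¹ * x⁻¹)⁻¹ * w⁻¹ = t * u₄ * t⁻¹ * u₃⁻¹ := by
        rw [show t * x * t⁻¹ * x⁻¹ * w * (t * x * t⁻¹ * x⁻¹)⁻¹ = t * (x * (t⁻¹ * w' * t) * x⁻¹) * t⁻¹ by
          rw [hw']; group, h₄, show t⁻¹ * w' * t = t⁻¹ * w' * t⁻¹⁻¹ by rw [inv_inv], conj_zpow, hpk]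
        group
      rw [this]
      exact mul_mem hu₄' (inv_mem hu₃)
    by_contra hnot
    exact hnK hnot (M.mem_kern hc hl₁ hl₂ h12 (key a ha hl₁ he) (key b hb hl₂ he2))
  have fin : ∀ m ∈ P, m ∉ K → (∀ t ∈ T, t * m * t⁻¹ * m⁻¹ ∈ K) → False := by
    intro m hm hmK hmT
    rcases M.shape.sub_cases (D := K ⊔ zpowers m) (sup_le hKP (zpowers_le.2 hm)) (fun t ht => by
      have hle : K ⊔ zpowers m ≤ (K ⊔ zpowers m).comap (MulAut.conj t).toMonoidHom :=
        sup_le (fun k hk => mem_sup_left (hKT t ht k hk)) (zpowers_le.2 (by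
          show t * m * t⁻¹ ∈ K ⊔ zpowers m
          rw [show t * m * t⁻¹ = t * m * t⁻¹ * m⁻¹ * m by group]
          exact mul_mem (mem_sup_left (hmT t ht)) (mem_sup_right (mem_zpowers m))))
      exact fun d hd => hle hd) with h | h
    · exact hmK (h (mem_sup_right (mem_zpowers m)))
    · exact no_gen M.shape m hm h.ge
  by_cases hall : ∀ t ∈ T, fix U (t * a * t⁻¹) = N₁
  · exact fin a ha haK fun t ht => hfixed ht (hall t ht) a ha
  push Not at hall
  obtain ⟨s, hs, hsa⟩ := hall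
  have hs2 : fix U (s * a * s⁻¹) = N₂ := (hlT hs ha hl₁).resolve_left hsa
  set a' := s * a * s⁻¹ with ha'
  have ha'P : a' ∈ P := M.conjP (M.shape.normalizes hs) ha
  have hswap : ∀ {t : A}, t ∈ T → fix U (t * a * t⁻¹) = N₂ → fix U (t * a' * t⁻¹) = N₁ := by
    intro t ht he
    refine (hlT ht ha'P (hs2 ▸ hl₂)).resolve_right fun e => h12 ?_
    have e1 : fix U a = fix U a' := le_antisymm (hconj_inj ht (he.trans e.symm)) (hconj_inj ht (e.trans he.symm))
    exact e1.trans hs2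
  have hs1 : fix U (s * s * a * (s * s)⁻¹) = N₁ := by
    have h := hswap hs hs2
    rwa [ha', show s * (s * a * s⁻¹) * s⁻¹ = s * s * a * (s * s)⁻¹ by group] at h
  have hm : a * a' ∈ P := mul_mem ha ha'P
  refine fin _ hm (fun h => ?_) fun t ht => ?_
  · have e : fix U a⁻¹ ≤ fix U a' := hcongr (by rwa [inv_inv])
    have hle : N₁ ≤ N₂ := fun v hv => hs2 ▸
      e ⟨hv.1, mem_cent_singleton.2 ((show Commute a v from mem_cent_singleton.1 hv.2).inv_left).eq⟩
    exact hl₁.1.ne' (by rw [← M.line_inf hl₁ hl₂ h12, inf_eq_left.2 hle])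
  · rcases hlT ht ha hl₁ with he | he
    · exact hfixed ht he _ hm
    · have hst : s⁻¹ * t ∈ T := mul_mem (inv_mem hs) ht
      have hst1 : fix U (s⁻¹ * t * a * (s⁻¹ * t)⁻¹) = N₁ := by
        refine (hlT hst ha hl₁).resolve_right fun e => hsa ?_
        have h1 : fix U (s⁻¹ * t * a * (s⁻¹ * t)⁻¹) = fix U a' := e.trans hs2.symm
        have h3 : fix U (s * (s⁻¹ * t * a * (s⁻¹ * t)⁻¹) * s⁻¹) = fix U (s * s * a * (s * s)⁻¹) := by
          rw [show s * s * a * (s * s)⁻¹ = s * a' * s⁻¹ by rw [ha']; group]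
          refine le_antisymm (fun v hv => ?_) (fun v hv => ?_) <;>
          · have h4 := M.conj_fix (inv_mem (M.nT hs)) hv
            rw [show ∀ r : A, s⁻¹ * (s * r * s⁻¹) * s⁻¹⁻¹ = r from fun r => by group] at h4
            have h5 := M.conj_fix (M.nT hs) (by first | exact h1.le h4 | exact h1.ge h4)
            rwa [show s * (s⁻¹ * v * s⁻¹⁻¹) * s⁻¹ = v by group] at h5
        rw [show s * (s⁻¹ * t * a * (s⁻¹ * t)⁻¹) * s⁻¹ = t * a * t⁻¹ by group, he, hs1] at h3
        exact absurd h3.symm h12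
      set t₁ := s⁻¹ * t with ht₁
      have hk1 : t₁ * (a * a') * t₁⁻¹ * (a * a')⁻¹ ∈ K := hfixed hst hst1 _ hm
      have hk2 : s * s * a * (s * s)⁻¹ * a⁻¹ ∈ K := hfixed (mul_mem hs hs) hs1 a ha
      have hk3 : s * (a * a') * s⁻¹ * (a * a')⁻¹ ∈ K := by
        have e : s * (a * a') * s⁻¹ * (a * a')⁻¹ =
            a' * (s * s * a * (s * s)⁻¹ * a⁻¹) * a'⁻¹ * ⁅a', a⁆ := by
          rw [ha', commutatorElement_def]; group
        rw [e]
        exact mul_mem ((mem_normalizer_iff.1 (normalizer_commutator_ge_left P P ha'P) _).1 hk2)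
          (commutator_mem_commutator ha'P ha)
      have e : t * (a * a') * t⁻¹ * (a * a')⁻¹ =
          s * (t₁ * (a * a') * t₁⁻¹ * (a * a')⁻¹) * s⁻¹ * (s * (a * a') * s⁻¹ * (a * a')⁻¹) := by
        rw [ht₁]; group
      rw [e]
      exact mul_mem (hKT s hs _ hk1) hk3

end Mini

end Rigid

/-- **An irreducible pair centralises the `q`-groups it normalises**, for odd `q ≠ p`. -/
theorem coprime_trivial [Finite A] (hA : RankTwo A) {p q : ℕ} {P T : Subgroup A} (h : Shape p P T)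
    (hq : q.Prime) (hq2 : q ≠ 2) (hqp : q ≠ p) {Q : Subgroup A} (hQ : IsPGroup q Q)
    (hPQ : P ≤ normalizer (Q : Set A)) (hTQ : T ≤ normalizer (Q : Set A)) :
    P ≤ centralizer (Q : Set A) := by
  induction hn : Nat.card Q using Nat.strongRecOn generalizing Q with
  | ind n ih =>
    subst hn
    by_contra hmoved
    refine Rigid.Mini.contradiction (p := p) (q := q) (P := P) (T := T) (U := Q)
      ⟨h, hq, hq2, hqp, hA q hq hq2, hQ, hPQ, hTQ, fun D hD hPD hTD hne => ?_, hmoved⟩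
    exact ih _ (lt_of_not_ge fun hle => hne (eq_of_le_of_card_ge hD hle)) (hQ.to_le hD) hPD hTD rfl

/-- The same, as a property of the pair. -/
theorem Shape.coprime_trivial [Finite A] (hA : RankTwo A) {p q : ℕ} {P T : Subgroup A} (h : Shape p P T)
    (hq : q.Prime) (hq2 : q ≠ 2) (hqp : q ≠ p) {Q : Subgroup A} (hQ : IsPGroup q Q)
    (hPQ : P ≤ normalizer (Q : Set A)) (hTQ : T ≤ normalizer (Q : Set A)) :
    P ≤ centralizer (Q : Set A) :=
  QTXi.coprime_trivial hA h hq hq2 hqp hQ hPQ hTQ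

end Cfsg.Agent.QTXi
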