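import Cfsg.Agent.Lib.QTXi.PGroup
import Cfsg.Agent.Lib.QTXi.CoprimeAction
import Cfsg.Agent.Lib.Coprime.OmegaDetect
import Cfsg.Agent.Lib.Coprime.Sylow
import Cfsg.Agent.Lib.PLocal.CyclicExtension
import Cfsg.Agent.Solvable.Basics
import Cfsg.Agent.SolvStruct.Kazarin

/-!
# An irreducible pair outside a perfect group

An irreducible pair meeting a perfect normalised group `K` only in its derived group centralises it,
provided `K` centralises every solvable group which it normalises: if `p` does not divide the order of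
`K` the classes of the elements of `P` are small and Kazarin applies, and otherwise the rank is at
least three or transfer is violated.
-/

set_option autoImplicit false
set_option linter.unusedSectionVars false
set_option linter.style.haveILetI false

namespace Cfsg.Agent.QTXi

open Subgroup
open scoped Pointwise commutatorElement

universe u

variable {A : Type u} [Group A] [Finite A]

namespace Outer

theorem isCyclic_mulAut {p : ℕ} (hp : p.Prime) (hp2 : p ≠ 2) {C : Subgroup A} [IsCyclic C]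
    (hC : IsPGroup p C) : IsCyclic (MulAut C) := by
  haveI := Fact.mk hp
  obtain ⟨k, hk⟩ := IsPGroup.iff_card.1 hC
  refine (IsCyclic.mulAutMulEquiv C).isCyclic.2 ?_
  rw [hk]
  exact ZMod.isCyclic_units_of_prime_pow p hp hp2 k

/-- A normal subgroup of a `p`-group has a central element of order `p`. -/
theorem exists_central {p : ℕ} (hp : p.Prime) {B N : Subgroup A} (hB : IsPGroup p B) (hNB : N ≤ B)
    (hn : B ≤ normalizer (N : Set A)) (hN : N ≠ ⊥) :
    ∃ z ∈ N, z ≠ 1 ∧ z ^ p = 1 ∧ z ∈ centralizer (B : Set A) := by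
  haveI := Fact.mk hp
  haveI := hB.isNilpotent
  haveI : (N.subgroupOf B).Normal := normal_subgroupOf_of_le_normalizer hn
  have hne := Solvable.Basics.inf_center_ne_bot (N := N.subgroupOf B) (fun e => hN (by
    rw [subgroupOf_eq_bot, disjoint_iff, inf_eq_left.2 hNB] at e; exact e))
  have hI := hB.to_subgroup (N.subgroupOf B ⊓ center B)
  obtain ⟨k, hk⟩ := IsPGroup.iff_card.1 hI
  obtain ⟨⟨z, hz⟩, hzo⟩ := exists_prime_orderOf_dvd_card' (G := ↥(N.subgroupOf B ⊓ center B)) p (by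
    rcases Nat.eq_zero_or_pos k with rfl | hk0
    · exact absurd (Subgroup.eq_bot_of_card_eq _ (by rw [hk, pow_zero])) hne
    · rw [hk]; exact dvd_pow_self p hk0.ne')
  rw [Subgroup.orderOf_mk, ← Subgroup.orderOf_coe] at hzo
  refine ⟨z, hz.1, fun e => ?_, by rw [← hzo]; exact pow_orderOf_eq_one _,
    mem_centralizer_iff.2 fun b hb => congrArg Subtype.val (mem_center_iff.1 hz.2 ⟨b, hb⟩)⟩
  rw [e, orderOf_one] at hzo
  exact hp.ne_one hzo.symm

end Outer

namespace Shape

variable {p : ℕ} {P T K : Subgroup A}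

/-- A homomorphism with small image is trivial on an element outside the derived group. -/
theorem exists_outside_ker (h : Shape p P T) {M : Type u} [Group M] (φ : P →* M)
    (hφ : Nat.card φ.range ≤ p) : ∃ x ∈ φ.ker, (x : A) ∉ (⁅P, P⁆ : Subgroup A) := by
  by_contra hn
  push Not at hn
  have h1 : Nat.card φ.ker ≤ Nat.card (⁅P, P⁆ : Subgroup A) := by
    rw [← card_map_of_injective (P.subtype_injective)]
    exact Subgroup.card_le_of_le (by rintro _ ⟨x, hx, rfl⟩; exact hn x hx)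
  have h2 := φ.ker.card_mul_index
  rw [Subgroup.index_ker, h.card_eq] at h2
  have h3 := Nat.mul_le_mul h1 hφ
  rw [h2, mul_comm (Nat.card (⁅P, P⁆ : Subgroup A)) p] at h3
  have h4 := Nat.le_of_mul_le_mul_right h3 (Nat.card_pos (α := ↥(⁅P, P⁆ : Subgroup A)))
  nlinarith [h.prime.two_le]

/-- The coprime case. -/
theorem centralizes_of_not_dvd (hA : RankTwo A) (h : Shape p P T)
    (hsol : ∀ N : Subgroup A, Group.IsSolvable N → K ≤ normalizer (N : Set A) →
      K ≤ centralizer (N : Set A))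
    (hPK : P ≤ normalizer (K : Set A)) (hTK : T ≤ normalizer (K : Set A))
    (hpK : ¬ p ∣ Nat.card K) : P ≤ centralizer (K : Set A) := by
  classical
  haveI := Fact.mk h.prime
  haveI hPn : Group.IsNilpotent P := h.isPGroup.isNilpotent
  have hsolv : Group.IsSolvable P ∨ Group.IsSolvable K :=
    Or.inl (Coprime.isSolvable_of_isPGroup h.isPGroup)
  have hcop : (Nat.card P).Coprime (Nat.card K) := by
    obtain ⟨k, hk⟩ := IsPGroup.iff_card.1 h.isPGroup
    rw [hk]
    exact ((h.prime.coprime_iff_not_dvd).2 hpK).pow_left k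
  have hsyl : ∀ r : ℕ, r.Prime → r ≠ 2 → r ≠ p → ∃ R : Sylow r K,
      P ≤ centralizer (((R : Subgroup K).map K.subtype : Subgroup A) : Set A) := by
    intro r hr hr2 hrp
    haveI := Fact.mk hr
    obtain ⟨R, hR⟩ := Coprime.exists_invariant_sylow r hPK hcop hsolv
    set R' := (R : Subgroup K).map K.subtype with hR'
    refine ⟨R, Shape.coprime_trivial hA
      (h.transfer (T' := normalizer (P : Set A) ⊓ normalizer (R' : Set A)) inf_le_left ?_)
      hr hr2 hrp (R.isPGroup'.map _) hR inf_le_right⟩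
    intro t ht
    have htR : MulAut.conj t • R' ≤ K := by
      intro a ha
      rw [Coprime.mem_conj_smul] at ha
      have := conj_mem_of_normalizer hTK ht (map_subtype_le _ ha)
      simpa [mul_assoc] using this
    obtain ⟨k, hk, hkR⟩ := Coprime.exists_conj_sylow_map (H := MulAut.conj t • R') htR R (by
      rw [Coprime.card_conj_smul, hR', card_map_of_injective K.subtype_injective])
    have hinv : P ≤ normalizer ((MulAut.conj t • R' : Subgroup A) : Set A) := by
      rw [← Coprime.conj_smul_normalizer]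
      intro x hx
      rw [Coprime.mem_conj_smul]
      have := conj_mem_of_normalizer h.normalizes (inv_mem ht) hx
      rw [inv_inv] at this
      exact hR this
    obtain ⟨c, hc, hcR⟩ := Coprime.exists_centralizer_conj_eq hPK hcop hsolv hR hinv hk hkR.symm
    have hcP : c⁻¹ ∈ centralizer (P : Set A) := inv_mem hc.2
    refine ⟨c⁻¹ * t, ⟨mul_mem (centralizer_le_normalizer _ hcP) (h.normalizes ht), ?_⟩, fun x hx => ?_⟩
    · show c⁻¹ * t ∈ normalizer (R' : Set A)
      rw [← Coprime.conj_smul_eq_self_iff, Coprime.conj_smul_mul, ← hcR, Coprime.conj_inv_smul_smul]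
    · have hx' := conj_mem_of_normalizer h.normalizes ht hx
      calc c⁻¹ * t * x * (c⁻¹ * t)⁻¹ = c⁻¹ * (t * x * t⁻¹) * c := by group
        _ = t * x * t⁻¹ * c⁻¹ * c := by rw [mem_centralizer_iff.1 hcP _ hx']
        _ = t * x * t⁻¹ := by group
  intro x hx
  by_cases hx1 : x = 1
  · rw [hx1]; exact one_mem _
  have hxo : orderOf x = p := orderOf_eq_prime (h.exp x hx) hx1
  have hxK : zpowers x ≤ normalizer (K : Set A) := zpowers_le.2 (hPK hx)
  set H := K ⊔ zpowers x
  have hH : Nat.card H = Nat.card K * p := by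
    rw [Coprime.card_sup_of_coprime hxK (by
      rw [Nat.card_zpowers, hxo]; exact ((h.prime.coprime_iff_not_dvd).2 hpK).symm),
      Nat.card_zpowers, hxo]
  let xH : H := ⟨x, mem_sup_right (mem_zpowers x)⟩
  set C : Subgroup H := centralizer ({xH} : Set H) with hC
  have hmem : ∀ a : H, x * (a : A) = a * x → a ∈ C := fun a ha => mem_centralizer_iff.2 fun b hb => by
    obtain rfl := Set.mem_singleton_iff.1 hb
    exact Subtype.ext ha
  have hCi : Nat.card C * C.index = Nat.card K * p := by rw [C.card_mul_index, hH]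
  have hodd : ∀ r : ℕ, r.Prime → r ∣ C.index → r = 2 := by
    intro r hr hrd
    by_contra hr2
    by_cases hrp : r = p
    · subst hrp
      have hpC : r ∣ Nat.card C := by
        have h1 := orderOf_dvd_natCard (⟨xH, hmem xH rfl⟩ : C)
        rwa [Subgroup.orderOf_mk, show orderOf xH = orderOf x from (Subgroup.orderOf_coe xH).symm, hxo] at h1
      have h2 := Nat.mul_dvd_mul hpC hrd
      rw [hCi] at h2
      exact hpK (Nat.dvd_of_mul_dvd_mul_right hr.pos h2)
    · haveI := Fact.mk hr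
      obtain ⟨R, hR⟩ := hsyl r hr hr2 hrp
      let ι : (R : Subgroup K) →* C :=
        { toFun := fun a => ⟨⟨((a : K) : A), mem_sup_left (a : K).2⟩, hmem _
            (mem_centralizer_iff.1 (hR hx) _ ⟨(a : K), a.2, rfl⟩).symm⟩
          map_one' := rfl
          map_mul' := fun _ _ => rfl }
      have h1 : Nat.card (R : Subgroup K) ∣ Nat.card C :=
        Subgroup.card_dvd_of_injective ι fun a b e =>
          Subtype.ext (Subtype.ext (congrArg (fun w : C => ((w : H) : A)) e))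
      have h2 := Nat.mul_dvd_mul h1 hrd
      rw [hCi, R.card_eq_multiplicity, ← pow_succ] at h2
      exact Nat.pow_succ_factorization_not_dvd Nat.card_pos.ne' hr
        ((Nat.Coprime.pow_left _ ((Nat.coprime_primes hr h.prime).2 hrp)).dvd_of_dvd_mul_right h2)
  have hidx : C.index = 2 ^ C.index.primeFactorsList.length :=
    Nat.eq_prime_pow_of_unique_prime_dvd Subgroup.index_ne_zero_of_finite fun {d} hd hdd => hodd d hd hdd
  set N := (normalClosure ({xH} : Set H)).map H.subtype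
  have hN : Group.IsSolvable N :=
    Coprime.isSolvable_map _ (SolvStruct.Kazarin.isSolvable_normalClosure Nat.prime_two hidx)
  have hKN : K ≤ normalizer (N : Set A) := by
    refine le_trans (le_sup_left : K ≤ H) (le_normalizer_of_conj ?_)
    rintro a ha _ ⟨b, hb, rfl⟩
    exact ⟨_, normalClosure_normal.conj_mem b hb ⟨a, ha⟩, rfl⟩
  refine mem_centralizer_iff.2 fun k hk => ?_
  exact (mem_centralizer_iff.1 (hsol N hN hKN hk) x ⟨xH, subset_normalClosure rfl, rfl⟩).symm

/-- Cyclic Sylow subgroups are impossible. -/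
theorem no_cyclic (h : Shape p P T) (hperf : ⁅K, K⁆ = K) (hPK : P ≤ normalizer (K : Set A))
    (hne : P ⊓ K ≠ ⊥) (hout : P ⊓ K ≤ ⁅P, P⁆) {B : Subgroup A} (hB : IsPGroup p B) (hPB : P ≤ B)
    (hBH : B ≤ K ⊔ P) (hmax : ∀ Q ≤ K ⊔ P, IsPGroup p Q → Nat.card Q ≤ Nat.card B)
    (hsyl : ∀ Q ≤ K, IsPGroup p Q → Nat.card Q ≤ Nat.card ↥(B ⊓ K : Subgroup A))
    [IsCyclic ↥(B ⊓ K : Subgroup A)] : False := by
  classical
  haveI := Fact.mk h.prime
  set P₀ := B ⊓ K with hP₀
  have hP₀p : IsPGroup p P₀ := hB.to_le inf_le_left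
  have hd : Nat.card ↥(⁅P, P⁆ : Subgroup A) = p :=
    ((Nat.dvd_prime h.prime).1 h.derived_card).resolve_left fun e =>
      hne (le_bot_iff.1 (hout.trans (Subgroup.eq_bot_of_card_eq _ e).le))
  have hZ : P ⊓ K = ⁅P, P⁆ := by
    refine Subgroup.eq_of_le_of_card_ge hout ?_
    rw [hd]
    obtain ⟨k, hk⟩ := IsPGroup.iff_card.1 (h.isPGroup.to_le (inf_le_left : P ⊓ K ≤ P))
    rcases Nat.eq_zero_or_pos k with rfl | hk0
    · exact absurd (Subgroup.eq_bot_of_card_eq _ (by rw [hk, pow_zero])) hne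
    · rw [hk]; exact Nat.le_of_dvd (pow_pos h.prime.pos k) (dvd_pow_self p hk0.ne')
  have hZ0 : (⁅P, P⁆ : Subgroup A) ≤ P₀ := hZ ▸ inf_le_inf_right _ hPB
  have hbot : (⁅P, P⁆ : Subgroup A) ≠ ⊥ := fun e => hne (le_bot_iff.1 (hout.trans e.le))
  have hBK : B ≤ normalizer (K : Set A) := hBH.trans (sup_le le_normalizer hPK)
  have hBP₀ : B ≤ normalizer (P₀ : Set A) := le_normalizer_of_conj fun b hb a ha =>
    ⟨mul_mem (mul_mem hb ha.1) (Subgroup.inv_mem _ hb), conj_mem_of_normalizer hBK hb ha.2⟩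
  have hP₀c : ∀ a ∈ P₀, ∀ b ∈ P₀, a * b = b * a := fun a ha b hb => by
    letI := IsCyclic.commGroup (α := P₀)
    exact congrArg Subtype.val (mul_comm (⟨a, ha⟩ : P₀) ⟨b, hb⟩)
  -- transfer gives an element inducing a nontrivial automorphism of order prime to `p`
  obtain ⟨n, hnK, hnN, hnC⟩ : ∃ n ∈ K, n ∈ normalizer (P₀ : Set A) ∧ n ∉ centralizer (P₀ : Set A) := by
    by_contra hcon
    push Not at hcon
    have hS : (P₀.subgroupOf K).map K.subtype = P₀ := map_subgroupOf_eq_of_le inf_le_right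
    let S : Sylow p K := ⟨P₀.subgroupOf K, hP₀p.comap_of_injective K.subtype K.subtype_injective,
      fun {Q} hQ hle => le_antisymm (by
        have h1 : (P₀.subgroupOf K).map K.subtype ≤ Q.map K.subtype := map_mono hle
        rw [hS] at h1
        have e := Subgroup.eq_of_le_of_card_ge h1 (hsyl _ (map_subtype_le Q) (hQ.map _))
        intro q hq
        show (q : A) ∈ P₀
        rw [e]; exact ⟨q, hq, rfl⟩) hle⟩
    have hSN : normalizer ((S : Subgroup K) : Set K) ≤ centralizer ((S : Subgroup K) : Set K) := by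
      intro a ha
      have h1 : (a : A) ∈ normalizer (((S : Subgroup K).map K.subtype : Subgroup A) : Set A) :=
        le_normalizer_map K.subtype ⟨a, ha, rfl⟩
      rw [show (S : Subgroup K).map K.subtype = P₀ from hS] at h1
      exact mem_centralizer_iff.2 fun b hb =>
        Subtype.ext (mem_centralizer_iff.1 (hcon a a.2 h1) b hb)
    haveI : IsMulCommutative (S : Subgroup K) :=
      ⟨⟨fun a b => Subtype.ext (hSN (le_normalizer b.2) a a.2)⟩⟩
    letI : CommGroup (S : Subgroup K) :=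
      { (inferInstance : Group (S : Subgroup K)) with mul_comm := fun a b => mul_comm' a b }
    have hker : (MonoidHom.transferSylow S hSN).ker = ⊤ := by
      haveI : Group.IsPerfect K := Subgroup.isPerfect_iff.mpr hperf
      exact top_le_iff.1 ((Group.IsPerfect.commutator_eq_top (G := K)).ge.trans
        (Abelianization.commutator_subset_ker _))
    have hbS : (S : Subgroup K) = ⊥ := by
      have := MonoidHom.ker_transferSylow_isComplement' S hSN
      rw [hker, isComplement'_top_left] at this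
      exact this
    refine hbot (le_bot_iff.1 (hZ0.trans ?_))
    rw [← hS, show P₀.subgroupOf K = ⊥ from hbS, Subgroup.map_bot]
  obtain ⟨a, m, hm, hom⟩ := Nat.exists_eq_pow_mul_and_not_dvd (orderOf_pos n).ne' p h.prime.ne_one
  set n₀ := n ^ (p ^ a) with hn₀
  have hn₀K : n₀ ∈ K := pow_mem hnK _
  have hn₀N : n₀ ∈ normalizer (P₀ : Set A) := pow_mem hnN _
  have hn₀o : (orderOf n₀).Coprime p := by
    rw [hn₀, orderOf_pow_of_dvd (pow_ne_zero _ h.prime.ne_zero) (hom ▸ dvd_mul_right _ _), hom,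
      Nat.mul_div_cancel_left _ (pow_pos h.prime.pos a)]
    exact ((h.prime.coprime_iff_not_dvd).2 hm).symm
  have hn₀C : n₀ ∉ centralizer (P₀ : Set A) := by
    intro h0
    refine hnC ?_
    have h1 : n ^ m ∈ centralizer (P₀ : Set A) := by
      have hz : IsPGroup p (zpowers (n ^ m)) := by
        refine IsPGroup.iff_card.2 ?_
        obtain ⟨i, -, hi⟩ := (Nat.dvd_prime_pow h.prime).1 (orderOf_dvd_of_pow_eq_one (x := n ^ m)
          (n := p ^ a) (by rw [← pow_mul, mul_comm, ← hom, pow_orderOf_eq_one]))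
        exact ⟨i, by rw [Nat.card_zpowers, hi]⟩
      have hle : zpowers (n ^ m) ≤ normalizer (P₀ : Set A) := zpowers_le.2 (pow_mem hnN m)
      have hQ := IsPGroup.to_sup_of_normal_left' hP₀p hz hle
      have e := Subgroup.eq_of_le_of_card_ge (le_sup_left : P₀ ≤ P₀ ⊔ zpowers (n ^ m))
        (hsyl _ (sup_le inf_le_right (zpowers_le.2 (pow_mem hnK m))) hQ)
      have hmem : n ^ m ∈ P₀ := e ▸ mem_sup_right (mem_zpowers _)
      exact mem_centralizer_iff.2 fun b hb => hP₀c b hb _ hmem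
    have hg : Nat.Coprime (p ^ a) m := ((h.prime.coprime_iff_not_dvd).2 hm).pow_left a
    have hb := Nat.gcd_eq_gcd_ab (p ^ a) m
    rw [hg.gcd_eq_one] at hb
    rw [show n = (n ^ (p ^ a)) ^ Nat.gcdA (p ^ a) m * (n ^ m) ^ Nat.gcdB (p ^ a) m by
      rw [← zpow_natCast n (p ^ a), ← zpow_natCast n m, ← zpow_mul, ← zpow_mul, ← zpow_add, ← hb]
      simp]
    exact mul_mem (zpow_mem h0 _) (zpow_mem h1 _)
  haveI hcyc := Outer.isCyclic_mulAut h.prime h.odd hP₀p
  -- correct it so that it normalises `B`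
  obtain ⟨c, hc, hcB⟩ : ∃ c ∈ K ⊓ centralizer (P₀ : Set A), c⁻¹ * n₀ ∈ normalizer (B : Set A) := by
    set C₀ := K ⊓ centralizer (P₀ : Set A)
    have hBC : B ≤ normalizer (C₀ : Set A) := le_normalizer_of_conj fun b hb d hd =>
      ⟨conj_mem_of_normalizer hBK hb hd.1, mem_centralizer_iff.2 fun y hy => by
        have hy' := conj_mem_of_normalizer hBP₀ (inv_mem hb) hy
        rw [inv_inv] at hy'
        calc y * (b * d * b⁻¹) = b * (b⁻¹ * y * b * d) * b⁻¹ := by group
          _ = b * (d * (b⁻¹ * y * b)) * b⁻¹ := by rw [mem_centralizer_iff.1 hd.2 _ hy']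
          _ = b * d * b⁻¹ * y := by group⟩
    set X := C₀ ⊔ B
    have hXH : X ≤ K ⊔ P := sup_le (inf_le_left.trans le_sup_left) hBH
    have hnB : MulAut.conj n₀ • B ≤ X := by
      intro g hg
      rw [Coprime.mem_conj_smul] at hg
      obtain ⟨b, hb, rfl⟩ : ∃ b ∈ B, g = ⁅n₀, b⁆ * b :=
        ⟨n₀⁻¹ * g * n₀, hg, by rw [commutatorElement_def]; group⟩
      refine mul_mem_sup ⟨?_, ?_⟩ hb
      · rw [commutatorElement_def, show n₀ * b * n₀⁻¹ * b⁻¹ = n₀ * (b * n₀⁻¹ * b⁻¹) by group]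
        exact mul_mem hn₀K (conj_mem_of_normalizer hBK hb (inv_mem hn₀K))
      · letI := IsCyclic.commGroup (α := MulAut P₀)
        have hk : (⁅(⟨n₀, hn₀N⟩ : normalizer (P₀ : Set A)), ⟨b, hBP₀ hb⟩⁆) ∈
            P₀.normalizerMonoidHom.ker := by
          rw [MonoidHom.mem_ker, map_commutatorElement, commutatorElement_eq_one_iff_mul_comm]
          exact mul_comm _ _
        rw [normalizerMonoidHom_ker, mem_subgroupOf] at hk
        exact hk
    obtain ⟨S, hS⟩ := (hB.comap_of_injective X.subtype X.subtype_injective :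
      IsPGroup p (B.subgroupOf X)).exists_le_sylow
    have hSB : (S : Subgroup X).map X.subtype = B := by
      have hle : B ≤ (S : Subgroup X).map X.subtype := fun b hb =>
        ⟨⟨b, mem_sup_right hb⟩, hS hb, rfl⟩
      exact (Subgroup.eq_of_le_of_card_ge hle
        (hmax _ ((map_subtype_le _).trans hXH) (S.isPGroup'.map _))).symm
    obtain ⟨k, hk, hkB⟩ := Coprime.exists_conj_sylow_map hnB S (by
      rw [Coprime.card_conj_smul, ← hSB, card_map_of_injective X.subtype_injective])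
    rw [hSB] at hkB
    obtain ⟨c, hc, b, hb, rfl⟩ := (Coprime.mem_sup_of_le_normalizer hBC).1 hk
    refine ⟨c, hc, ?_⟩
    rw [← Coprime.conj_smul_eq_self_iff, Coprime.conj_smul_mul, hkB, ← Coprime.conj_smul_mul,
      inv_mul_cancel_left, Coprime.conj_smul_eq_self_iff]
    exact le_normalizer hb
  obtain ⟨n', hn'⟩ : ∃ n', n' = c⁻¹ * n₀ := ⟨_, rfl⟩
  rw [← hn'] at hcB
  have hn'K : n' ∈ K := hn' ▸ mul_mem (Subgroup.inv_mem _ hc.1) hn₀K
  have hval : ∀ w ∈ P, w⁻¹ * (n' * w * n'⁻¹) ∈ P₀ := fun w hw => by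
    refine ⟨mul_mem (Subgroup.inv_mem _ (hPB hw)) ?_, ?_⟩
    · exact (mem_normalizer_iff.1 hcB w).1 (hPB hw)
    · rw [show w⁻¹ * (n' * w * n'⁻¹) = w⁻¹ * n' * w⁻¹⁻¹ * n'⁻¹ by group]
      exact mul_mem (conj_mem_of_normalizer hPK (inv_mem hw) hn'K) (Subgroup.inv_mem _ hn'K)
  have hrange : Nat.card (P₀.normalizerMonoidHom.comp (Subgroup.inclusion (hPB.trans hBP₀))).range ≤ p := by
    obtain ⟨⟨_, w, rfl⟩, hgen⟩ := IsCyclic.exists_ofOrder_eq_natCard
      (α := (P₀.normalizerMonoidHom.comp (Subgroup.inclusion (hPB.trans hBP₀))).range)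
    rw [← hgen]
    refine Nat.le_of_dvd h.prime.pos (orderOf_dvd_of_pow_eq_one (Subtype.ext ?_))
    rw [SubgroupClass.coe_pow]
    show _ ^ p = 1
    rw [← map_pow, show w ^ p = 1 from Subtype.ext (h.exp w w.2), map_one]
  obtain ⟨⟨x, hx⟩, hxker, hxd⟩ := h.exists_outside_ker _ hrange
  have hxc : x ∈ centralizer (P₀ : Set A) := by
    rw [MonoidHom.mem_ker, MonoidHom.comp_apply] at hxker
    have := MonoidHom.mem_ker.2 hxker
    rw [normalizerMonoidHom_ker, mem_subgroupOf] at this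
    exact this
  obtain ⟨y, hy, hxy⟩ : ∃ y ∈ P, x * y ≠ y * x := by
    by_contra hn
    push Not at hn
    exact hxd (h.center_le hbot hx hn)
  have hord : ∀ b ∈ P₀, b ^ p = 1 → b ∈ (⁅P, P⁆ : Subgroup A) := by
    intro b hb hbp
    haveI : Fintype P₀ := Fintype.ofFinite _
    have hle := IsCyclic.card_pow_eq_one_le (α := P₀) h.prime.pos
    set F := (Finset.univ.filter fun u : P₀ => u ^ p = 1)
    have hsub : (Finset.univ.filter fun u : P₀ => (u : A) ∈ (⁅P, P⁆ : Subgroup A)) ⊆ F := fun u hu => by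
      simp only [F, Finset.mem_filter, Finset.mem_univ, true_and] at hu ⊢
      exact Subtype.ext (h.exp _ (h.derived_le hu))
    have hcard : (Finset.univ.filter fun u : P₀ => (u : A) ∈ (⁅P, P⁆ : Subgroup A)).card = p := by
      rw [← Fintype.card_subtype, ← Nat.card_eq_fintype_card, ← hd]
      exact Nat.card_congr
        { toFun := fun u => ⟨_, u.2⟩
          invFun := fun z => ⟨⟨z, hZ0 z.2⟩, z.2⟩
          left_inv := fun _ => rfl
          right_inv := fun _ => rfl }
    have he := Finset.eq_of_subset_of_card_le hsub (hle.trans hcard.ge)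
    have hbF : (⟨b, hb⟩ : P₀) ∈ F := by
      simp only [F, Finset.mem_filter, Finset.mem_univ, true_and]
      exact Subtype.ext hbp
    rw [← he] at hbF
    simpa using hbF
  have hxcomm : ∀ b ∈ P₀, x * b = b * x := fun b hb => (mem_centralizer_iff.1 hxc b hb).symm
  obtain ⟨a', ha'⟩ : ∃ a', a' = x⁻¹ * (n' * x * n'⁻¹) := ⟨_, rfl⟩
  have ha'0 : a' ∈ P₀ := ha' ▸ hval x hx
  obtain ⟨b, hb'⟩ : ∃ b, b = y⁻¹ * (n' * y * n'⁻¹) := ⟨_, rfl⟩
  have hb0 : b ∈ P₀ := hb' ▸ hval y hy
  have ha'Z : a' ∈ (⁅P, P⁆ : Subgroup A) := hord a' ha'0 (by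
    have h1 : (x * a') ^ p = 1 := by
      rw [ha', mul_inv_cancel_left, conj_pow, h.exp x hx, mul_one, mul_inv_cancel]
    rwa [(show Commute x a' from hxcomm a' ha'0).mul_pow, h.exp x hx, one_mul] at h1)
  have hyA : y * a' = a' * y := mem_centralizer_iff.1 (h.central ha'Z) y hy
  have hfix : n' * ⁅x, y⁆ * n'⁻¹ = ⁅x, y⁆ := by
    have e1 : n' * x * n'⁻¹ = x * a' := by rw [ha', mul_inv_cancel_left]
    have e2 : n' * y * n'⁻¹ = y * b := by rw [hb', mul_inv_cancel_left]
    calc n' * ⁅x, y⁆ * n'⁻¹ = ⁅n' * x * n'⁻¹, n' * y * n'⁻¹⁆ := by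
          simp only [commutatorElement_def]; group
      _ = ⁅x * a', y * b⁆ := by rw [e1, e2]
      _ = x * (a' * y) * b * a'⁻¹ * x⁻¹ * b⁻¹ * y⁻¹ := by simp only [commutatorElement_def]; group
      _ = x * y * (a' * b) * a'⁻¹ * x⁻¹ * b⁻¹ * y⁻¹ := by rw [← hyA]; group
      _ = x * y * (b * x⁻¹) * b⁻¹ * y⁻¹ := by rw [hP₀c a' ha'0 b hb0]; group
      _ = x * y * (x⁻¹ * b) * b⁻¹ * y⁻¹ := by
          rw [(show Commute x b from hxcomm b hb0).inv_left.eq]
      _ = ⁅x, y⁆ := by simp only [commutatorElement_def]; group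
  have hgen : zpowers ⁅x, y⁆ = ⁅P, P⁆ := by
    refine Subgroup.eq_of_le_of_card_ge (zpowers_le.2 (commutator_mem_commutator hx hy)) ?_
    rw [hd, Nat.card_zpowers, orderOf_eq_prime (h.exp _ (h.derived_le (commutator_mem_commutator hx hy)))
      fun e => hxy (commutatorElement_eq_one_iff_mul_comm.1 e)]
  refine hn₀C (Coprime.OmegaDetect.mem_centralizer_of_fix hn₀o hP₀p hn₀N fun w hw hwp => ?_)
  have hwp' : w ^ p = 1 := hwp.resolve_right fun e => h.odd e.1
  have hwz : w ∈ zpowers ⁅x, y⁆ := hgen ▸ hord w hw hwp'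
  obtain ⟨i, rfl⟩ := mem_zpowers_iff.1 hwz
  have h1 : Commute n' (⁅x, y⁆ ^ i) := Commute.zpow_right (mul_inv_eq_iff_eq_mul.1 hfix) i
  have h2 : Commute c (⁅x, y⁆ ^ i) := (mem_centralizer_iff.1 hc.2 _ hw).symm
  rw [show n₀ = c * n' by rw [hn', mul_inv_cancel_left]]
  exact (h2.mul_left h1).eq

/-- The case of `p` dividing the order. -/
theorem not_dvd_of_outer (hA : RankTwo A) (h : Shape p P T) (hperf : ⁅K, K⁆ = K)
    (hPK : P ≤ normalizer (K : Set A)) (hout : P ⊓ K ≤ ⁅P, P⁆) : ¬ p ∣ Nat.card K := by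
  classical
  haveI := Fact.mk h.prime
  intro hpK
  have hPH : P ≤ K ⊔ P := le_sup_right
  obtain ⟨S, hS⟩ := (h.isPGroup.comap_of_injective (K ⊔ P).subtype (K ⊔ P).subtype_injective :
    IsPGroup p (P.subgroupOf (K ⊔ P))).exists_le_sylow
  set B := (S : Subgroup ↥(K ⊔ P)).map (K ⊔ P).subtype with hBdef
  have hBH : B ≤ K ⊔ P := map_subtype_le _
  have hB : IsPGroup p B := S.isPGroup'.map _
  have hPB : P ≤ B := fun x hx => ⟨⟨x, hPH hx⟩, hS hx, rfl⟩
  have hcomp : ∀ Q ≤ K ⊔ P, IsPGroup p Q → ∃ g ∈ K ⊔ P, MulAut.conj g • Q ≤ B := by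
    intro Q hQ hQp
    obtain ⟨S', hS'⟩ := (hQp.comap_of_injective (K ⊔ P).subtype (K ⊔ P).subtype_injective :
      IsPGroup p (Q.subgroupOf (K ⊔ P))).exists_le_sylow
    obtain ⟨g, hg⟩ := MulAction.exists_smul_eq ↥(K ⊔ P) S' S
    refine ⟨g, g.2, ?_⟩
    intro z hz
    rw [Coprime.mem_conj_smul] at hz
    have h1 : g * ⟨_, hQ hz⟩ * g⁻¹ ∈ ((g • S' : Sylow p _) : Subgroup ↥(K ⊔ P)) := by
      rw [Sylow.coe_subgroup_smul]
      exact Coprime.conj_mem_conj_smul (hS' hz)
    rw [hg] at h1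
    exact ⟨_, h1, by
      show (g : A) * ((g : A)⁻¹ * z * g) * (g : A)⁻¹ = z
      group⟩
  have hmax : ∀ Q ≤ K ⊔ P, IsPGroup p Q → Nat.card Q ≤ Nat.card B := fun Q hQ hQp => by
    obtain ⟨g, -, hg⟩ := hcomp Q hQ hQp
    rw [← Coprime.card_conj_smul g Q]
    exact Subgroup.card_le_of_le hg
  have hKn : K ⊔ P ≤ normalizer (K : Set A) := sup_le le_normalizer hPK
  have hsyl : ∀ Q ≤ K, IsPGroup p Q → Nat.card Q ≤ Nat.card ↥(B ⊓ K : Subgroup A) := fun Q hQ hQp => by
    obtain ⟨g, hg, hgQ⟩ := hcomp Q (hQ.trans le_sup_left) hQp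
    rw [← Coprime.card_conj_smul g Q]
    refine Subgroup.card_le_of_le (le_inf hgQ fun z hz => ?_)
    rw [Coprime.mem_conj_smul] at hz
    exact (mem_normalizer_iff''.1 (hKn hg) z).2 (hQ hz)
  set P₀ := B ⊓ K
  have hP₀p : IsPGroup p P₀ := hB.to_le inf_le_left
  have hP₀ne : P₀ ≠ ⊥ := by
    intro e
    obtain ⟨k, hk⟩ := exists_prime_orderOf_dvd_card' (G := K) p hpK
    have h1 := hsyl (zpowers (k : A)) (zpowers_le.2 k.2) (IsPGroup.iff_card.2
      ⟨1, by rw [Nat.card_zpowers, Subgroup.orderOf_coe, hk, pow_one]⟩)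
    rw [e, card_bot, Nat.card_zpowers, Subgroup.orderOf_coe, hk] at h1
    have := h.prime.two_le
    omega
  have hBP₀ : B ≤ normalizer (P₀ : Set A) := le_normalizer_of_conj fun b hb a ha =>
    ⟨mul_mem (mul_mem hb ha.1) (Subgroup.inv_mem _ hb), conj_mem_of_normalizer (hBH.trans hKn) hb ha.2⟩
  by_cases hPK0 : P ⊓ K = ⊥
  · obtain ⟨z, hz, hz1, hzp, hzc⟩ := Outer.exists_central h.prime hB inf_le_left hBP₀ hP₀ne
    obtain ⟨E, hEP, hEc, hE, -⟩ := h.exists_square
    have hzE := mem_of_commute hA h.prime h.odd hEc (fun a ha => h.exp a (hEP ha)) hE hzp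
      fun a ha => (mem_centralizer_iff.1 hzc a (hPB (hEP ha))).symm
    exact hz1 (Subgroup.mem_bot.1 (hPK0 ▸ (⟨hEP hzE, hz.2⟩ : z ∈ P ⊓ K)))
  by_cases hcyc : IsCyclic P₀
  · exact h.no_cyclic hperf hPK hPK0 hout hB hPB hBH hmax hsyl
  haveI : (P₀.subgroupOf B).Normal := normal_subgroupOf_of_le_normalizer hBP₀
  obtain ⟨U₁, hU₁, hU₁n, ⟨hU₁c, hU₁p⟩, hU₁card⟩ :=
    PLocal.CyclicExtension.exists_normal_elementaryAbelian_sq h.odd hB (P₀.subgroupOf B)
      (fun hc => hcyc ((subgroupOfEquivOfLe (inf_le_left : P₀ ≤ B)).isCyclic.1 hc))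
  set U := U₁.map B.subtype with hU
  have hUP₀ : U ≤ P₀ := by rintro _ ⟨w, hw, rfl⟩; exact hU₁ hw
  have hUc : ∀ a ∈ U, ∀ b ∈ U, a * b = b * a := by
    rintro _ ⟨a, ha, rfl⟩ _ ⟨b, hb, rfl⟩
    exact congrArg (fun w : U₁ => ((w : B) : A)) (hU₁c.is_comm.comm ⟨a, ha⟩ ⟨b, hb⟩)
  have hUp : ∀ a ∈ U, a ^ p = 1 := by
    rintro _ ⟨a, ha, rfl⟩
    rw [← map_pow, hU₁p a ha, map_one]
  have hUcard : Nat.card U = p ^ 2 := by rw [hU, card_map_of_injective B.subtype_injective, hU₁card]
  have hBU : B ≤ normalizer (U : Set A) := le_normalizer_of_conj (by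
    rintro b hb _ ⟨w, hw, rfl⟩
    exact ⟨_, hU₁n.conj_mem w hw ⟨b, hb⟩, rfl⟩)
  have hUne : U ≠ ⊥ := fun e => by
    rw [e, card_bot] at hUcard
    nlinarith [h.prime.two_le]
  haveI : Group.IsNilpotent B := hB.isNilpotent
  set W := ⁅U, B⁆
  have hWU : W < U := Coprime.commutator_lt_of_isNilpotent (hUP₀.trans inf_le_left) hUne hBU
  have hWcard : Nat.card W ≤ p := by
    obtain ⟨i, hi, hi'⟩ := (Nat.dvd_prime_pow h.prime).1
      ((Subgroup.card_dvd_of_le hWU.le).trans hUcard.dvd)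
    have hne : i ≠ 2 := fun e => hWU.ne (Subgroup.eq_of_le_of_card_ge hWU.le (by rw [hi', e, hUcard]))
    rw [hi']
    exact (Nat.pow_le_pow_right h.prime.pos (by omega : i ≤ 1)).trans (pow_one p).le
  have hWc : W ≤ centralizer (B : Set A) := by
    by_cases hW : W = ⊥
    · rw [hW]; exact bot_le
    have hBW : B ≤ normalizer (W : Set A) := le_normalizer_of_conj fun b hb w hw => by
      have h1 : W.map (MulAut.conj b).toMonoidHom ≤ W := by
        rw [map_commutator]
        refine commutator_mono ?_ ?_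
        · rintro _ ⟨u, hu, rfl⟩; exact conj_mem_of_normalizer hBU hb hu
        · rintro _ ⟨u, hu, rfl⟩; exact mul_mem (mul_mem hb hu) (Subgroup.inv_mem _ hb)
      exact h1 ⟨w, hw, rfl⟩
    have h1 := Coprime.commutator_lt_of_isNilpotent (hWU.le.trans (hUP₀.trans inf_le_left)) hW hBW
    refine commutator_eq_bot_iff_le_centralizer.1 (Subgroup.eq_bot_of_card_eq _ ?_)
    obtain ⟨i, hi, hi'⟩ := (Nat.dvd_prime_pow h.prime).1
      ((Subgroup.card_dvd_of_le (h1.le.trans hWU.le)).trans hUcard.dvd)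
    have hlt : Nat.card ↥(⁅W, B⁆ : Subgroup A) < p := lt_of_lt_of_le
      (lt_of_not_ge fun hge => h1.ne (Subgroup.eq_of_le_of_card_ge h1.le hge)) hWcard
    rw [hi'] at hlt ⊢
    have : i = 0 := by
      by_contra hi0
      exact absurd hlt (not_lt.2 (Nat.le_self_pow hi0 p))
    rw [this, pow_zero]
  obtain ⟨v, hv, hvW⟩ := SetLike.exists_of_lt hWU
  let φ : P →* W :=
    { toFun := fun x => ⟨⁅v, (x : A)⁆, commutator_mem_commutator hv (hPB x.2)⟩
      map_one' := Subtype.ext (commutatorElement_one_right v)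
      map_mul' := fun a b => Subtype.ext (by
        have hb := mem_centralizer_iff.1 (hWc (commutator_mem_commutator hv (hPB b.2))) a (hPB a.2)
        calc ⁅v, ((a : A) * b)⁆ = ⁅v, (a : A)⁆ * ((a : A) * ⁅v, (b : A)⁆ * (a : A)⁻¹) := by
              simp only [commutatorElement_def]; group
          _ = ⁅v, (a : A)⁆ * ⁅v, (b : A)⁆ := by rw [hb, mul_inv_cancel_right]) }
  obtain ⟨⟨x, hx⟩, hxk, hxd⟩ := h.exists_outside_ker φ ((Subgroup.card_le_card_group _).trans hWcard)
  have hxv : v * x = x * v := commutatorElement_eq_one_iff_mul_comm.1 (congrArg Subtype.val hxk)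
  have hUW : U ≤ W ⊔ zpowers v := by
    by_cases hW : W = ⊥
    · -- the whole of `U` is centralised by `B`
      intro u hu
      have h1 : ⁅U, B⁆ = ⊥ := hW
      have h2 := mem_of_commute hA h.prime h.odd hUc hUp hUcard.ge (h.exp x hx) fun a ha =>
        mem_centralizer_iff.1 ((commutator_eq_bot_iff_le_centralizer.1 h1) ha) x (hPB hx)
      exact absurd (hout ⟨hx, (hUP₀ h2).2⟩) hxd
    · refine (Subgroup.eq_of_le_of_card_ge (sup_le hWU.le (zpowers_le.2 hv)) ?_).ge
      obtain ⟨i, hi, hi'⟩ := (Nat.dvd_prime_pow h.prime).1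
        ((Subgroup.card_dvd_of_le (sup_le hWU.le (zpowers_le.2 hv))).trans hUcard.dvd)
      have hlt : W < W ⊔ zpowers v := lt_of_le_of_ne le_sup_left fun e =>
        hvW (e ▸ mem_sup_right (mem_zpowers v))
      have hc1 : 1 < Nat.card W := Subgroup.one_lt_card_iff_ne_bot W |>.2 hW
      have hWp : p ≤ Nat.card W := by
        obtain ⟨j, hj, hj'⟩ := (Nat.dvd_prime_pow h.prime).1
          ((Subgroup.card_dvd_of_le hWU.le).trans hUcard.dvd)
        rw [hj'] at hc1 ⊢
        exact Nat.le_self_pow (fun e => by rw [e, pow_zero] at hc1; omega) p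
      have h2 : Nat.card W < Nat.card ↥(W ⊔ zpowers v : Subgroup A) :=
        lt_of_not_ge fun hge => hlt.ne (Subgroup.eq_of_le_of_card_ge hlt.le hge)
      rw [hi'] at h2 ⊢
      rw [hUcard]
      refine Nat.pow_le_pow_right h.prime.pos ?_
      by_contra hi2
      have := (Nat.pow_le_pow_right h.prime.pos (by omega : i ≤ 1))
      rw [pow_one] at this
      omega
  have hxU : ∀ u ∈ U, x * u = u * x := by
    have hle : W ⊔ zpowers v ≤ centralizer ({x} : Set A) := sup_le
      (fun w hw => mem_centralizer_singleton_iff.2 (mem_centralizer_iff.1 (hWc hw) x (hPB hx)).symm)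
      (zpowers_le.2 (mem_centralizer_singleton_iff.2 hxv))
    exact fun u hu => (mem_centralizer_singleton_iff.1 (hle (hUW hu))).symm
  exact hxd (hout ⟨hx, (hUP₀ (mem_of_commute hA h.prime h.odd hUc hUp hUcard.ge (h.exp x hx) hxU)).2⟩)

/-- A pair outside a perfect group centralises it. -/
theorem le_centralizer_of_outer (hA : RankTwo A) (h : Shape p P T) (hperf : ⁅K, K⁆ = K)
    (hsol : ∀ N : Subgroup A, Group.IsSolvable N → K ≤ normalizer (N : Set A) →
      K ≤ centralizer (N : Set A))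
    (hPK : P ≤ normalizer (K : Set A)) (hTK : T ≤ normalizer (K : Set A))
    (hout : P ⊓ K ≤ ⁅P, P⁆) : P ≤ centralizer (K : Set A) :=
  h.centralizes_of_not_dvd hA hsol hPK hTK (h.not_dvd_of_outer hA hperf hPK hout)

end Shape

end Cfsg.Agent.QTXi
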