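import Cfsg.Agent.Lib.QTXi.Defs
import Cfsg.Agent.Lib.CharP.Basic
import Cfsg.Agent.Lib.Cores.Basic
import Cfsg.Agent.Lib.Coprime.Sylow
import Cfsg.Agent.Lib.Coprime.OmegaDetect
import Cfsg.Agent.Lib.PGroups.UniqueSubgroup
import Cfsg.Prelude.Def_Quasithin

/-!
# The irreducible pair of a member of `Ξ`

A member `X` of `Ξ` is the join of its 2-core and of a `p`-subgroup `P` of exponent `p`, and the
normaliser of `P` in `T` is irreducible on it.
-/

set_option autoImplicit false
set_option linter.unusedSectionVars false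
set_option linter.style.haveILetI false

namespace Cfsg.Agent.QTXi

open Subgroup
open scoped Pointwise commutatorElement

universe u v

theorem Shape.map {A : Type u} {B : Type v} [Group A] [Group B] [Finite A] {p : ℕ} {P T : Subgroup A}
    (h : Shape p P T) (f : A →* B) (hf : ∀ x ∈ P, f x = 1 → x = 1) :
    Shape p (P.map f) (T.map f) := by
  have hinj : ∀ D : Subgroup A, D ≤ P → Nat.card (D.map f) = Nat.card D := fun D hD => by
    refine (Nat.card_congr (Equiv.ofBijective (f.subgroupMap D) ⟨?_, f.subgroupMap_surjective D⟩)).symm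
    refine (injective_iff_map_eq_one _).2 fun x hx => Subtype.ext (hf x (hD x.2) ?_)
    exact congrArg Subtype.val hx
  refine ⟨h.prime, h.odd, ?_, ?_, ?_, ?_, ?_, ?_⟩
  · rintro _ ⟨x, hx, rfl⟩
    rw [← map_pow, h.exp x hx, map_one]
  · have h1 : Nat.card (⁅P, P⁆ : Subgroup A) * (⁅P, P⁆ : Subgroup A).relIndex P = Nat.card P := by
      rw [← relIndex_bot_left, ← relIndex_bot_left, relIndex_mul_relIndex ⊥ _ P bot_le h.derived_le]
    rw [← map_commutator]
    have h2 : Nat.card ((⁅P, P⁆ : Subgroup A).map f) *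
        ((⁅P, P⁆ : Subgroup A).map f).relIndex (P.map f) = Nat.card (P.map f) := by
      rw [← relIndex_bot_left, ← relIndex_bot_left,
        relIndex_mul_relIndex ⊥ _ (P.map f) bot_le (map_mono h.derived_le)]
    rw [hinj _ h.derived_le, hinj _ le_rfl, ← h1, h.index] at h2
    exact Nat.eq_of_mul_eq_mul_left Nat.card_pos h2
  · rw [← map_commutator, hinj _ h.derived_le]; exact h.derived_card
  · rw [← map_commutator]
    rintro _ ⟨d, hd, rfl⟩
    refine mem_centralizer_iff.2 ?_
    rintro _ ⟨x, hx, rfl⟩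
    rw [← map_mul, ← map_mul, mem_centralizer_iff.1 (h.central hd) x hx]
  · exact (map_mono h.normalizes).trans (le_normalizer_map f)
  · intro D h1 h2 h3
    have hD : (P ⊓ D.comap f).map f = D := le_antisymm
      (by rintro _ ⟨x, hx, rfl⟩; exact hx.2) fun d hd => by
        obtain ⟨x, hx, rfl⟩ := h2 hd
        exact ⟨x, ⟨hx, hd⟩, rfl⟩
    rw [← hD, ← map_commutator]
    rcases h.irr (P ⊓ D.comap f)
      (le_inf h.derived_le (by rw [← map_le_iff_le_comap, map_commutator]; exact h1)) inf_le_left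
      (fun t ht d hd => ⟨Subgroup.le_normalizer_iff.1 h.normalizes t ht d hd.1, by
        show f (t * d * t⁻¹) ∈ D
        rw [map_mul, map_mul, map_inv]
        exact h3 _ ⟨t, ht, rfl⟩ _ hd.2⟩) with e | e
    · exact Or.inl (by rw [e])
    · exact Or.inr (by rw [e])

theorem Shape.of_map {A : Type u} {B : Type v} [Group A] [Group B] [Finite A] {p : ℕ} {P T : Subgroup A}
    (f : A →* B) (hf : Function.Injective f) (h : Shape p (P.map f) (T.map f)) : Shape p P T := by
  refine ⟨h.prime, h.odd, fun x hx => hf ?_, ?_, ?_, ?_, ?_, ?_⟩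
  · rw [map_pow, map_one]; exact h.exp _ ⟨x, hx, rfl⟩
  · have := h.index
    rwa [← map_commutator, relIndex_map_map_of_injective _ _ hf] at this
  · have := h.derived_card
    rwa [← map_commutator, card_map_of_injective hf] at this
  · intro d hd
    refine mem_centralizer_iff.2 fun x hx => hf ?_
    rw [map_mul, map_mul]
    exact mem_centralizer_iff.1 (h.central (by rw [← map_commutator]; exact ⟨d, hd, rfl⟩)) _ ⟨x, hx, rfl⟩
  · refine Subgroup.le_normalizer_iff.2 fun t ht x hx => ?_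
    have := Subgroup.le_normalizer_iff.1 h.normalizes _ ⟨t, ht, rfl⟩ _ ⟨x, hx, rfl⟩
    rw [← map_inv, ← map_mul, ← map_mul] at this
    exact (mem_map_iff_mem hf).1 this
  · intro D h1 h2 h3
    rcases h.irr (D.map f) (by rw [← map_commutator]; exact map_mono h1) (map_mono h2) (by
      rintro _ ⟨t, ht, rfl⟩ _ ⟨d, hd, rfl⟩
      exact ⟨_, h3 t ht d hd, by rw [map_mul, map_mul, map_inv]⟩) with e | e
    · rw [← map_commutator] at e
      exact Or.inl (map_injective hf e)
    · exact Or.inr (map_injective hf e)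

namespace Setup

/-- The groups of order `p ^ 2` and exponent `p`, and the nonabelian ones of order `p ^ 3`. -/
theorem facts {Q : Type u} [Group Q] [Finite Q] {p : ℕ} [hp : Fact p.Prime]
    (h : (Nat.card Q = p ^ 2 ∧ IsMulCommutative Q ∧ ∀ x : Q, x ^ p = 1) ∨
      (Nat.card Q = p ^ 3 ∧ ¬ IsMulCommutative Q)) :
    Nat.card (commutator Q) ∣ p ∧ (commutator Q).index = p ^ 2 ∧ commutator Q ≤ center Q ∧
      frattini Q ≤ commutator Q := by
  rcases h with ⟨hc, hab, hexp⟩ | ⟨hc, hna⟩
  · have hbot : commutator Q = ⊥ := by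
      rw [_root_.commutator_def, commutator_eq_bot_iff_le_centralizer]
      exact fun a _ => mem_centralizer_iff.2 fun b _ => hab.is_comm.comm b a
    refine ⟨?_, by rw [hbot, index_bot, hc], by rw [hbot]; exact bot_le, ?_⟩
    · rw [hbot, card_bot]; exact one_dvd p
    · rw [hbot]
      have := CharP.frattini_le_ker (p := p) (MonoidHom.id Q) (fun a b => hab.is_comm.comm a b) hexp
      rwa [(MonoidHom.ker_eq_bot_iff (MonoidHom.id Q)).2 Function.injective_id] at this
  have hna' : ¬ ∀ a b : Q, a * b = b * a := fun hh => hna ⟨⟨hh⟩⟩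
  have hQ : IsPGroup p Q := IsPGroup.of_card (n := 3) hc
  have hquot : Nat.card (Q ⧸ center Q) * Nat.card (center Q) = p ^ 3 := by
    rw [← hc]; exact ((center Q).card_eq_card_quotient_mul_card_subgroup).symm
  have hncyc : ¬ IsCyclic (Q ⧸ center Q) := fun _ => hna' fun a b =>
    commutative_of_cyclic_center_quotient (QuotientGroup.mk' (center Q)) (QuotientGroup.ker_mk' _).le a b
  have hZ : Nat.card (center Q) = p := by
    obtain ⟨k, hk0, hk⟩ := IsPGroup.card_center_eq_prime_pow (n := 3) (p := p) hc (by norm_num)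
    have hk3 : k ≤ 3 := (Nat.pow_dvd_pow_iff_le_right hp.out.one_lt).1 (by
      rw [← hk, ← hc]; exact card_subgroup_dvd_card _)
    interval_cases k
    · simpa using hk
    · refine absurd (isCyclic_of_prime_card (p := p) ?_) hncyc
      rw [hk] at hquot
      exact Nat.eq_of_mul_eq_mul_right (pow_pos hp.out.pos 2) (hquot.trans (by ring))
    · refine absurd ?_ hna'
      have htop : center Q = ⊤ := eq_top_of_card_eq _ (by rw [hk, hc])
      exact fun a b => mem_center_iff.1 (htop ▸ mem_top b) a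
  rw [hZ] at hquot
  have h2 : Nat.card (Q ⧸ center Q) = p ^ 2 := Nat.eq_of_mul_eq_mul_right hp.out.pos (hquot.trans (by ring))
  haveI := IsPGroup.isMulCommutative_of_card_eq_prime_sq h2
  have hle : commutator Q ≤ center Q := by
    rw [_root_.commutator_def, commutator_le]
    intro a _ b _
    rw [← QuotientGroup.eq_one_iff, commutatorElement_def, QuotientGroup.mk_mul, QuotientGroup.mk_mul,
      QuotientGroup.mk_mul, QuotientGroup.mk_inv, QuotientGroup.mk_inv, mul_comm' (a : Q ⧸ center Q) b]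
    group
  have heq : commutator Q = center Q := by
    refine eq_of_le_of_card_ge hle ?_
    have hd := card_dvd_of_le hle
    rw [hZ] at hd ⊢
    rcases (Nat.dvd_prime hp.out).1 hd with e | e
    · refine absurd (fun a b => ?_) hna'
      have h0 : ⁅a, b⁆ ∈ commutator Q := commutator_mem_commutator (mem_top _) (mem_top _)
      rwa [Subgroup.eq_bot_of_card_eq _ e, mem_bot, commutatorElement_eq_one_iff_mul_comm] at h0
    · exact e.ge
  refine ⟨?_, by rw [heq]; exact h2, hle, ?_⟩
  · rw [heq, hZ]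
  · rw [heq]
    have := CharP.frattini_le_ker (p := p) (QuotientGroup.mk' (center Q)) (fun a b => mul_comm' _ _)
      (fun a => by
        by_contra hne
        refine hncyc (isCyclic_of_orderOf_eq_card (QuotientGroup.mk' (center Q) a) ?_)
        rw [h2]
        refine orderOf_eq_prime_pow (by rwa [pow_one]) ?_
        rw [show p ^ (1 + 1) = p ^ 2 by rfl, ← h2]
        exact pow_card_eq_one')
    rwa [QuotientGroup.ker_mk'] at this

variable {G : Type u} [Group G] [Finite G]

/-- The irreducible pair of a member of `Ξ`. -/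
theorem exists_pair (T : Sylow 2 G) {X : Subgroup G} (hX : X ∈ Cfsg.Xi (T : Subgroup G)) :
    ∃ (p : ℕ) (P R : Subgroup G), P ≤ X ∧ R ≤ (T : Subgroup G) ∧ P ⊔ R = X ∧
      (∀ N : Subgroup G, N ≤ X → X ≤ normalizer (N : Set G) → IsPGroup 2 N → N ≤ R) ∧
      IsPGroup 2 R ∧ (R.subgroupOf X).Characteristic ∧
      Shape p P ((T : Subgroup G) ⊓ normalizer (P : Set G)) := by
  classical
  obtain ⟨-, hTX, -, ⟨p, hp, hp2, hQ⟩, hirr⟩ := hX
  haveI := Fact.mk hp
  haveI : Fact (Nat.Prime 2) := ⟨Nat.prime_two⟩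
  set O := Cfsg.pCore 2 ↥X with hOdef
  have hO : IsPGroup 2 O := Cores.pCore_isPGroup 2
  set R := O.map X.subtype with hRdef
  have hRX : R ≤ X := map_subtype_le _
  have hXR : X ≤ normalizer (R : Set G) := by
    refine Subgroup.le_normalizer_iff.2 ?_
    rintro a ha _ ⟨o, ho, rfl⟩
    exact ⟨_, (inferInstance : O.Normal).conj_mem o ho ⟨a, ha⟩, rfl⟩
  haveI hOc : O.Characteristic := by
    refine Subgroup.characteristic_iff_map_eq.2 fun φ => ?_
    exact Cores.map_pCore_eq φ 2
  have hRc : (R.subgroupOf X).Characteristic := by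
    rw [show R.subgroupOf X = O from comap_map_eq_self_of_injective X.subtype_injective O]
    exact hOc
  have hTR : (T : Subgroup G) ≤ normalizer (R : Set G) :=
    hTX.trans (Coprime.OmegaDetect.normalizer_le_normalizer_char X O)
  have hRT : R ≤ (T : Subgroup G) := by
    have hp' := IsPGroup.to_sup_of_normal_left' (hO.map X.subtype) T.isPGroup' hTR
    exact le_sup_left.trans (T.is_maximal' hp' le_sup_right).le
  have hmax : ∀ N : Subgroup G, N ≤ X → X ≤ normalizer (N : Set G) → IsPGroup 2 N → N ≤ R := by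
    intro N hNX hXN hN n hn
    haveI : (N.subgroupOf X).Normal := normal_subgroupOf_of_le_normalizer hXN
    exact ⟨⟨n, hNX hn⟩, Cores.le_pCore (N := N.subgroupOf X) (hN.comap_of_injective X.subtype X.subtype_injective) hn, rfl⟩
  obtain ⟨k, hk⟩ := IsPGroup.iff_card.1 hO
  obtain ⟨e, he⟩ : ∃ e, Nat.card (↥X ⧸ O) = p ^ e := by
    rcases hQ with ⟨hc, -⟩ | ⟨hc, -⟩ <;> exact ⟨_, hc⟩
  have hcop : ∀ a : ℕ, (p ^ a).Coprime (2 ^ k) := fun a =>
    Nat.Coprime.pow a k ((Nat.coprime_primes hp Nat.prime_two).2 hp2)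
  have hXcard : Nat.card X = p ^ e * 2 ^ k := by
    rw [O.card_eq_card_quotient_mul_card_subgroup, he, hk]
  obtain ⟨S⟩ : Nonempty (Sylow p X) := inferInstance
  set P := (S : Subgroup X).map X.subtype with hPdef
  have hPX : P ≤ X := map_subtype_le _
  set g : (S : Subgroup X) →* ↥X ⧸ O := (QuotientGroup.mk' O).comp (S : Subgroup X).subtype with hg
  obtain ⟨j, hj⟩ := IsPGroup.iff_card.1 S.isPGroup'
  have hginj : Function.Injective g := by
    refine (injective_iff_map_eq_one g).2 fun x hx => ?_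
    have hxO : (x : X) ∈ O := (QuotientGroup.eq_one_iff _).1 hx
    have h1 : orderOf (x : X) ∣ p ^ j := by
      rw [← hj, Subgroup.orderOf_coe]; exact orderOf_dvd_natCard x
    have h2 : orderOf (x : X) ∣ 2 ^ k := by
      rw [← hk]; exact Subgroup.orderOf_dvd_natCard O hxO
    have := Nat.eq_one_of_dvd_coprimes (hcop j) h1 h2
    exact Subtype.ext (orderOf_eq_one_iff.1 this)
  have hSc : Nat.card (S : Subgroup X) = Nat.card (↥X ⧸ O) := by
    refine le_antisymm (Nat.card_le_card_of_injective g hginj) ?_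
    rw [he, hj]
    have h1 : p ^ e ∣ Nat.card (S : Subgroup X) :=
      S.pow_dvd_card_of_pow_dvd_card (hXcard ▸ dvd_mul_right _ _)
    rw [hj] at h1
    exact Nat.le_of_dvd (pow_pos hp.pos j) h1
  have hgb : Function.Bijective g := ((Nat.bijective_iff_injective_and_card g).2 ⟨hginj, hSc⟩)
  have hdec : ∀ z : X, ∃ y ∈ (S : Subgroup X), y⁻¹ * z ∈ O := fun z => by
    obtain ⟨y, hy⟩ := hgb.2 (QuotientGroup.mk' O z)
    exact ⟨y, y.2, QuotientGroup.eq.1 hy⟩
  have hPR : P ⊔ R = X := by
    refine le_antisymm (sup_le hPX hRX) fun z hz => ?_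
    obtain ⟨y, hy, hyz⟩ := hdec ⟨z, hz⟩
    rw [show z = (y : G) * ((y⁻¹ * ⟨z, hz⟩ : X) : G) by simp]
    exact mul_mem_sup ⟨y, hy, rfl⟩ ⟨_, hyz, rfl⟩
  have hPRbot : ∀ z ∈ P, z ∈ R → z = 1 := by
    rintro _ ⟨y, hy, rfl⟩ ⟨o, ho, hoy⟩
    have e1 : o = y := X.subtype_injective hoy
    rw [e1] at ho
    have := hginj (a₁ := ⟨y, hy⟩) (a₂ := 1) (by rw [map_one]; exact (QuotientGroup.eq_one_iff y).2 ho)
    exact congrArg (fun w : (S : Subgroup X) => ((w : X) : G)) this
  -- facts on `P`
  let eq : (S : Subgroup X) ≃* ↥X ⧸ O := MulEquiv.ofBijective g hgb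
  let eP : (S : Subgroup X) ≃* P := (S : Subgroup X).equivMapOfInjective X.subtype X.subtype_injective
  let ePQ : P ≃* ↥X ⧸ O := eP.symm.trans eq
  have hQP : (Nat.card P = p ^ 2 ∧ IsMulCommutative P ∧ ∀ x : P, x ^ p = 1) ∨
      (Nat.card P = p ^ 3 ∧ ¬ IsMulCommutative P) := by
    rcases hQ with ⟨hc, hab, hexp⟩ | ⟨hc, hna⟩
    · refine Or.inl ⟨(Nat.card_congr ePQ.toEquiv).trans hc, ⟨⟨fun a b => ePQ.injective ?_⟩⟩,
        fun x => ePQ.injective ?_⟩
      · rw [map_mul, map_mul]; exact hab.is_comm.comm _ _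
      · rw [map_pow, map_one]; exact hexp _
    · refine Or.inr ⟨(Nat.card_congr ePQ.toEquiv).trans hc, fun hab => hna ⟨⟨fun a b => ePQ.symm.injective ?_⟩⟩⟩
      rw [map_mul, map_mul]; exact hab.is_comm.comm _ _
  obtain ⟨hd, hidx, hcen, -⟩ := facts hQP
  have hcomm : (⁅P, P⁆ : Subgroup G) = (commutator P).map P.subtype := (map_subtype_commutator P).symm
  have hsub : (⁅P, P⁆ : Subgroup G).subgroupOf P = commutator P := by
    rw [hcomm]; exact comap_map_eq_self_of_injective P.subtype_injective _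
  have hd' : Nat.card (⁅P, P⁆ : Subgroup G) ∣ p := by
    rw [hcomm, card_map_of_injective P.subtype_injective]; exact hd
  have hidx' : (⁅P, P⁆ : Subgroup G).relIndex P = p ^ 2 := by
    rw [Subgroup.relIndex, hsub, hidx]
  have hcen' : (⁅P, P⁆ : Subgroup G) ≤ centralizer (P : Set G) := by
    rw [hcomm]
    rintro _ ⟨d, hd', rfl⟩
    exact mem_centralizer_iff.2 fun x hx => congrArg Subtype.val (mem_center_iff.1 (hcen hd') ⟨x, hx⟩)
  set T₀ := (T : Subgroup G) ⊓ normalizer (P : Set G)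
  -- every element of `T` is a product from `R` and `T₀`
  have hTdec : ∀ t ∈ (T : Subgroup G), ∃ r ∈ R, r⁻¹ * t ∈ T₀ := by
    intro t ht
    have htX : MulAut.conj t • P ≤ X := by
      intro a ha
      rw [Coprime.mem_conj_smul] at ha
      have := Subgroup.le_normalizer_iff.1 hTX t ht _ (hPX ha)
      simpa [mul_assoc] using this
    obtain ⟨c, hc, hcP⟩ := Coprime.exists_conj_sylow_map htX S (by
      rw [Coprime.card_conj_smul, hPdef, card_map_of_injective X.subtype_injective])
    rw [← hPdef] at hcP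
    rw [← hPR, sup_comm] at hc
    obtain ⟨r, hr, y, hy, rfl⟩ := (Coprime.mem_sup_of_le_normalizer (hPX.trans hXR)).1 hc
    refine ⟨r, hr, mul_mem (Subgroup.inv_mem _ (hRT hr)) ht, ?_⟩
    show r⁻¹ * t ∈ normalizer (P : Set G)
    rw [← Coprime.conj_smul_eq_self_iff, Coprime.conj_smul_mul, hcP, ← Coprime.conj_smul_mul,
      inv_mul_cancel_left, Coprime.conj_smul_eq_self_iff]
    exact le_normalizer hy
  have hirr' : ∀ D : Subgroup G, ⁅P, P⁆ ≤ D → D ≤ P → (∀ t ∈ T₀, ∀ d ∈ D, t * d * t⁻¹ ∈ D) →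
      D = ⁅P, P⁆ ∨ D = P := by
    intro D h1 h2 h3
    have hDn : D ≤ normalizer (R : Set G) := h2.trans (hPX.trans hXR)
    have hphi : ∀ z : X, QuotientGroup.mk' O z ∈ frattini (↥X ⧸ O) →
        ∃ y ∈ (⁅P, P⁆ : Subgroup G), ∃ r ∈ R, (z : G) = y * r := by
      intro z hz
      have hz' := (facts hQ).2.2.2 hz
      have hmap : (commutator (S : Subgroup X)).map g = commutator (↥X ⧸ O) := by
        rw [_root_.commutator_def, _root_.commutator_def, map_commutator, map_top_of_surjective g hgb.2]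
      rw [← hmap] at hz'
      obtain ⟨y, hy, hyz⟩ := hz'
      refine ⟨((y : X) : G), ?_, (((y : X)⁻¹ * z : X) : G), ⟨_, QuotientGroup.eq.1 hyz, rfl⟩, by simp⟩
      have : (y : X) ∈ (⁅(S : Subgroup X), (S : Subgroup X)⁆ : Subgroup X) := by
        rw [← map_subtype_commutator]; exact ⟨y, hy, rfl⟩
      rw [hPdef, ← map_commutator]
      exact ⟨_, this, rfl⟩
    have hY1 : Cfsg.twoPhiCore X ≤ D ⊔ R := by
      rintro _ ⟨z, hz, rfl⟩
      obtain ⟨y, hy, r, hr, hzy⟩ := hphi z hz
      show (z : G) ∈ D ⊔ R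
      rw [hzy]
      exact mul_mem_sup (h1 hy) hr
    have hY3 : (T : Subgroup G) ≤ normalizer ((D ⊔ R : Subgroup G) : Set G) := by
      intro t ht
      obtain ⟨r, hr, hrt⟩ := hTdec t ht
      have hT₀ : T₀ ≤ normalizer ((D ⊔ R : Subgroup G) : Set G) := by
        refine Subgroup.le_normalizer_iff.2 fun a ha x hx => ?_
        have hle : D ⊔ R ≤ (D ⊔ R).comap (MulAut.conj a).toMonoidHom :=
          sup_le (fun d hd => mem_sup_left (h3 a ha d hd))
            (fun d hd => mem_sup_right (Subgroup.le_normalizer_iff.1 hTR a ha.1 d hd))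
        exact hle hx
      rw [show t = r * (r⁻¹ * t) by group]
      exact mul_mem (le_normalizer (mem_sup_right hr)) (hT₀ hrt)
    rcases hirr (D ⊔ R) hY1 (sup_le (h2.trans hPX) hRX) hY3 with e | e
    · refine Or.inl (le_antisymm (fun d hd => ?_) h1)
      obtain ⟨z, hz, hzd⟩ : d ∈ Cfsg.twoPhiCore X := e ▸ mem_sup_left hd
      obtain ⟨y, hy, r, hr, hzy⟩ := hphi z hz
      have hdy : d = y * r := hzd.symm.trans hzy
      have hr1 : r = 1 := hPRbot r (by
        rw [show r = y⁻¹ * d by rw [hdy, inv_mul_cancel_left]]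
        exact mul_mem (Subgroup.inv_mem _ (commutator_le_self P hy)) (h2 hd)) hr
      rw [hdy, hr1, mul_one]; exact hy
    · refine Or.inr (le_antisymm h2 fun x hx => ?_)
      have hxY : x ∈ R ⊔ D := by rw [sup_comm, e]; exact hPX hx
      obtain ⟨r, hr, d, hd, hrd⟩ := (Coprime.mem_sup_of_le_normalizer hDn).1 hxY
      have hr1 : r = 1 := hPRbot r (by
        rw [show r = x * d⁻¹ by rw [← hrd, mul_inv_cancel_right]]
        exact mul_mem hx (Subgroup.inv_mem _ (h2 hd))) hr
      rw [← hrd, hr1, one_mul]; exact hd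
  refine ⟨p, P, R, hPX, hRT, hPR, hmax, hO.map _, hRc, ⟨hp, hp2, ?_, hidx', hd', hcen', inf_le_right, hirr'⟩⟩
  rcases hQP with ⟨-, -, hexp⟩ | ⟨hc, hna⟩
  · exact fun x hx => congrArg Subtype.val (hexp ⟨x, hx⟩)
  -- the nonabelian case has exponent `p`
  have hdexp : ∀ d ∈ (⁅P, P⁆ : Subgroup G), d ^ p = 1 := fun d hd0 => orderOf_dvd_iff_pow_eq_one.1
    ((Subgroup.orderOf_dvd_natCard _ hd0).trans hd')
  let D : Subgroup G :=
    { carrier := {x | x ∈ P ∧ x ^ p = 1}
      one_mem' := ⟨one_mem _, one_pow _⟩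
      mul_mem' := by
        rintro a b ⟨ha, ha'⟩ ⟨hb, hb'⟩
        refine ⟨mul_mem ha hb, ?_⟩
        obtain ⟨c, hc0, hc⟩ : ∃ c ∈ (⁅P, P⁆ : Subgroup G), b * a = a * b * c :=
          ⟨⁅b⁻¹, a⁻¹⁆, commutator_mem_commutator (Subgroup.inv_mem _ hb) (Subgroup.inv_mem _ ha),
            by rw [commutatorElement_def]; group⟩
        have hcc : ∀ w ∈ P, Commute c w := fun w hw => (mem_centralizer_iff.1 (hcen' hc0) w hw).symm
        rw [Coprime.OmegaDetect.mul_pow_central hc (hcc b hb) (hcc a ha), ha', hb', one_mul, one_mul]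
        obtain ⟨w, hw⟩ := hp.dvd_choose_self two_ne_zero
          (lt_of_le_of_ne hp.two_le (Ne.symm hp2) : 2 < p)
        rw [hw, pow_mul, hdexp c hc0, one_pow]
      inv_mem' := fun {a} ha => ⟨Subgroup.inv_mem _ ha.1, by rw [inv_pow, ha.2, inv_one]⟩ }
  rcases hirr' D (fun d hd0 => ⟨commutator_le_self P hd0, hdexp d hd0⟩) (fun x hx => hx.1)
    (fun t ht d hd0 => ⟨(mem_normalizer_iff.1 ht.2 d).1 hd0.1, by
      rw [conj_pow, hd0.2, mul_one, mul_inv_cancel]⟩) with e | e
  · exfalso
    have hdp : Nat.card (⁅P, P⁆ : Subgroup G) = p :=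
      ((Nat.dvd_prime hp).1 hd').resolve_left fun e0 => hna ⟨⟨fun a b => Subtype.ext
        ((mem_centralizer_iff.1 (commutator_eq_bot_iff_le_centralizer.1
          (Subgroup.eq_bot_of_card_eq _ e0) a.2) b b.2).symm)⟩⟩
    have hord : ∀ H : Subgroup P, Nat.card H = p → H.map P.subtype = ⁅P, P⁆ := by
      intro H hH
      refine Subgroup.eq_of_le_of_card_ge ?_ (by
        rw [hdp, card_map_of_injective P.subtype_injective, hH])
      rintro _ ⟨x, hx, rfl⟩
      rw [← e]
      refine ⟨x.2, ?_⟩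
      have := pow_card_eq_one' (x := (⟨x, hx⟩ : H))
      rw [hH] at this
      exact congrArg (fun w : H => ((w : P) : G)) this
    rcases PGroups.UniqueSubgroup.isCyclic_or_quaternion (IsPGroup.of_card (n := 3) hc)
      (fun H K hH hK => map_injective P.subtype_injective ((hord H hH).trans (hord K hK).symm)) with hcy | ⟨h2, -⟩
    · letI := IsCyclic.commGroup (α := P)
      exact hna ⟨⟨mul_comm⟩⟩
    · exact hp2 h2
  · intro x hx
    rw [← e] at hx
    exact hx.2

end Setup

end Cfsg.Agent.QTXi
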