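import Cfsg.Agent.Lib.QTXi.Pair
import Cfsg.Agent.Lib.QTXi.Setup
import Cfsg.Agent.Lib.QTXi.Outer
import Cfsg.Agent.InvChar.EvenChar
import Cfsg.Agent.Lib.PLocal.CommonNormal.Qrc.Main

/-!
# The offender of a faithful member of `Ξ*`

If `M = N(X)` is the only maximal 2-local subgroup over `XT`, a minimal member `H` of `ℋ(T, M)` and the
module `V = C_W(S)`, `W = Ω₁ Z(O₂ X)`, `S = T ∩ C_M(X / O₂ X)`, give an offender on `V` coming from `T`.
-/

set_option autoImplicit false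
set_option linter.unusedSectionVars false
set_option linter.style.haveILetI false

namespace Cfsg.Agent.QTXi

open Subgroup
open scoped Pointwise commutatorElement

universe u

variable {G : Type u} [Group G] [Finite G]

namespace Faithful

/-- The elements of `N(X) ∩ N(R)` trivial on `X / R`. -/
def actKer (X R : Subgroup G) : Subgroup G where
  carrier := {g | g ∈ normalizer (X : Set G) ∧ g ∈ normalizer (R : Set G) ∧ ∀ x ∈ X, g * x * g⁻¹ * x⁻¹ ∈ R}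
  one_mem' := ⟨one_mem _, one_mem _, fun x _ => by simp⟩
  mul_mem' := by
    rintro g h ⟨hg, hgR, hg'⟩ ⟨hh, hhR, hh'⟩
    refine ⟨mul_mem hg hh, mul_mem hgR hhR, fun x hx => ?_⟩
    rw [show g * h * x * (g * h)⁻¹ * x⁻¹ = g * (h * x * h⁻¹ * x⁻¹) * g⁻¹ * (g * x * g⁻¹ * x⁻¹) by group]
    exact mul_mem ((mem_normalizer_iff.1 hgR _).1 (hh' x hx)) (hg' x hx)
  inv_mem' := by
    rintro g ⟨hg, hgR, hg'⟩
    refine ⟨Subgroup.inv_mem _ hg, Subgroup.inv_mem _ hgR, fun x hx => ?_⟩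
    rw [show g⁻¹ * x * g⁻¹⁻¹ * x⁻¹ = g⁻¹ * (g * x * g⁻¹ * x⁻¹)⁻¹ * g⁻¹⁻¹ by group]
    exact (mem_normalizer_iff.1 (Subgroup.inv_mem _ hgR) _).1 (Subgroup.inv_mem _ (hg' x hx))

theorem mem_actKer {X R : Subgroup G} {g : G} :
    g ∈ actKer X R ↔
      g ∈ normalizer (X : Set G) ∧ g ∈ normalizer (R : Set G) ∧ ∀ x ∈ X, g * x * g⁻¹ * x⁻¹ ∈ R :=
  Iff.rfl

theorem actKer_conj {X R : Subgroup G} {h g : G} (hX : h ∈ normalizer (X : Set G))
    (hR : h ∈ normalizer (R : Set G)) (hg : g ∈ actKer X R) : h * g * h⁻¹ ∈ actKer X R := by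
  obtain ⟨hgX, hgR, hg'⟩ := hg
  refine ⟨mul_mem (mul_mem hX hgX) (Subgroup.inv_mem _ hX), mul_mem (mul_mem hR hgR) (Subgroup.inv_mem _ hR),
    fun x hx => ?_⟩
  have hy : h⁻¹ * x * h ∈ X := (mem_normalizer_iff''.1 hX x).1 hx
  rw [show h * g * h⁻¹ * x * (h * g * h⁻¹)⁻¹ * x⁻¹ =
    h * (g * (h⁻¹ * x * h) * g⁻¹ * (h⁻¹ * x * h)⁻¹) * h⁻¹ by group]
  exact (mem_normalizer_iff.1 hR _).1 (hg' _ hy)

/-- A subgroup meeting every coset of `C` in `Z` sees the whole index. -/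
theorem relIndex_cover {Y Z C : Subgroup G} (hYZ : Y ≤ Z) (hn : Z ≤ normalizer (C : Set G))
    (h : ∀ z ∈ Z, ∃ y ∈ Y, y⁻¹ * z ∈ C) : C.relIndex Y = C.relIndex Z := by
  haveI : (C.subgroupOf Z).Normal :=
    ⟨fun c hc g => (mem_normalizer_iff.1 (hn g.2) c).1 hc⟩
  let ψ : Y →* Z ⧸ C.subgroupOf Z := (QuotientGroup.mk' _).comp (Subgroup.inclusion hYZ)
  have hker : ψ.ker = C.subgroupOf Y := by
    ext y
    rw [MonoidHom.mem_ker, MonoidHom.comp_apply, QuotientGroup.mk'_apply, QuotientGroup.eq_one_iff,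
      mem_subgroupOf, mem_subgroupOf, Subgroup.coe_inclusion]
  have hsurj : Function.Surjective ψ := by
    intro q
    obtain ⟨z, rfl⟩ := QuotientGroup.mk'_surjective _ q
    obtain ⟨y, hy, hyz⟩ := h z z.2
    exact ⟨⟨y, hy⟩, QuotientGroup.eq.2 hyz⟩
  rw [relIndex, ← hker, Subgroup.index_ker, MonoidHom.range_eq_top.2 hsurj, Subgroup.card_top,
    ← index_eq_card]
  rfl

/-- A Sylow 2-subgroup covers an elementary quotient. -/
theorem exists_cover {B C : Subgroup G} (hn : B ≤ normalizer (C : Set G)) (hsq : ∀ b ∈ B, b * b ∈ C) :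
    ∃ B₂ ≤ B, IsPGroup 2 B₂ ∧ ∀ b ∈ B, ∃ y ∈ B₂, y⁻¹ * b ∈ C := by
  haveI : Fact (Nat.Prime 2) := ⟨Nat.prime_two⟩
  haveI : (C.subgroupOf B).Normal :=
    ⟨fun c hc g => (mem_normalizer_iff.1 (hn g.2) c).1 hc⟩
  obtain ⟨S⟩ : Nonempty (Sylow 2 B) := inferInstance
  have hsurj := QuotientGroup.mk'_surjective (C.subgroupOf B)
  have hp : IsPGroup 2 (B ⧸ C.subgroupOf B) := fun q => by
    obtain ⟨b, rfl⟩ := hsurj q
    refine ⟨1, ?_⟩
    rw [pow_one, ← map_pow]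
    refine (QuotientGroup.eq_one_iff _).2 ?_
    rw [mem_subgroupOf, SubgroupClass.coe_pow, pow_two]
    exact hsq b b.2
  have htop : (S.mapSurjective hsurj : Subgroup (B ⧸ C.subgroupOf B)) = ⊤ :=
    ((S.mapSurjective hsurj).is_maximal' (hp.to_subgroup ⊤) le_top).symm
  rw [Sylow.coe_mapSurjective] at htop
  refine ⟨(S : Subgroup B).map B.subtype, map_subtype_le _, S.isPGroup'.map _, fun b hb => ?_⟩
  obtain ⟨y, hy, hyb⟩ := htop.ge (mem_top (QuotientGroup.mk' (C.subgroupOf B) ⟨b, hb⟩))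
  have hmem : y⁻¹ * ⟨b, hb⟩ ∈ C.subgroupOf B := QuotientGroup.eq.1 hyb
  exact ⟨(y : G), ⟨y, hy, rfl⟩, hmem⟩

/-- Covering subgroups have the same fixed points on `V`. -/
theorem cent_cover {Y Z V : Subgroup G} (hYZ : Y ≤ Z)
    (h : ∀ z ∈ Z, ∃ y ∈ Y, y⁻¹ * z ∈ centralizer (V : Set G)) :
    V ⊓ centralizer (Y : Set G) = V ⊓ centralizer (Z : Set G) := by
  refine le_antisymm (fun v hv => ⟨hv.1, mem_centralizer_iff.2 fun z hz => ?_⟩)
    (inf_le_inf_left _ (centralizer_le hYZ))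
  obtain ⟨y, hy, hyz⟩ := h z hz
  have h1 : Commute y v := mem_centralizer_iff.1 hv.2 y hy
  have h2 : Commute (y⁻¹ * z) v := (mem_centralizer_iff.1 hyz v hv.1).symm
  have := h1.mul_left h2
  rwa [mul_inv_cancel_left] at this

/-- An element of `N(X)` is a product of one from `R` and one normalising `P`. -/
theorem decompose {p : ℕ} {T₀ X P R : Subgroup G} (hS : Shape p P T₀) (hX : P ⊔ R = X) (hR : IsPGroup 2 R)
    (hPR : P ≤ normalizer (R : Set G)) {g : G} (hg : g ∈ normalizer (X : Set G)) :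
    ∃ r ∈ R, r⁻¹ * g ∈ normalizer (P : Set G) := by
  haveI := Fact.mk hS.prime
  have hPX : P ≤ X := hX ▸ le_sup_left
  have hdec : ∀ x ∈ X, ∃ r ∈ R, ∃ y ∈ P, r * y = x := fun x hx => by
    rw [← hX, sup_comm] at hx
    exact (Coprime.mem_sup_of_le_normalizer hPR).1 hx
  let S : Sylow p X := ⟨P.subgroupOf X, hS.isPGroup.comap_of_injective X.subtype X.subtype_injective,
    fun {Q} hQ hle => le_antisymm (fun q hq => by
      obtain ⟨r, hr, y, hy, hry⟩ := hdec q q.2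
      show (q : G) ∈ P
      have hr' : (⟨r, hX ▸ mem_sup_right hr⟩ : X) = q * (⟨y, hPX hy⟩ : X)⁻¹ :=
        Subtype.ext (eq_mul_inv_of_mul_eq hry)
      have hrQ : (⟨r, hX ▸ mem_sup_right hr⟩ : X) ∈ Q := by
        rw [hr']; exact mul_mem hq (Subgroup.inv_mem _ (hle hy))
      obtain ⟨i, hi⟩ := IsPGroup.iff_orderOf.1 hQ ⟨_, hrQ⟩
      obtain ⟨j, hj⟩ := IsPGroup.iff_orderOf.1 hR ⟨r, hr⟩
      rw [Subgroup.orderOf_mk, ← Subgroup.orderOf_coe] at hi
      rw [Subgroup.orderOf_mk] at hj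
      rw [hj] at hi
      have h1 : 2 ^ j = 1 := Nat.eq_one_of_dvd_coprimes
        (Nat.Coprime.pow i j ((Nat.coprime_primes hS.prime Nat.prime_two).2 hS.odd))
        (dvd_of_eq hi) dvd_rfl
      rw [← hry, show r = 1 from orderOf_eq_one_iff.1 (hj.trans h1), one_mul]
      exact hy) hle⟩
  have hgP : MulAut.conj g • P ≤ X := fun a ha => by
    rw [Coprime.mem_conj_smul] at ha
    have := (mem_normalizer_iff.1 hg _).1 (hPX ha)
    simpa [mul_assoc] using this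
  have hSm : (S : Subgroup X).map X.subtype = P := map_subgroupOf_eq_of_le hPX
  obtain ⟨c, hc, hcP⟩ := Coprime.exists_conj_sylow_map hgP S (by
    rw [Coprime.card_conj_smul, ← card_map_of_injective X.subtype_injective, hSm])
  rw [hSm] at hcP
  obtain ⟨r, hr, y, hy, rfl⟩ := hdec c hc
  refine ⟨r, hr, ?_⟩
  rw [← Coprime.conj_smul_eq_self_iff, Coprime.conj_smul_mul, hcP, ← Coprime.conj_smul_mul,
    inv_mul_cancel_left, Coprime.conj_smul_eq_self_iff]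
  exact le_normalizer hy

/-- The common data. -/
structure Data (T : Sylow 2 G) (M X : Subgroup G) (p : ℕ) (P R : Subgroup G) : Prop where
  shape : Shape p P ((T : Subgroup G) ⊓ normalizer (P : Set G))
  hX : P ⊔ R = X
  rT : R ≤ (T : Subgroup G)
  rTwo : IsPGroup 2 R
  rX : X ≤ normalizer (R : Set G)
  top : ∀ N : Subgroup G, N ≤ X → X ≤ normalizer (N : Set G) → IsPGroup 2 N → N ≤ R
  xM : X ≤ M
  tM : (T : Subgroup G) ≤ M
  mX : M ≤ normalizer (X : Set G)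
  mR : M ≤ normalizer (R : Set G)
  faith : ⁅InvChar.EvenChar.zone R, X⁆ ≠ ⊥

variable {T : Sylow 2 G} {M X P R : Subgroup G} {p : ℕ} (d : Data T M X p P R)

/-- `T ∩ C_M(X / R)`. -/
abbrev low (T : Sylow 2 G) (X R : Subgroup G) : Subgroup G := (T : Subgroup G) ⊓ actKer X R

/-- The covering subgroup of `M`. -/
abbrev big (T : Sylow 2 G) (M X R : Subgroup G) : Subgroup G :=
  M ⊓ normalizer (low T X R : Set G)

/-- The module. -/
abbrev mdl (T : Sylow 2 G) (X R : Subgroup G) : Subgroup G :=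
  InvChar.EvenChar.zone R ⊓ centralizer (low T X R : Set G)

include d

theorem pX : P ≤ X := d.hX ▸ le_sup_left

theorem r_low : R ≤ low T X R := fun r hr =>
  ⟨d.rT hr, le_normalizer (d.hX ▸ mem_sup_right hr : r ∈ X), le_normalizer hr, fun x hx => by
    rw [show r * x * r⁻¹ * x⁻¹ = r * (x * r⁻¹ * x⁻¹) by group]
    exact mul_mem hr ((mem_normalizer_iff.1 (d.rX hx) _).1 (Subgroup.inv_mem _ hr))⟩

theorem t_big : (T : Subgroup G) ≤ big T M X R := by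
  refine le_inf d.tM (le_normalizer_of_conj fun t ht s hs => ?_)
  exact ⟨mul_mem (mul_mem ht hs.1) (Subgroup.inv_mem _ ht),
    actKer_conj (d.mX (d.tM ht)) (d.mR (d.tM ht)) hs.2⟩

theorem x_big : X ≤ big T M X R := by
  refine le_inf d.xM (le_normalizer_of_conj fun x hx s hs => ?_)
  rw [show x * s * x⁻¹ = (s * x * s⁻¹ * x⁻¹)⁻¹ * s by group]
  exact mul_mem (Subgroup.inv_mem _ (r_low d (hs.2.2.2 x hx))) hs

theorem mdl_le : mdl T X R ≤ R := inf_le_left.trans (InvChar.EvenChar.zone_le R)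

theorem big_norm : big T M X R ≤ normalizer (mdl T X R : Set G) :=
  (le_inf ((inf_le_left : big T M X R ≤ M).trans (InvChar.EvenChar.le_normalizer_zone d.mR))
    ((inf_le_right : big T M X R ≤ _).trans (CharP.normalizer_le_normalizer_centralizer _))).trans
      inf_normalizer_le_normalizer_inf

theorem mdl_comm : ∀ u ∈ mdl T X R, ∀ v ∈ mdl T X R, u * v = v * u := fun _ hu _ hv =>
  (InvChar.EvenChar.mem_zone.1 hv.1).1.2 _ (InvChar.EvenChar.mem_zone.1 hu.1).1.1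

theorem mdl_sq : ∀ u ∈ mdl T X R, u * u = 1 := fun u hu => by
  rw [← pow_two]; exact (InvChar.EvenChar.mem_zone.1 hu.1).2

theorem r_cent : R ≤ centralizer (mdl T X R : Set G) := fun r hr =>
  mem_centralizer_iff.2 fun v hv => ((InvChar.EvenChar.mem_zone.1 hv.1).1.2 r hr).symm

theorem moved : ¬ P ≤ centralizer (mdl T X R : Set G) := by
  classical
  haveI := Fact.mk d.shape.prime
  haveI : Fact (Nat.Prime 2) := ⟨Nat.prime_two⟩
  intro hP
  set W := InvChar.EvenChar.zone R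
  set U := ⁅W, X⁆ with hU
  have hWc : IsMulCommutative W := ⟨⟨fun a b => Subtype.ext
    ((InvChar.EvenChar.mem_zone.1 b.2).1.2 a (InvChar.EvenChar.mem_zone.1 a.2).1.1)⟩⟩
  have hXW : X ≤ normalizer (W : Set G) := InvChar.EvenChar.le_normalizer_zone d.rX
  have hUW : U ≤ W := Coprime.commutator_le_of_le_normalizer hXW
  have hS : IsPGroup 2 (low T X R) := T.isPGroup'.to_le inf_le_left
  have hSU : low T X R ≤ normalizer (U : Set G) := le_normalizer_of_conj fun s hs u hu =>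
    Offender.conj_mem_commutator (InvChar.EvenChar.le_normalizer_zone (le_refl _) hs.2.2.1) hs.2.1 hu
  obtain ⟨z, hz, hz1, -, hzc⟩ := Outer.exists_central Nat.prime_two hS
    ((hUW.trans (InvChar.EvenChar.zone_le R)).trans (r_low d)) hSU d.faith
  refine hz1 ?_
  have hle : U ≤ ⁅W, P⁆ := by
    rw [hU, commutator_le]
    intro w hw x hx
    rw [← d.hX, ← SetLike.mem_coe, coe_mul_of_left_le_normalizer_right _ _ ((pX d).trans d.rX)] at hx
    obtain ⟨y, hy, r, hr, rfl⟩ := hx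
    have hwr : ⁅w, r⁆ = 1 := commutatorElement_eq_one_iff_mul_comm.2
      ((InvChar.EvenChar.mem_zone.1 hw).1.2 r hr).symm
    rw [show ⁅w, y * r⁆ = ⁅w, y⁆ * (y * ⁅w, r⁆ * y⁻¹) by simp only [commutatorElement_def]; group,
      hwr, mul_one, mul_inv_cancel, mul_one]
    exact commutator_mem_commutator hw hy
  have hcop : (Nat.card P).Coprime (Nat.card W) := by
    obtain ⟨i, hi⟩ := IsPGroup.iff_card.1 d.shape.isPGroup
    obtain ⟨j, hj⟩ := IsPGroup.iff_card.1 (d.rTwo.to_le (InvChar.EvenChar.zone_le R))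
    rw [hi, hj]
    exact Nat.Coprime.pow i j ((Nat.coprime_primes d.shape.prime Nat.prime_two).2 d.shape.odd)
  have hzV : z ∈ mdl T X R := ⟨hUW hz, hzc⟩
  exact Subgroup.mem_bot.1 ((Coprime.inf_centralizer_inf_commutator ((pX d).trans hXW) hcop).le
    ⟨⟨hUW hz, mem_centralizer_iff.2 fun x hx => (mem_centralizer_iff.1 (hP hx) z hzV).symm⟩, hle hz⟩)

theorem faith_T {t : G} (ht : t ∈ (T : Subgroup G) ⊓ normalizer (P : Set G))
    (htP : t ∈ centralizer (P : Set G)) : t ∈ low T X R := by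
  refine ⟨ht.1, d.mX (d.tM ht.1), d.mR (d.tM ht.1), fun x hx => ?_⟩
  rw [← d.hX, ← SetLike.mem_coe, coe_mul_of_left_le_normalizer_right _ _ ((pX d).trans d.rX)] at hx
  obtain ⟨y, hy, r, hr, rfl⟩ := hx
  rw [show t * (y * r) * t⁻¹ * (y * r)⁻¹ = t * y * t⁻¹ * (t * r * t⁻¹ * r⁻¹) * y⁻¹ by group,
    ← mem_centralizer_iff.1 htP y hy, mul_inv_cancel_right]
  exact (mem_normalizer_iff.1 (d.rX (pX d hy)) _).1
    (mul_mem ((mem_normalizer_iff.1 (d.mR (d.tM ht.1)) r).1 hr) (Subgroup.inv_mem _ hr))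

theorem cent_le_low : (T : Subgroup G) ⊓ centralizer (mdl T X R : Set G) ≤ low T X R := by
  intro t ht
  obtain ⟨r, hr, hrt⟩ := decompose d.shape d.hX d.rTwo ((pX d).trans d.rX) (d.mX (d.tM ht.1))
  set t₀ := r⁻¹ * t with ht₀
  have ht₀T : t₀ ∈ (T : Subgroup G) := mul_mem (Subgroup.inv_mem _ (d.rT hr)) ht.1
  have ht₀V : t₀ ∈ centralizer (mdl T X R : Set G) := mul_mem (Subgroup.inv_mem _ (r_cent d hr)) ht.2
  have hPV : P ≤ normalizer (mdl T X R : Set G) := ((pX d).trans (x_big d)).trans (big_norm d)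
  have hconj : ∀ {g c : G}, g ∈ normalizer (mdl T X R : Set G) → c ∈ centralizer (mdl T X R : Set G) →
      g * c * g⁻¹ ∈ centralizer (mdl T X R : Set G) := fun hg hc => Offender.cent_conj hg hc
  have hker : P ⊓ centralizer (mdl T X R : Set G) ≤ ⁅P, P⁆ :=
    (d.shape.sub_cases inf_le_left (fun s hs c hc => ⟨(mem_normalizer_iff.1 hs.2 c).1 hc.1,
      hconj (big_norm d (t_big d hs.1)) hc.2⟩)).resolve_right fun e => moved d (e.ge.trans inf_le_right)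
  obtain ⟨n, hn⟩ := IsPGroup.iff_orderOf.1 T.isPGroup' ⟨t₀, ht₀T⟩
  rw [Subgroup.orderOf_mk] at hn
  have htP : t₀ ∈ centralizer (P : Set G) := by
    refine d.shape.mem_centralizer_of_mod (m := 2 ^ n) hrt (fun x hx => hker ⟨?_, ?_⟩) ?_
      (((Nat.coprime_primes Nat.prime_two d.shape.prime).2 d.shape.odd.symm).pow_left n)
    · exact mul_mem ((mem_normalizer_iff.1 hrt x).1 hx) (Subgroup.inv_mem _ hx)
    · rw [show t₀ * x * t₀⁻¹ * x⁻¹ = t₀ * (x * t₀⁻¹ * x⁻¹) by group]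
      exact mul_mem ht₀V (hconj (hPV hx) (Subgroup.inv_mem _ ht₀V))
    · rw [← hn, pow_orderOf_eq_one]; exact one_mem _
  rw [show t = r * t₀ by rw [ht₀, mul_inv_cancel_left]]
  exact mul_mem (r_low d hr) (faith_T d ⟨ht₀T, hrt⟩ htP)

theorem core_eq : Cfsg.pCoreOf 2 (big T M X R) = (T : Subgroup G) ⊓ centralizer (mdl T X R : Set G) := by
  have hS : low T X R ≤ (T : Subgroup G) ⊓ centralizer (mdl T X R : Set G) :=
    fun s hs => ⟨hs.1, mem_centralizer_iff.2 fun v hv => (mem_centralizer_iff.1 hv.2 s hs).symm⟩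
  refine le_antisymm ?_ ((cent_le_low d).trans (CharP.le_pCoreOf
    ((inf_le_left : low T X R ≤ (T : Subgroup G)).trans (t_big d)) inf_le_right
      (T.isPGroup'.to_le inf_le_left)))
  intro g hg
  have hgT : g ∈ (T : Subgroup G) :=
    CharP.pCoreOf_le_of_isSylIn ((CharP.isSylIn_top_iff.2 ⟨T, rfl⟩).mono (t_big d) le_top) hg
  refine hS ⟨hgT, d.mX (d.tM hgT), d.mR (d.tM hgT), fun x hx => ?_⟩
  have hD := CharP.le_normalizer_pCoreOf 2 (big T M X R) (x_big d hx)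
  refine d.top (X ⊓ Cfsg.pCoreOf 2 (big T M X R)) inf_le_left ?_
    ((CharP.isPGroup_pCoreOf 2 _).to_le inf_le_right) ⟨?_, ?_⟩
  · exact (le_inf le_normalizer ((x_big d).trans (CharP.le_normalizer_pCoreOf 2 _))).trans
      inf_normalizer_le_normalizer_inf
  · exact mul_mem ((mem_normalizer_iff.1 (d.mX (d.tM hgT)) x).1 hx) (Subgroup.inv_mem _ hx)
  · rw [show g * x * g⁻¹ * x⁻¹ = g * (x * g⁻¹ * x⁻¹) by group]
    exact mul_mem hg ((mem_normalizer_iff.1 hD _).1 (Subgroup.inv_mem _ hg))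

/-- An offender inside `T ∩ N(P)`. -/
theorem exists_offender (hE : Cfsg.IsOfEvenCharacteristic G)
    (huniq : ∀ N : Subgroup G, Cfsg.IsTwoLocal N → X ⊔ (T : Subgroup G) ≤ N → N ≤ M)
    {H : Subgroup G} (hH : H ∈ Cfsg.calHMin (T : Subgroup G) M) :
    ∃ B : Subgroup G,
      OffBase p P ((T : Subgroup G) ⊓ normalizer (P : Set G)) B (mdl T X R) := by
  classical
  haveI : Fact (Nat.Prime 2) := ⟨Nat.prime_two⟩
  obtain ⟨⟨⟨hH1, hTH⟩, hHM⟩, hmin⟩ := hH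
  set M₀ := big T M X R
  set V := mdl T X R
  have hsetup : PLocal.CommonNormal.Qrc.Setup T M M₀ H V := by
    refine ⟨hE, d.tM, t_big d, hTH, hH1, hHM, fun Y hTY hYH => ?_,
      ((mdl_le d).trans d.rT).trans (t_big d), big_norm d, mdl_comm d, mdl_sq d, core_eq d⟩
    by_cases hYM : Y ≤ M
    · exact Or.inr hYM
    refine Or.inl (hmin Y ⟨⟨fun e => hH1 ?_, hTY⟩, hYM⟩ hYH)
    have hQT : Cfsg.pCoreOf 2 H ≤ (T : Subgroup G) :=
      CharP.pCoreOf_le_of_isSylIn ((CharP.isSylIn_top_iff.2 ⟨T, rfl⟩).mono hTH le_top)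
    have hle : Cfsg.pCoreOf 2 H ≤ Cfsg.pCoreOf 2 Y :=
      CharP.le_pCoreOf (hQT.trans hTY) (hYH.trans (CharP.le_normalizer_pCoreOf 2 H))
        (CharP.isPGroup_pCoreOf 2 H)
    rw [Cfsg.pCoreOf, Cfsg.pCoreOf, e, Subgroup.map_bot, le_bot_iff] at hle
    exact (Subgroup.map_eq_bot_iff_of_injective _ H.subtype_injective).1 hle
  obtain ⟨B, hBM, hind, hidx⟩ : ∃ B : Subgroup G, B ≤ M₀ ∧ Cfsg.InducesElemAbelianTwoGroupOn B V ∧
      (V ⊓ centralizer (B : Set G)).relIndex V ≤ ((centralizer (V : Set G)).relIndex B) ^ 2 := by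
    rcases PLocal.CommonNormal.Qrc.qrc hsetup with ⟨R₀, hR₀, hR₀c, hR₀n⟩ | ⟨-, B, h1, h2, -, h4⟩ |
        ⟨B, h1, h2, -, h4⟩
    · exfalso
      refine hHM (((le_sup_right : H ≤ M₀ ⊔ H).trans hR₀n).trans (huniq _
        ⟨R₀, (CharP.isPGroup_pCoreOf 2 M₀).to_le hR₀c, hR₀, rfl⟩ ?_))
      exact (sup_le (x_big d) (t_big d)).trans ((le_sup_left : M₀ ≤ M₀ ⊔ H).trans hR₀n)
    · exact ⟨B, h1, h2, h4⟩
    · exact ⟨B, h1, h2, h4⟩
  obtain ⟨hmov, hsq, hcomm⟩ := hind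
  set C := centralizer (V : Set G) with hC
  have hVC : normalizer (V : Set G) ≤ normalizer (C : Set G) := CharP.normalizer_le_normalizer_centralizer _
  have hBV : B ≤ normalizer (V : Set G) := hBM.trans (big_norm d)
  -- into a Sylow 2-subgroup
  obtain ⟨B₂, hB₂B, hB₂p, hB₂⟩ := exists_cover (hBV.trans hVC) (fun b hb => pow_two b ▸ hsq b hb)
  let TM : Sylow 2 M₀ := T.subtype (t_big d)
  obtain ⟨S', hS'⟩ := (hB₂p.comap_of_injective M₀.subtype M₀.subtype_injective :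
    IsPGroup 2 (B₂.subgroupOf M₀)).exists_le_sylow
  obtain ⟨⟨m, hm⟩, hmS⟩ := MulAction.exists_smul_eq M₀ S' TM
  have hconjT : ∀ b ∈ B₂, m * b * m⁻¹ ∈ (T : Subgroup G) := by
    intro b hb
    have h1 : (⟨m, hm⟩ : M₀) * ⟨b, hBM (hB₂B hb)⟩ * (⟨m, hm⟩ : M₀)⁻¹ ∈
        ((⟨m, hm⟩ : M₀) • S' : Sylow 2 M₀) := by
      show _ ∈ (((⟨m, hm⟩ : M₀) • S' : Sylow 2 M₀) : Subgroup M₀)
      rw [Sylow.coe_subgroup_smul]
      exact Coprime.conj_mem_conj_smul (hS' (show (⟨b, hBM (hB₂B hb)⟩ : M₀) ∈ B₂.subgroupOf M₀ from hb))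
    rw [hmS] at h1
    exact h1
  set f := (MulAut.conj m).toMonoidHom with hf
  have hfi : Function.Injective f := (MulAut.conj m).injective
  have hmV : m ∈ normalizer (V : Set G) := big_norm d hm
  have hVmap : V.map f = V := SetLike.coe_injective (mem_normalizer_iff_conj_image_eq.1 hmV)
  have hCmap : C.map f = C := SetLike.coe_injective (mem_normalizer_iff_conj_image_eq.1 (hVC hmV))
  set B₁ := B₂.map f
  have hB₁T : B₁ ≤ (T : Subgroup G) := by rintro _ ⟨b, hb, rfl⟩; exact hconjT b hb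
  have hcent : ∀ Y : Subgroup G, (centralizer (Y : Set G)).map f = centralizer (Y.map f : Set G) := by
    intro Y
    ext w
    simp only [Subgroup.mem_map, mem_centralizer_iff]
    constructor
    · rintro ⟨v, hv, rfl⟩ _ ⟨y, hy, rfl⟩
      rw [← map_mul, ← map_mul, hv y hy]
    · intro hw
      obtain ⟨v, rfl⟩ : ∃ v, f v = w := ⟨_, (MulAut.conj m).apply_symm_apply w⟩
      exact ⟨v, fun y hy => hfi (by rw [map_mul, map_mul]; exact hw _ ⟨y, hy, rfl⟩), rfl⟩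
  have hi1 : C.relIndex B₁ = C.relIndex B := by
    rw [← relIndex_cover hB₂B (hBV.trans hVC) hB₂]
    conv_lhs => rw [← hCmap]
    exact relIndex_map_map_of_injective _ _ hfi
  have hi2 : (V ⊓ centralizer (B₁ : Set G)).relIndex V = (V ⊓ centralizer (B : Set G)).relIndex V := by
    rw [← cent_cover hB₂B hB₂]
    conv_lhs => rw [← hVmap, ← hcent, ← map_inf _ _ _ hfi]
    exact relIndex_map_map_of_injective _ _ hfi
  -- into `N(P)`
  set Z := B₁ ⊔ R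
  have hZT : Z ≤ (T : Subgroup G) := sup_le hB₁T d.rT
  have hZn : Z ≤ normalizer (C : Set G) := ((hZT.trans (t_big d)).trans (big_norm d)).trans hVC
  have hRT : B₁ ≤ normalizer (R : Set G) := (hB₁T.trans d.tM).trans d.mR
  have hZ1 : ∀ z ∈ Z, ∃ y ∈ B₁, y⁻¹ * z ∈ C := by
    intro z hz
    rw [← SetLike.mem_coe, coe_mul_of_left_le_normalizer_right _ _ hRT] at hz
    obtain ⟨y, hy, r, hr, rfl⟩ := hz
    exact ⟨y, hy, by rw [inv_mul_cancel_left]; exact r_cent d hr⟩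
  set B' := Z ⊓ normalizer (P : Set G)
  have hZ2 : ∀ z ∈ Z, ∃ y ∈ B', y⁻¹ * z ∈ C := by
    intro z hz
    obtain ⟨r, hr, hrz⟩ :=
      decompose d.shape d.hX d.rTwo ((pX d).trans d.rX) (d.mX (d.tM (hZT hz)))
    refine ⟨r⁻¹ * z, ⟨mul_mem (Subgroup.inv_mem _ (mem_sup_right hr)) hz, hrz⟩, ?_⟩
    rw [show (r⁻¹ * z)⁻¹ * z = z⁻¹ * r * z by group]
    have := Offender.cent_conj (Subgroup.inv_mem _ (big_norm d (t_big d (hZT hz)))) (r_cent d hr)
    rwa [inv_inv] at this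
  have hj1 : C.relIndex B' = C.relIndex B := by
    rw [relIndex_cover (inf_le_left : B' ≤ Z) hZn hZ2, ← relIndex_cover le_sup_left hZn hZ1, hi1]
  have hj2 : (V ⊓ centralizer (B' : Set G)).relIndex V = (V ⊓ centralizer (B : Set G)).relIndex V := by
    rw [cent_cover (inf_le_left : B' ≤ Z) hZ2, ← cent_cover le_sup_left hZ1, hi2]
  -- the image in the automorphisms of `V`
  have hZmod : ∀ z ∈ Z, ∃ b ∈ B, ∃ c ∈ C, z = m * b * m⁻¹ * c := by
    intro z hz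
    obtain ⟨_, ⟨b, hb, rfl⟩, hc⟩ := hZ1 z hz
    exact ⟨b, hB₂B hb, _, hc, by
      show z = m * b * m⁻¹ * ((m * b * m⁻¹)⁻¹ * z)
      group⟩
  let ρ := V.normalizerMonoidHom
  have hρ : ∀ {g : G} (hg : g ∈ normalizer (V : Set G)), ρ ⟨g, hg⟩ = 1 ↔ g ∈ C := by
    intro g hg
    rw [← MonoidHom.mem_ker, normalizerMonoidHom_ker, mem_subgroupOf]
  have hNV : Z ≤ normalizer (V : Set G) := (hZT.trans (t_big d)).trans (big_norm d)
  have hρz : ∀ z (hz : z ∈ Z), ∃ b, ∃ hb : b ∈ B,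
      ρ ⟨z, hNV hz⟩ = ρ ⟨m, hmV⟩ * ρ ⟨b, hBV hb⟩ * (ρ ⟨m, hmV⟩)⁻¹ := by
    intro z hz
    obtain ⟨b, hb, c, hc, e⟩ := hZmod z hz
    have hcn : c ∈ normalizer (V : Set G) := centralizer_le_normalizer _ hc
    refine ⟨b, hb, ?_⟩
    rw [← map_inv, ← map_mul, ← map_mul,
      show (⟨z, hNV hz⟩ : normalizer (V : Set G)) =
        ⟨m, hmV⟩ * ⟨b, hBV hb⟩ * (⟨m, hmV⟩)⁻¹ * ⟨c, hcn⟩ from Subtype.ext e,
      map_mul ρ (_ * _) (⟨c, hcn⟩ : normalizer (V : Set G)), (hρ hcn).2 hc, mul_one]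
  refine ⟨B', d.shape, mdl_comm d, mdl_sq d, ((pX d).trans (x_big d)).trans (big_norm d),
    (inf_le_left.trans (t_big d)).trans (big_norm d), moved d, ?_, T.isPGroup'.to_le inf_le_left,
    fun y hy => ⟨hZT hy.1, hy.2⟩, ?_, ?_, ?_, ?_⟩
  · intro t ht htP
    have h1 := faith_T d ht htP
    exact mem_centralizer_iff.2 fun v hv => (mem_centralizer_iff.1 hv.2 t h1).symm
  · intro z hz
    obtain ⟨b, hb, e⟩ := hρz z hz.1
    refine (hρ (mul_mem (hNV hz.1) (hNV hz.1))).1 ?_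
    have hb1 : ρ ⟨b, hBV hb⟩ * ρ ⟨b, hBV hb⟩ = 1 := by
      rw [← map_mul]
      exact (hρ (mul_mem (hBV hb) (hBV hb))).2 (by rw [← pow_two]; exact hsq b hb)
    rw [show (⟨z * z, mul_mem (hNV hz.1) (hNV hz.1)⟩ : normalizer (V : Set G)) =
      ⟨z, hNV hz.1⟩ * ⟨z, hNV hz.1⟩ from rfl, map_mul, e]
    calc ρ ⟨m, hmV⟩ * ρ ⟨b, hBV hb⟩ * (ρ ⟨m, hmV⟩)⁻¹ * (ρ ⟨m, hmV⟩ * ρ ⟨b, hBV hb⟩ * (ρ ⟨m, hmV⟩)⁻¹)
        = ρ ⟨m, hmV⟩ * (ρ ⟨b, hBV hb⟩ * ρ ⟨b, hBV hb⟩) * (ρ ⟨m, hmV⟩)⁻¹ := by group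
      _ = 1 := by rw [hb1, mul_one, mul_inv_cancel]
  · intro y hy z hz
    obtain ⟨b, hb, e⟩ := hρz y hy.1
    obtain ⟨b', hb', e'⟩ := hρz z hz.1
    have hyz : ⁅y, z⁆ ∈ normalizer (V : Set G) :=
      (⁅(⟨y, hNV hy.1⟩ : normalizer (V : Set G)), (⟨z, hNV hz.1⟩ : normalizer (V : Set G))⁆).2
    refine (hρ hyz).1 ?_
    rw [show (⟨⁅y, z⁆, hyz⟩ : normalizer (V : Set G)) = ⁅(⟨y, hNV hy.1⟩ : normalizer (V : Set G)), (⟨z, hNV hz.1⟩ : normalizer (V : Set G))⁆ from rfl,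
      map_commutatorElement, e, e']
    have h1 : ρ ⁅(⟨b, hBV hb⟩ : normalizer (V : Set G)), (⟨b', hBV hb'⟩ : normalizer (V : Set G))⁆ = 1 :=
      (hρ (⁅(⟨b, hBV hb⟩ : normalizer (V : Set G)), (⟨b', hBV hb'⟩ : normalizer (V : Set G))⁆).2).2
        (hcomm b hb b' hb')
    rw [map_commutatorElement] at h1
    generalize ρ ⟨m, hmV⟩ = a at *
    rw [show ⁅a * ρ ⟨b, hBV hb⟩ * a⁻¹, a * ρ ⟨b', hBV hb'⟩ * a⁻¹⁆ =
      a * ⁅ρ ⟨b, hBV hb⟩, ρ ⟨b', hBV hb'⟩⁆ * a⁻¹ by simp only [commutatorElement_def]; group, h1,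
      mul_one, mul_inv_cancel]
  · intro hle
    refine hmov (relIndex_eq_one.1 ?_)
    rw [← hj1]
    exact relIndex_eq_one.2 hle
  · rw [hj1, hj2]; exact hidx

end Faithful

end Cfsg.Agent.QTXi
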