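import Cfsg.Agent.Lib.QTXi.Component
import Cfsg.Agent.Lib.QTXi.Outer
import Cfsg.Agent.Lib.QTXi.Setup
import Cfsg.Agent.Lib.Components.Fitting
import Cfsg.Agent.Lib.Cores.Subnormal

/-!
# An irreducible pair in a group of rank two is normal

In a group `M` of rank two at all odd primes, let `X` be the join of a subgroup of a Sylow 2-subgroup `T`
and of an irreducible pair, generated by elements of odd order and normalised by `T`. If `X` lies in no
`⟨L, T⟩` with `L` a subnormal perfect group, quasisimple modulo its 2-core, then `X` is normal.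
-/

set_option autoImplicit false
set_option linter.unusedSectionVars false
set_option linter.style.haveILetI false

namespace Cfsg.Agent.QTXi

open Subgroup
open scoped Pointwise commutatorElement

universe u

variable {A : Type u} [Group A] [Finite A]

/-- A component is centralised by an irreducible pair or its conjugates generate a group containing it. -/
theorem Shape.component_cases {p : ℕ} {P T₀ : Subgroup A} (hA : RankTwo A) (h : Shape p P T₀)
    {T : Subgroup A} (hT : T₀ ≤ T) {K : Subgroup A} (hK : Cfsg.IsComponent K) :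
    P ≤ Cfsg.conjClosure K T ∨ P ≤ centralizer (Cfsg.conjClosure K T : Set A) := by
  haveI := Fact.mk h.prime
  set K₀ := Cfsg.conjClosure K T
  set C := centralizer (K₀ : Set A)
  have hTK : T₀ ≤ normalizer (K₀ : Set A) := hT.trans conjClosure_normalized
  have hPK : P ≤ normalizer (K₀ : Set A) := fun x hx => by
    refine odd_normalizes_conjClosure hA hK ?_
    exact (h.prime.odd_of_ne_two h.odd).of_dvd_nat (orderOf_dvd_of_pow_eq_one (h.exp x hx))
  have hTC : ∀ t ∈ T₀, ∀ d ∈ C, t * d * t⁻¹ ∈ C := fun t ht d hd => by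
    refine mem_centralizer_iff.2 fun y hy => ?_
    have hy' := conj_mem_of_normalizer hTK (inv_mem ht) hy
    rw [inv_inv] at hy'
    calc y * (t * d * t⁻¹) = t * (t⁻¹ * y * t * d) * t⁻¹ := by group
      _ = t * (d * (t⁻¹ * y * t)) * t⁻¹ := by rw [mem_centralizer_iff.1 hd _ hy']
      _ = t * d * t⁻¹ * y := by group
  have hTS : ∀ t ∈ T₀, ∀ d ∈ K₀ ⊔ C, t * d * t⁻¹ ∈ K₀ ⊔ C := fun t ht d hd => by
    have hle : K₀ ⊔ C ≤ (K₀ ⊔ C).comap (MulAut.conj t).toMonoidHom :=
      sup_le (fun a ha => mem_sup_left (conj_mem_of_normalizer hTK ht ha))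
        (fun a ha => mem_sup_right (hTC t ht a ha))
    exact hle hd
  rcases h.sub_cases (D := P ⊓ (K₀ ⊔ C)) inf_le_left
    (fun t ht d hd => ⟨conj_mem_of_normalizer h.normalizes ht hd.1, hTS t ht d hd.2⟩) with e | e
  · exact Or.inr (h.le_centralizer_of_outer hA (conjClosure_perfect hK)
      (fun N hN hn => conjClosure_centralizes hK hN hn) hPK hTK
      ((inf_le_inf_left _ le_sup_left).trans e))
  · exact h.le_of_inner hA hTK (e.ge.trans inf_le_right)

/-- The quotient by a 2-group keeps the rank. -/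
theorem rankTwo_quotient (hA : RankTwo A) (N : Subgroup A) [N.Normal] (hN : IsPGroup 2 N) :
    RankTwo (A ⧸ N) := by
  intro r hr hr2 E hEc hEr
  haveI := Fact.mk hr
  set π := QuotientGroup.mk' N
  set E' := E.comap π
  obtain ⟨S⟩ : Nonempty (Sylow r E') := inferInstance
  have hg : Function.Surjective (π.subgroupComap E) :=
    π.subgroupComap_surjective_of_surjective E (QuotientGroup.mk'_surjective N)
  have hEp : IsPGroup r E := fun x => ⟨1, by rw [pow_one]; exact Subtype.ext (hEr x x.2)⟩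
  have htop : (S.mapSurjective hg : Subgroup E) = ⊤ :=
    ((S.mapSurjective hg).is_maximal' (hEp.to_subgroup ⊤) le_top).symm
  rw [Sylow.coe_mapSurjective] at htop
  have hinj : ∀ s ∈ (S : Subgroup E'), π.subgroupComap E s = 1 → s = 1 := by
    intro s hs he
    have hsN : (s : A) ∈ N := (QuotientGroup.eq_one_iff _).1 (congrArg Subtype.val he)
    obtain ⟨a, ha⟩ := IsPGroup.iff_orderOf.1 S.isPGroup' ⟨s, hs⟩
    obtain ⟨b, hb⟩ := IsPGroup.iff_orderOf.1 hN ⟨(s : A), hsN⟩
    rw [Subgroup.orderOf_mk] at ha hb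
    rw [Subgroup.orderOf_coe] at hb
    rw [hb] at ha
    have h1 : b = 0 := by
      by_contra hb0
      rcases Nat.eq_zero_or_pos a with rfl | ha0
      · rw [pow_zero] at ha
        exact absurd (Nat.pow_eq_one.1 ha) (by omega)
      · have h2 : (2 : ℕ) ∣ r ^ a := ha ▸ dvd_pow_self 2 hb0
        exact hr2 ((Nat.prime_dvd_prime_iff_eq Nat.prime_two hr).1 (Nat.prime_two.dvd_of_dvd_pow h2)).symm
    rw [h1, pow_zero] at hb
    exact orderOf_eq_one_iff.1 hb
  set S' := (S : Subgroup E').map E'.subtype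
  have hcard : Nat.card E ≤ Nat.card S' := by
    rw [card_map_of_injective E'.subtype_injective]
    refine Nat.card_le_card_of_surjective (fun s : (S : Subgroup E') => π.subgroupComap E s) fun e => ?_
    obtain ⟨s, hs, rfl⟩ : e ∈ (S : Subgroup E').map (π.subgroupComap E) := htop ▸ mem_top e
    exact ⟨⟨s, hs⟩, rfl⟩
  refine hcard.trans (hA r hr hr2 S' ⟨⟨?_⟩⟩ ?_)
  · rintro ⟨_, a, ha, rfl⟩ ⟨_, b, hb, rfl⟩
    refine Subtype.ext ?_
    show (a : A) * (b : A) = (b : A) * (a : A)
    have h1 := hinj (⁅a, b⁆) (by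
      rw [commutatorElement_def]
      exact mul_mem (mul_mem (mul_mem ha hb) (Subgroup.inv_mem _ ha)) (Subgroup.inv_mem _ hb)) (by
      rw [map_commutatorElement, commutatorElement_eq_one_iff_mul_comm]
      exact hEc.is_comm.comm _ _)
    exact congrArg Subtype.val (commutatorElement_eq_one_iff_mul_comm.1 h1)
  · rintro _ ⟨a, ha, rfl⟩
    rw [← map_pow, hinj (a ^ r) (pow_mem ha r) (by
      rw [map_pow]; exact Subtype.ext (hEr _ (π.subgroupComap E a).2)), map_one]

/-- An element of odd order of `X Q`, `Q` a 2-group normalising `X`, lies in `X`. -/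
theorem mem_of_odd {X Q : Subgroup A} (hQ : IsPGroup 2 Q) (hQX : Q ≤ normalizer (X : Set A)) {n : A}
    (hn : n ∈ X ⊔ Q) (ho : Odd (orderOf n)) : n ∈ X := by
  haveI : Fact (Nat.Prime 2) := ⟨Nat.prime_two⟩
  haveI : (X.subgroupOf (X ⊔ Q)).Normal :=
    normal_subgroupOf_of_le_normalizer (sup_le le_normalizer hQX)
  have h1 := (X.subgroupOf (X ⊔ Q)).pow_index_mem ⟨n, hn⟩
  have h2 : ∃ k, (X.subgroupOf (X ⊔ Q)).index = 2 ^ k := by
    have hd : (X.subgroupOf (X ⊔ Q)).index ∣ Nat.card Q := by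
      let ψ : Q →* ↥(X ⊔ Q) ⧸ X.subgroupOf (X ⊔ Q) :=
        (QuotientGroup.mk' _).comp (Subgroup.inclusion le_sup_right)
      refine Subgroup.card_dvd_of_surjective ψ ?_
      intro w
      obtain ⟨⟨a, ha⟩, rfl⟩ := QuotientGroup.mk'_surjective _ w
      obtain ⟨x, hx, q, hq, rfl⟩ := (Coprime.mem_sup_of_le_normalizer hQX).1 ha
      refine ⟨⟨q, hq⟩, QuotientGroup.eq.2 ?_⟩
      show q⁻¹ * (x * q) ∈ X
      have := conj_mem_of_normalizer hQX (inv_mem hq) hx
      rwa [inv_inv, mul_assoc] at this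
    obtain ⟨k, hk⟩ := IsPGroup.iff_card.1 hQ
    obtain ⟨i, -, hi⟩ := (Nat.dvd_prime_pow Nat.prime_two).1 (hk ▸ hd)
    exact ⟨i, hi⟩
  obtain ⟨k, hk⟩ := h2
  rw [hk] at h1
  have h3 : n ^ (2 ^ k) ∈ X := h1
  obtain ⟨m, hm⟩ := exists_pow_eq_self_of_coprime (n := 2 ^ k) (x := n)
    ((Nat.coprime_two_left.2 ho).pow_left k)
  rw [← hm]
  exact pow_mem h3 m

/-- A minimal subnormal cover of a component. -/
theorem exists_cover {M : Type u} [Group M] [Finite M] {N : Subgroup M} [N.Normal] (hN : IsPGroup 2 N)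
    (hO : Cfsg.pCore 2 (M ⧸ N) = ⊥) {K : Subgroup (M ⧸ N)} (hK : Cfsg.IsComponent K) :
    ∃ L : Subgroup M, L.map (QuotientGroup.mk' N) = K ∧ L.IsSubnormal ∧ L ≠ ⊥ ∧ ⁅L, L⁆ = L ∧
      (∀ K' : Subgroup M, K' < L → ¬ (K' ≠ ⊥ ∧ ⁅K', K'⁆ = K' ∧ K'.IsSubnormal)) ∧
      Cfsg.IsQuasisimple (↥L ⧸ Cfsg.pCore 2 ↥L) := by
  haveI : Fact (Nat.Prime 2) := ⟨Nat.prime_two⟩
  set π := QuotientGroup.mk' N
  have hsurj : Function.Surjective π := QuotientGroup.mk'_surjective N
  obtain ⟨L, -, ⟨hLs, hLK⟩, hLmin⟩ := Components.Basic.exists_minimal_le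
    (fun L : Subgroup M => L.IsSubnormal ∧ L.map π = K)
    (H := K.comap π) ⟨hK.1.comap π, map_comap_eq_self_of_surjective hsurj K⟩
  have hperf : ⁅L, L⁆ = L := by
    refine hLmin _ (commutator_le_self L) ⟨?_, ?_⟩
    · rw [← map_subtype_commutator]
      exact (inferInstance : (commutator L).Normal).isSubnormal.trans' hLs
    · rw [map_commutator, hLK, Components.Basic.component_commutator_self hK]
  have hLne : L ≠ ⊥ := fun e => Components.Basic.component_ne_bot hK (by rw [← hLK, e, Subgroup.map_bot])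
  refine ⟨L, hLK, hLs, hLne, hperf, ?_, ?_⟩
  · rintro K' hlt ⟨hne, hp', hs⟩
    have hs' : (K'.map π).IsSubnormal := hs.map hsurj
    have hle : K'.map π ≤ K := hLK ▸ map_mono hlt.le
    have hp'' : ⁅K'.map π, K'.map π⁆ = K'.map π := by rw [← map_commutator, hp']
    rcases Components.Basic.quasisimple_eq_top_or_le_center_of_isSubnormal hK.2
      ((K'.map π).subgroupOf K) hs'.subgroupOf with e | e
    · exact hlt.ne (hLmin K' hlt.le ⟨hs, le_antisymm hle (subgroupOf_eq_top.1 e)⟩)
    · have hbot : K'.map π = ⊥ := by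
        rw [← hp'', commutator_eq_bot_iff_le_centralizer]
        intro a ha
        refine mem_centralizer_iff.2 fun b hb => ?_
        exact congrArg Subtype.val (mem_center_iff.1
          (e (show (⟨a, hle ha⟩ : K) ∈ (K'.map π).subgroupOf K from ha)) ⟨b, hle hb⟩)
      have hKN : K' ≤ N := by
        rw [Subgroup.map_eq_bot_iff, QuotientGroup.ker_mk'] at hbot
        exact hbot
      exact (Coprime.commutator_lt_of_isSolvable
        (Coprime.isSolvable_of_isPGroup (hN.to_le hKN)) hne).ne hp'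
  · set ψ := π.comp L.subtype with hψ
    have hker : Cfsg.pCore 2 ↥L = ψ.ker := by
      refine le_antisymm (fun x hx => ?_) (Cores.le_pCore ?_)
      · have h1 : ((Cfsg.pCore 2 ↥L).map L.subtype).map π ≤ Cfsg.pCore 2 (M ⧸ N) :=
          Cores.le_pCore_of_isSubnormal
            (((inferInstance : (Cfsg.pCore 2 ↥L).Normal).isSubnormal.trans' hLs).map hsurj)
            (((Cores.pCore_isPGroup 2).map L.subtype).map π)
        rw [hO] at h1
        exact Subgroup.mem_bot.1 (h1 ⟨_, ⟨x, hx, rfl⟩, rfl⟩)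
      · rw [hψ, ← MonoidHom.comap_ker, QuotientGroup.ker_mk']
        exact hN.comap_of_injective L.subtype L.subtype_injective
    have hrange : ψ.range = K := by
      rw [hψ, MonoidHom.range_comp, L.range_subtype, hLK]
    exact Components.Basic.quasisimple_of_mulEquiv
      ((QuotientGroup.quotientMulEquivOfEq hker).trans
        ((QuotientGroup.quotientKerEquivRange ψ).trans (MulEquiv.subgroupCongr hrange))).symm hK.2

/-- Main local result. -/
theorem normal_of_shape {M : Type u} [Group M] [Finite M] (hrank : RankTwo M) (T : Sylow 2 M)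
    {X R P : Subgroup M} {p : ℕ} (h : Shape p P ((T : Subgroup M) ⊓ normalizer (P : Set M)))
    (hX : P ⊔ R = X) (hR : R ≤ (T : Subgroup M)) (hTX : (T : Subgroup M) ≤ normalizer (X : Set M))
    (hgen : ∀ H : Subgroup M, (∀ x ∈ X, Odd (orderOf x) → x ∈ H) → X ≤ H)
    (hL : ∀ L : Subgroup M, L.IsSubnormal → L ≠ ⊥ → ⁅L, L⁆ = L →
      (∀ K' : Subgroup M, K' < L → ¬ (K' ≠ ⊥ ∧ ⁅K', K'⁆ = K' ∧ K'.IsSubnormal)) →
      Cfsg.IsQuasisimple (↥L ⧸ Cfsg.pCore 2 ↥L) → ¬ X ≤ L ⊔ (T : Subgroup M)) : X.Normal := by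
  classical
  haveI : Fact (Nat.Prime 2) := ⟨Nat.prime_two⟩
  haveI := Fact.mk h.prime
  set N := Cfsg.pCore 2 M with hNdef
  have hN : IsPGroup 2 N := Cores.pCore_isPGroup 2
  have hNT : N ≤ (T : Subgroup M) := Cores.pCore_le_sylow T
  set π := QuotientGroup.mk' N with hπ
  have hO : Cfsg.pCore 2 (M ⧸ N) = ⊥ := Cores.pCore_quotient_self 2
  have hA : RankTwo (M ⧸ N) := rankTwo_quotient hrank N hN
  have hinj : ∀ x ∈ P, π x = 1 → x = 1 := by
    intro x hx hx1
    have h1 : orderOf x ∣ p := orderOf_dvd_of_pow_eq_one (h.exp x hx)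
    obtain ⟨k, hk⟩ := IsPGroup.iff_card.1 hN
    have h2 : orderOf x ∣ 2 ^ k := hk ▸ Subgroup.orderOf_dvd_natCard N ((QuotientGroup.eq_one_iff x).1 hx1)
    exact orderOf_eq_one_iff.1 (Nat.eq_one_of_dvd_coprimes
      (((Nat.coprime_primes h.prime Nat.prime_two).2 h.odd).pow_right k) h1 h2)
  have hS := h.map π hinj
  set P' := P.map π with hP'
  set T₀ := ((T : Subgroup M) ⊓ normalizer (P : Set M)).map π
  set T' := (T : Subgroup M).map π
  have hT₀ : T₀ ≤ T' := map_mono inf_le_left
  -- the components are centralised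
  have hcomp : ∀ K : Subgroup (M ⧸ N), Cfsg.IsComponent K → K ≤ centralizer (P' : Set (M ⧸ N)) := by
    intro K hK
    rcases hS.component_cases hA hT₀ hK with e | e
    · exfalso
      obtain ⟨L, hLK, hLs, hLne, hLp, hLmin, hLq⟩ := exists_cover hN hO hK
      refine hL L hLs hLne hLp hLmin hLq ?_
      have hle : Cfsg.conjClosure K T' ≤ (L ⊔ (T : Subgroup M)).map π := by
        refine iSup_le ?_
        rintro ⟨_, t, ht, rfl⟩ _ ⟨a, ha, rfl⟩
        rw [← hLK] at ha
        obtain ⟨l, hl, rfl⟩ := ha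
        refine ⟨t * l * t⁻¹, mul_mem (mul_mem (mem_sup_right ht) (mem_sup_left hl))
          (Subgroup.inv_mem _ (mem_sup_right ht)), ?_⟩
        show π (t * l * t⁻¹) = π t * π l * (π t)⁻¹
        rw [map_mul, map_mul, map_inv]
      have hPL : P ≤ L ⊔ (T : Subgroup M) := by
        intro x hx
        have h1 : x ∈ ((L ⊔ (T : Subgroup M)).map π).comap π := hle (e ⟨x, hx, rfl⟩)
        rwa [comap_map_eq, QuotientGroup.ker_mk', sup_eq_left.2 (hNT.trans le_sup_right)] at h1
      rw [← hX]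
      exact sup_le hPL (hR.trans le_sup_right)
    · intro k hk
      exact mem_centralizer_iff.2 fun x hx =>
        (mem_centralizer_iff.1 (e hx) k (le_conjClosure hk)).symm
  have hnorm : ∀ H : Subgroup (M ⧸ N), normalizer ((Cfsg.pCore p (M ⧸ N) : Subgroup (M ⧸ N)) : Set (M ⧸ N)) ≥ H :=
    fun H => by rw [normalizer_eq_top]; exact le_top
  set V := Cfsg.pCore p (M ⧸ N) with hV
  have hVp : IsPGroup p V := Cores.pCore_isPGroup p
  have hPV : P' ≤ V := by
    rcases hS.le_or_centralizes hA hVp (hnorm _) (hnorm _) with e | e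
    · exact e
    set F := Cfsg.generalizedFittingSubgroup (M ⧸ N) with hF
    have hFP : F ≤ centralizer (P' : Set (M ⧸ N)) := by
      refine sup_le (sSup_le fun K hK => hcomp K hK) ?_
      rw [Components.Fitting.fitting_eq_coreJoin]
      refine iSup_le fun q => ?_
      haveI : Fact (q : ℕ).Prime := ⟨q.2⟩
      have hq : P' ≤ centralizer ((Cfsg.pCore (q : ℕ) (M ⧸ N) : Subgroup (M ⧸ N)) : Set (M ⧸ N)) := by
        rcases eq_or_ne (q : ℕ) 2 with hq2 | hq2
        · rw [hq2, hO]
          exact fun x _ => mem_centralizer_iff.2 fun y hy => by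
            rw [Subgroup.mem_bot.1 hy, one_mul, mul_one]
        rcases eq_or_ne (q : ℕ) p with hqp | hqp
        · rw [hqp]; exact e
        exact hS.coprime_trivial hA q.2 hq2 hqp (Cores.pCore_isPGroup _)
          (by rw [normalizer_eq_top]; exact le_top) (by rw [normalizer_eq_top]; exact le_top)
      intro a ha
      exact mem_centralizer_iff.2 fun x hx => (mem_centralizer_iff.1 (hq hx) a ha).symm
    set C := centralizer (F : Set (M ⧸ N))
    have hPC : P' ≤ C := fun x hx => mem_centralizer_iff.2 fun y hy =>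
      (mem_centralizer_iff.1 (hFP hy) x hx).symm
    have hFn : F.Normal := Subgroup.normalizer_eq_top_iff.1 (top_le_iff.1 fun g _ => by
      rw [mem_normalizer_iff_map_conj_eq]
      exact Components.Fitting.genFitting_map_equiv (MulAut.conj g))
    haveI := hFn
    haveI hCn : C.Normal := inferInstance
    haveI hCc : IsMulCommutative C := ⟨⟨fun a b => Subtype.ext
      ((mem_centralizer_iff.1 a.2 b (Components.Fitting.centralizer_genFitting_le b.2)).symm)⟩⟩
    haveI : (P'.subgroupOf C).Normal := ⟨fun a ha g => by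
      rwa [mul_comm' g a, mul_inv_cancel_right]⟩
    intro x hx
    exact Cores.map_pCore_subtype_le p C ⟨⟨x, hPC hx⟩,
      Cores.le_pCore (N := P'.subgroupOf C)
        (hS.isPGroup.comap_of_injective C.subtype C.subtype_injective) hx, rfl⟩
  obtain ⟨hord, -⟩ := hS.structure_of_le hA hVp hPV (hnorm _)
  haveI hP'n : P'.Normal := ⟨fun x hx g => hord _
    ((inferInstance : V.Normal).conj_mem x (hPV hx) g)
    (by rw [conj_pow, hS.exp x hx, mul_one, mul_inv_cancel])⟩
  set W := P'.comap π with hW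
  haveI hWn : W.Normal := hP'n.comap π
  have hWeq : W = P ⊔ N := by rw [hW, hP', comap_map_eq, QuotientGroup.ker_mk']
  have hXW : X ≤ W := hgen W fun x hx ho => by
    show π x ∈ P'
    have h1 : π x ∈ P' ⊔ R.map π := by rw [hP', ← Subgroup.map_sup, hX]; exact ⟨x, hx, rfl⟩
    exact mem_of_odd (((T.isPGroup').to_le hR).map π) (by rw [normalizer_eq_top]; exact le_top) h1
      (ho.of_dvd_nat (orderOf_map_dvd π x))
  have hodd : ∀ n ∈ W, Odd (orderOf n) → n ∈ X := by
    intro n hn ho
    refine mem_of_odd hN (hNT.trans hTX) ?_ ho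
    rw [hWeq] at hn
    exact (sup_le_sup_right (hX ▸ le_sup_left) N : P ⊔ N ≤ X ⊔ N) hn
  refine ⟨fun x hx g => ?_⟩
  have hle : X ≤ X.comap (MulAut.conj g).toMonoidHom := hgen _ fun y hy ho => by
    show g * y * g⁻¹ ∈ X
    refine hodd _ (hWn.conj_mem y (hXW hy) g) ?_
    rwa [show g * y * g⁻¹ = MulAut.conj g y from rfl, MulEquiv.orderOf_eq]
  exact hle hx

end Cfsg.Agent.QTXi
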