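import Cfsg.Agent.Lib.QTXi.PGroup

/-!
# Actions on the Frattini quotient of an irreducible pair

Lines of `P / ⁅P, P⁆`, elements acting trivially on it, and the elementary abelian 2-groups of
automorphisms: they have order at most four and, unless of order two, contain minus one.
-/

set_option autoImplicit false
set_option linter.unusedSectionVars false
set_option linter.style.haveILetI false

namespace Cfsg.Agent.QTXi

open Subgroup
open scoped commutatorElement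

universe u

variable {G : Type u} [Group G] [Finite G] {p : ℕ} {P T₀ : Subgroup G}

namespace Shape

/-- The line through an element. -/
abbrev line (P : Subgroup G) (e : G) : Subgroup G := zpowers e ⊔ ⁅P, P⁆

theorem derived_normal (_h : Shape p P T₀) {g : G} (hg : g ∈ normalizer (P : Set G)) {d : G}
    (hd : d ∈ (⁅P, P⁆ : Subgroup G)) : g * d * g⁻¹ ∈ (⁅P, P⁆ : Subgroup G) := by
  have h1 : (⁅P, P⁆ : Subgroup G).map (MulAut.conj g).toMonoidHom ≤ ⁅P, P⁆ := by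
    rw [map_commutator]
    refine commutator_mono ?_ ?_ <;>
    · rintro _ ⟨x, hx, rfl⟩
      exact (mem_normalizer_iff.1 hg x).1 hx
  exact h1 ⟨d, hd, rfl⟩

/-- Conjugates in `P` differ by the derived group. -/
theorem conj_mod (_h : Shape p P T₀) {x y : G} (hx : x ∈ P) (hy : y ∈ P) :
    x * y * x⁻¹ * y⁻¹ ∈ (⁅P, P⁆ : Subgroup G) :=
  commutator_mem_commutator hx hy

theorem derived_comm (h : Shape p P T₀) {d x : G} (hd : d ∈ (⁅P, P⁆ : Subgroup G)) (hx : x ∈ P) :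
    x * d = d * x :=
  mem_centralizer_iff.1 (h.central hd) x hx

theorem line_le (h : Shape p P T₀) {e : G} (he : e ∈ P) : line P e ≤ P :=
  sup_le (zpowers_le.2 he) h.derived_le

theorem lt_line (_h : Shape p P T₀) {e : G} (he' : e ∉ (⁅P, P⁆ : Subgroup G)) :
    ⁅P, P⁆ < line P e :=
  lt_of_le_of_ne le_sup_right fun e1 => he' (e1 ▸ mem_sup_left (mem_zpowers e))

theorem line_ne (h : Shape p P T₀) {e : G} (he : e ∈ P) : line P e ≠ P := fun e1 => by
  haveI : Group.IsNilpotent P := (haveI := Fact.mk h.prime; h.isPGroup.isNilpotent)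
  have e' := Coprime.eq_of_le_of_sup_commutator_eq (zpowers_le.2 he) e1
  have hcomm : (⁅P, P⁆ : Subgroup G) = ⊥ := by
    rw [← e', commutator_eq_bot_iff_le_centralizer]
    rintro _ ⟨i, rfl⟩
    exact mem_centralizer_iff.2 fun _ ⟨j, hj⟩ => by rw [← hj]; exact (Commute.zpow_zpow_self e j i).eq
  have hle : Nat.card P ≤ p := by
    rw [← e', Nat.card_zpowers]
    exact Nat.le_of_dvd h.prime.pos (orderOf_dvd_of_pow_eq_one (h.exp e he))
  rw [h.card_eq, hcomm, card_bot, mul_one] at hle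
  nlinarith [h.prime.two_le]

theorem card_line (h : Shape p P T₀) {e : G} (he : e ∈ P) (he' : e ∉ (⁅P, P⁆ : Subgroup G)) :
    Nat.card (line P e) = p * Nat.card ↥(⁅P, P⁆ : Subgroup G) :=
  h.relIndex_two (h.line_le he) (h.lt_line he') (h.line_ne he)

/-- Two elements of a line generate the same line. -/
theorem line_eq (h : Shape p P T₀) {e f : G} (he : e ∈ P) (he' : e ∉ (⁅P, P⁆ : Subgroup G))
    (hf' : f ∉ (⁅P, P⁆ : Subgroup G)) (hf : f ∈ line P e) : line P f = line P e := by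
  refine Subgroup.eq_of_le_of_card_ge (sup_le (zpowers_le.2 hf) le_sup_right) ?_
  rw [h.card_line he he', h.card_line (h.line_le he hf) hf']

/-- Two lines generate. -/
theorem line_sup (h : Shape p P T₀) {e f : G} (he : e ∈ P) (hf : f ∈ P)
    (he' : e ∉ (⁅P, P⁆ : Subgroup G)) (hfe : f ∉ line P e) : line P e ⊔ line P f = P := by
  refine le_antisymm (sup_le (h.line_le he) (h.line_le hf)) ?_
  by_contra hn
  have hle : line P e ⊔ line P f ≤ P := sup_le (h.line_le he) (h.line_le hf)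
  have hlt : ⁅P, P⁆ < line P e ⊔ line P f := (h.lt_line he').trans_le le_sup_left
  have h1 := h.relIndex_two hle hlt fun e1 => hn e1.ge
  have h2 := Subgroup.eq_of_le_of_card_ge (le_sup_left : line P e ≤ line P e ⊔ line P f)
    (by rw [h1, h.card_line he he'])
  exact hfe (h2.ge (mem_sup_right (mem_sup_left (mem_zpowers f))))

theorem exists_notMem_lines (h : Shape p P T₀) (s : Finset G) (hs : ∀ e ∈ s, e ∈ P ∧ e ∉ (⁅P, P⁆ : Subgroup G))
    (hne : s.Nonempty) (hcard : s.card < p) :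
    ∃ w ∈ P, w ∉ (⁅P, P⁆ : Subgroup G) ∧ ∀ e ∈ s, w ∉ line P e := by
  classical
  haveI : Fintype G := Fintype.ofFinite G
  obtain ⟨e₀, he₀⟩ := hne
  by_contra hn
  push Not at hn
  have hsub : (Finset.univ.filter fun w : G => w ∈ P) ⊆
      s.biUnion fun e => Finset.univ.filter fun w : G => w ∈ line P e := by
    intro w hw
    simp only [Finset.mem_filter, Finset.mem_univ, true_and, Finset.mem_biUnion] at hw ⊢
    by_cases hwd : w ∈ (⁅P, P⁆ : Subgroup G)
    · exact ⟨e₀, he₀, mem_sup_right hwd⟩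
    · exact hn w hw hwd
  have hc : ∀ H : Subgroup G, (Finset.univ.filter fun w : G => w ∈ H).card = Nat.card H := fun H => by
    rw [Nat.card_eq_fintype_card, Fintype.card_subtype]
  have h1 := (Finset.card_le_card hsub).trans Finset.card_biUnion_le
  rw [hc P, h.card_eq] at h1
  have h2 : ∑ e ∈ s, (Finset.univ.filter fun w : G => w ∈ line P e).card =
      s.card * (p * Nat.card ↥(⁅P, P⁆ : Subgroup G)) := by
    rw [Finset.sum_congr rfl fun e he => (hc _).trans (h.card_line (hs e he).1 (hs e he).2),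
      Finset.sum_const, smul_eq_mul]
  rw [h2] at h1
  have h3 : p * (p * Nat.card ↥(⁅P, P⁆ : Subgroup G)) ≤ s.card * (p * Nat.card ↥(⁅P, P⁆ : Subgroup G)) := by
    rw [← mul_assoc, ← pow_two]; exact h1
  have := Nat.le_of_mul_le_mul_right h3 (Nat.mul_pos h.prime.pos Nat.card_pos)
  omega

/-- An element trivial modulo the derived group with a power prime to `p` centralising `P`. -/
theorem mem_centralizer_of_mod (h : Shape p P T₀) {g : G} {m : ℕ} (hg : g ∈ normalizer (P : Set G))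
    (hmod : ∀ x ∈ P, g * x * g⁻¹ * x⁻¹ ∈ (⁅P, P⁆ : Subgroup G))
    (hpow : g ^ m ∈ centralizer (P : Set G)) (hm : m.Coprime p) : g ∈ centralizer (P : Set G) := by
  have hD : ∀ d ∈ (⁅P, P⁆ : Subgroup G), g * d = d * g := by
    intro d hd
    have hle : (⁅P, P⁆ : Subgroup G) ≤ centralizer ({g} : Set G) := by
      rw [commutator_le]
      intro x hx y hy
      refine mem_centralizer_singleton_iff.2 (mul_inv_eq_iff_eq_mul.1 ?_).symm
      obtain ⟨d₁, hd₁, hxd⟩ : ∃ d₁ ∈ (⁅P, P⁆ : Subgroup G), g * x * g⁻¹ = d₁ * x :=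
        ⟨_, hmod x hx, by group⟩
      obtain ⟨d₂, hd₂, hyd⟩ : ∃ d₂ ∈ (⁅P, P⁆ : Subgroup G), g * y * g⁻¹ = d₂ * y :=
        ⟨_, hmod y hy, by group⟩
      have c1 : ∀ z ∈ P, d₁ * z = z * d₁ := fun z hz => (h.derived_comm hd₁ hz).symm
      have c2 : ∀ z ∈ P, d₂ * z = z * d₂ := fun z hz => (h.derived_comm hd₂ hz).symm
      calc g * ⁅x, y⁆ * g⁻¹ = ⁅g * x * g⁻¹, g * y * g⁻¹⁆ := by
            simp only [commutatorElement_def]; group
        _ = d₁ * (x * d₂) * y * x⁻¹ * d₁⁻¹ * y⁻¹ * d₂⁻¹ := by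
            rw [hxd, hyd]; simp only [commutatorElement_def]; group
        _ = d₁ * d₂ * (x * y * x⁻¹) * (d₁⁻¹ * y⁻¹) * d₂⁻¹ := by rw [← c2 x hx]; group
        _ = d₁ * (d₂ * (x * y * x⁻¹ * y⁻¹)) * d₁⁻¹ * d₂⁻¹ := by
            rw [show d₁⁻¹ * y⁻¹ = y⁻¹ * d₁⁻¹ by
              rw [← mul_inv_rev, ← mul_inv_rev, c1 y hy]]
            group
        _ = d₁ * (⁅x, y⁆ * d₂) * d₁⁻¹ * d₂⁻¹ := by
            rw [c2 _ (h.derived_le (h.conj_mod hx hy)), commutatorElement_def]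
        _ = ⁅x, y⁆ * (d₁ * d₂) * d₁⁻¹ * d₂⁻¹ := by
            rw [← mul_assoc d₁, c1 _ (h.derived_le (commutator_mem_commutator hx hy))]; group
        _ = ⁅x, y⁆ * (d₂ * d₁) * d₁⁻¹ * d₂⁻¹ := by rw [c1 d₂ (h.derived_le hd₂)]
        _ = _ := by group
    exact (mem_centralizer_singleton_iff.1 (hle hd)).symm
  refine mem_centralizer_iff.2 fun x hx => ?_
  obtain ⟨d, hd⟩ : ∃ d, d = g * x * g⁻¹ * x⁻¹ := ⟨_, rfl⟩
  have hdD : d ∈ (⁅P, P⁆ : Subgroup G) := hd ▸ hmod x hx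
  have hiter : ∀ n : ℕ, g ^ n * x * (g ^ n)⁻¹ = d ^ n * x := by
    intro n
    induction n with
    | zero => simp
    | succ n ih =>
      calc g ^ (n + 1) * x * (g ^ (n + 1))⁻¹ = g * (g ^ n * x * (g ^ n)⁻¹) * g⁻¹ := by
            rw [pow_succ']; group
        _ = (g * d ^ n) * x * g⁻¹ := by rw [ih]; group
        _ = d ^ n * (g * x * g⁻¹) := by rw [hD _ (pow_mem hdD n)]; group
        _ = _ := by rw [pow_succ, hd]; group
  have h1 : d ^ m = 1 := by
    have h2 := hiter m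
    rw [← mem_centralizer_iff.1 hpow x hx, mul_inv_cancel_right] at h2
    exact (mul_eq_right.1 h2.symm)
  have hd1 : d = 1 := by
    rw [← pow_one d, ← hm]
    exact pow_gcd_eq_one.2 ⟨h1, h.exp d (h.derived_le hdD)⟩
  rw [hd] at hd1
  exact (mul_inv_eq_iff_eq_mul.1 (mul_inv_eq_one.1 hd1)).symm

/-- The elements fixed by `b` modulo the derived group. -/
def fixMod (h : Shape p P T₀) {b : G} (hb : b ∈ normalizer (P : Set G)) : Subgroup G where
  carrier := {w | w ∈ P ∧ b * w * b⁻¹ * w⁻¹ ∈ (⁅P, P⁆ : Subgroup G)}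
  one_mem' := ⟨one_mem _, by simp⟩
  mul_mem' := by
    rintro v w ⟨hv, hv'⟩ ⟨hw, hw'⟩
    refine ⟨mul_mem hv hw, ?_⟩
    rw [show b * (v * w) * b⁻¹ * (v * w)⁻¹ =
      (b * v * b⁻¹) * (b * w * b⁻¹ * w⁻¹) * v⁻¹ by group,
      h.derived_comm hw' ((mem_normalizer_iff.1 hb v).1 hv), mul_assoc]
    exact mul_mem hw' hv'
  inv_mem' := by
    rintro v ⟨hv, hv'⟩
    refine ⟨Subgroup.inv_mem _ hv, ?_⟩
    rw [show b * v⁻¹ * b⁻¹ * v⁻¹⁻¹ = v⁻¹ * (b * v * b⁻¹ * v⁻¹)⁻¹ * v by group,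
      h.derived_comm (Subgroup.inv_mem _ hv') (Subgroup.inv_mem _ hv), inv_mul_cancel_right]
    exact Subgroup.inv_mem _ hv'

theorem mem_fixMod (h : Shape p P T₀) {b : G} (hb : b ∈ normalizer (P : Set G)) {w : G} :
    w ∈ h.fixMod hb ↔ w ∈ P ∧ b * w * b⁻¹ * w⁻¹ ∈ (⁅P, P⁆ : Subgroup G) := Iff.rfl

/-- The elements inverted by `b` modulo the derived group. -/
def negMod (h : Shape p P T₀) {b : G} (hb : b ∈ normalizer (P : Set G)) : Subgroup G where
  carrier := {w | w ∈ P ∧ b * w * b⁻¹ * w ∈ (⁅P, P⁆ : Subgroup G)}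
  one_mem' := ⟨one_mem _, by simp⟩
  mul_mem' := by
    rintro v w ⟨hv, hv'⟩ ⟨hw, hw'⟩
    refine ⟨mul_mem hv hw, ?_⟩
    rw [show b * (v * w) * b⁻¹ * (v * w) = (b * v * b⁻¹) * (b * w * b⁻¹ * w) *
      (w⁻¹ * v * w * v⁻¹) * v by group]
    have hc : w⁻¹ * v * w * v⁻¹ ∈ (⁅P, P⁆ : Subgroup G) := by
      have := h.conj_mod (Subgroup.inv_mem _ hw) hv
      rwa [inv_inv] at this
    rw [h.derived_comm hw' ((mem_normalizer_iff.1 hb v).1 hv), mul_assoc, mul_assoc,
      ← h.derived_comm hc hv, ← mul_assoc (b * v * b⁻¹)]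
    exact mul_mem hw' (mul_mem hv' hc)
  inv_mem' := by
    rintro v ⟨hv, hv'⟩
    refine ⟨Subgroup.inv_mem _ hv, ?_⟩
    rw [show b * v⁻¹ * b⁻¹ * v⁻¹ = v * (b * v * b⁻¹ * v)⁻¹ * v⁻¹ by
      group, h.derived_comm (Subgroup.inv_mem _ hv') hv, mul_inv_cancel_right]
    exact Subgroup.inv_mem _ hv'

theorem negMod_le (h : Shape p P T₀) {b : G} (hb : b ∈ normalizer (P : Set G)) : h.negMod hb ≤ P :=
  fun _ hw => hw.1

theorem fixMod_le (h : Shape p P T₀) {b : G} (hb : b ∈ normalizer (P : Set G)) : h.fixMod hb ≤ P :=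
  fun _ hw => hw.1

theorem mem_negMod (h : Shape p P T₀) {b : G} (hb : b ∈ normalizer (P : Set G)) {w : G} :
    w ∈ h.negMod hb ↔ w ∈ P ∧ b * w * b⁻¹ * w ∈ (⁅P, P⁆ : Subgroup G) := Iff.rfl

/-- The commutator with an involutory automorphism is inverted by it. -/
theorem inverted (_h : Shape p P T₀) {b y : G} (hb2 : b * b ∈ centralizer (P : Set G)) (hy : y ∈ P) :
    b * (b * y * b⁻¹ * y⁻¹) * b⁻¹ = (b * y * b⁻¹ * y⁻¹)⁻¹ := by
  have e : b * b * y * (b * b)⁻¹ = y := by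
    rw [← mem_centralizer_iff.1 hb2 y hy, mul_inv_cancel_right]
  calc b * (b * y * b⁻¹ * y⁻¹) * b⁻¹ = b * b * y * (b * b)⁻¹ * (b * y⁻¹ * b⁻¹) := by group
    _ = y * (b * y⁻¹ * b⁻¹) := by rw [e]
    _ = _ := by group

theorem exists_inverted (h : Shape p P T₀) {b : G} (hb : b ∈ normalizer (P : Set G))
    (hb2 : b * b ∈ centralizer (P : Set G)) (hbC : b ∉ centralizer (P : Set G)) :
    ∃ x ∈ P, x ∉ (⁅P, P⁆ : Subgroup G) ∧ b * x * b⁻¹ = x⁻¹ := by
  by_contra hn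
  push Not at hn
  refine hbC (h.mem_centralizer_of_mod (m := 2) hb (fun y hy => ?_) (by rwa [pow_two]) ?_)
  · by_contra hd
    exact hn _ (mul_mem ((mem_normalizer_iff.1 hb y).1 hy) (Subgroup.inv_mem _ hy)) hd (h.inverted hb2 hy)
  · exact (Nat.coprime_primes Nat.prime_two h.prime).2 h.odd.symm

/-- On an invariant line an involution is `1` or `-1`. -/
theorem line_cases (h : Shape p P T₀) {b e : G} (hb : b ∈ normalizer (P : Set G))
    (hb2 : b * b ∈ centralizer (P : Set G)) (he : e ∈ P) (he' : e ∉ (⁅P, P⁆ : Subgroup G))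
    (hinv : b * e * b⁻¹ ∈ line P e) : line P e ≤ h.fixMod hb ∨ line P e ≤ h.negMod hb := by
  have hD : ∀ d ∈ (⁅P, P⁆ : Subgroup G), d ∈ h.fixMod hb := fun d hd =>
    ⟨h.derived_le hd, mul_mem (h.derived_normal hb hd) (Subgroup.inv_mem _ hd)⟩
  by_cases hfix : b * e * b⁻¹ * e⁻¹ ∈ (⁅P, P⁆ : Subgroup G)
  · exact Or.inl (sup_le (zpowers_le.2 ⟨he, hfix⟩) hD)
  refine Or.inr ?_
  set x := b * e * b⁻¹ * e⁻¹ with hx
  have hxl : x ∈ line P e := mul_mem hinv (Subgroup.inv_mem _ (mem_sup_left (mem_zpowers e)))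
  rw [← h.line_eq he he' hfix hxl]
  refine sup_le (zpowers_le.2 ⟨h.line_le he hxl, ?_⟩) fun d hd =>
    ⟨h.derived_le hd, mul_mem (h.derived_normal hb hd) hd⟩
  rw [h.inverted hb2 he, ← hx, inv_mul_cancel]
  exact one_mem _

theorem fix_inf_neg (h : Shape p P T₀) {b : G} (hb : b ∈ normalizer (P : Set G)) {w : G}
    (hf : w ∈ h.fixMod hb) (hn : w ∈ h.negMod hb) : w ∈ (⁅P, P⁆ : Subgroup G) := by
  have h1 : w ^ 2 ∈ (⁅P, P⁆ : Subgroup G) := by
    rw [show w ^ 2 = (b * w * b⁻¹ * w⁻¹)⁻¹ * (b * w * b⁻¹ * w) by rw [pow_two]; group]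
    exact mul_mem (Subgroup.inv_mem _ hf.2) hn.2
  obtain ⟨m, hm⟩ := exists_pow_eq_self_of_coprime (n := 2) (x := w) (Nat.Coprime.coprime_dvd_right
    (orderOf_dvd_of_pow_eq_one (h.exp w hf.1)) ((Nat.coprime_primes Nat.prime_two h.prime).2 h.odd.symm))
  rw [← hm]
  exact pow_mem h1 m

/-- An elementary 2-group of automorphisms has order at most four, and contains `-1` unless of order two. -/
theorem two_group_cases (h : Shape p P T₀) {B : Subgroup G} (hBn : B ≤ normalizer (P : Set G))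
    (hsq : ∀ b ∈ B, b * b ∈ centralizer (P : Set G))
    (hcomm : ∀ b ∈ B, ∀ c ∈ B, ⁅b, c⁆ ∈ centralizer (P : Set G)) :
    (centralizer (P : Set G)).relIndex B ≤ 4 ∧
      ((centralizer (P : Set G)).relIndex B ≤ 2 ∨ ∃ a ∈ B, a ∉ centralizer (P : Set G) ∧
        ∀ w ∈ P, a * w * a⁻¹ * w ∈ (⁅P, P⁆ : Subgroup G)) := by
  classical
  set C := (centralizer (P : Set G)).subgroupOf B with hC
  have hinj : ∀ {α : Type} [Finite α] (f : B → α),
      (∀ b c : B, f b = f c → (b : G)⁻¹ * c ∈ centralizer (P : Set G)) →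
        (centralizer (P : Set G)).relIndex B ≤ Nat.card α := by
    intro α _ f hf
    rw [relIndex, index_eq_card, ← hC]
    refine Nat.card_le_card_of_injective (fun q : B ⧸ C => f q.out) fun q r hqr => ?_
    rw [← Quotient.out_eq q, ← Quotient.out_eq r]
    exact QuotientGroup.eq.2 (hf _ _ hqr)
  have hinv : ∀ b ∈ B, ∀ w ∈ P, b⁻¹ * w * b = b * w * b⁻¹ := by
    intro b hb w hw
    have e : b * b * w * (b * b)⁻¹ = w := by
      rw [← mem_centralizer_iff.1 (hsq b hb) w hw, mul_inv_cancel_right]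
    calc b⁻¹ * w * b = b⁻¹ * (b * b * w * (b * b)⁻¹) * b := by rw [e]
      _ = _ := by group
  -- the same behaviour on `P`
  have hsame : ∀ b (hb : b ∈ B) c (hc : c ∈ B) (L : Subgroup G), L ≤ P →
      ((L ≤ h.fixMod (hBn hb) ∧ L ≤ h.fixMod (hBn hc)) ∨
        (L ≤ h.negMod (hBn hb) ∧ L ≤ h.negMod (hBn hc))) →
      ∀ w ∈ L, b⁻¹ * c * w * (b⁻¹ * c)⁻¹ * w⁻¹ ∈ (⁅P, P⁆ : Subgroup G) := by
    intro b hb c hc L hL hcase w hw
    have hwP := hL hw
    have hv : c * w * c⁻¹ ∈ P := (mem_normalizer_iff.1 (hBn hc) w).1 hwP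
    have e : b⁻¹ * c * w * (b⁻¹ * c)⁻¹ = b * (c * w * c⁻¹) * b⁻¹ := by
      rw [← hinv b hb _ hv]; group
    rw [e]
    rcases hcase with ⟨h1, h2⟩ | ⟨h1, h2⟩
    · rw [show b * (c * w * c⁻¹) * b⁻¹ * w⁻¹ =
        b * (c * w * c⁻¹ * w⁻¹) * b⁻¹ * (b * w * b⁻¹ * w⁻¹) by group]
      exact mul_mem (h.derived_normal (hBn hb) (h2 hw).2) (h1 hw).2
    · rw [show b * (c * w * c⁻¹) * b⁻¹ * w⁻¹ =
        b * (c * w * c⁻¹ * w) * b⁻¹ * (w * (b * w * b⁻¹))⁻¹ by group]
      refine mul_mem (h.derived_normal (hBn hb) (h2 hw).2) (Subgroup.inv_mem _ ?_)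
      rw [show w * (b * w * b⁻¹) = w * (b * w * b⁻¹ * w) * w⁻¹ by group,
        h.derived_comm (h1 hw).2 hwP, mul_inv_cancel_right]
      exact (h1 hw).2
  have hcent : ∀ b (hb : b ∈ B) c (hc : c ∈ B),
      (∀ w ∈ P, b⁻¹ * c * w * (b⁻¹ * c)⁻¹ * w⁻¹ ∈ (⁅P, P⁆ : Subgroup G)) →
      b⁻¹ * c ∈ centralizer (P : Set G) := by
    intro b hb c hc hw
    refine h.mem_centralizer_of_mod (m := 2) (mul_mem (Subgroup.inv_mem _ (hBn hb)) (hBn hc)) hw ?_
      ((Nat.coprime_primes Nat.prime_two h.prime).2 h.odd.symm)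
    rw [pow_two]; exact hsq _ (mul_mem (Subgroup.inv_mem _ hb) hc)
  by_cases hall : ∀ b (hb : b ∈ B), b ∉ centralizer (P : Set G) → P ≤ h.negMod (hBn hb)
  · have h2 : (centralizer (P : Set G)).relIndex B ≤ 2 := by
      refine (hinj (α := Bool) (fun b => decide ((b : G) ∈ centralizer (P : Set G))) ?_).trans (by simp)
      intro b c hbc
      simp only [decide_eq_decide] at hbc
      by_cases hb : (b : G) ∈ centralizer (P : Set G)
      · exact mul_mem (Subgroup.inv_mem _ hb) (hbc.1 hb)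
      · exact hcent _ b.2 _ c.2 fun w hw => hsame _ b.2 _ c.2 P le_rfl
          (Or.inr ⟨hall _ b.2 hb, hall _ c.2 fun hc => hb (hbc.2 hc)⟩) w hw
    exact ⟨h2.trans (by norm_num), Or.inl h2⟩
  push Not at hall
  obtain ⟨a, ha, haC, hane⟩ := hall
  obtain ⟨x, hx, hxd, hax⟩ := h.exists_inverted (hBn ha) (hsq a ha) haC
  have hxneg : x ∈ h.negMod (hBn ha) := ⟨hx, by rw [hax, inv_mul_cancel]; exact one_mem _⟩
  have hL1 : h.negMod (hBn ha) = line P x := by
    have hle : line P x ≤ h.negMod (hBn ha) := sup_le (zpowers_le.2 hxneg) fun d hd =>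
      ⟨h.derived_le hd, mul_mem (h.derived_normal (hBn ha) hd) hd⟩
    refine (Subgroup.eq_of_le_of_card_ge hle ?_).symm
    rw [h.card_line hx hxd, ← h.relIndex_two (h.negMod_le _) ((h.lt_line hxd).trans_le hle)
      fun e => hane e.ge]
  obtain ⟨y, hy, hyd⟩ : ∃ y ∈ h.fixMod (hBn ha), y ∉ (⁅P, P⁆ : Subgroup G) := by
    by_contra hn
    push Not at hn
    refine hane fun w hw => ⟨hw, hn _ ⟨mul_mem ((mem_normalizer_iff.1 (hBn ha) w).1 hw) hw, ?_⟩⟩
    have hv := (mem_normalizer_iff.1 (hBn ha) w).1 hw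
    have e : a * a * w * (a * a)⁻¹ = w := by
      rw [← mem_centralizer_iff.1 (hsq a ha) w hw, mul_inv_cancel_right]
    rw [show a * (a * w * a⁻¹ * w) * a⁻¹ * (a * w * a⁻¹ * w)⁻¹ =
      a * a * w * (a * a)⁻¹ * (a * w * a⁻¹) * w⁻¹ * (a * w * a⁻¹)⁻¹ by group, e]
    exact h.conj_mod hw hv
  have hfP : h.fixMod (hBn ha) ≠ P := fun e => by
    rcases h.sub_cases (D := (⊥ : Subgroup G)) bot_le (fun _ _ d hd => by
      rw [Subgroup.mem_bot.1 hd]; simp) with - | e'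
    · exact hxd (h.fix_inf_neg (hBn ha) (e.ge hx) hxneg)
    · exact hxd (h.fix_inf_neg (hBn ha) (e.ge hx) hxneg)
  have hL2 : h.fixMod (hBn ha) = line P y := by
    have hle : line P y ≤ h.fixMod (hBn ha) := sup_le (zpowers_le.2 hy) fun d hd =>
      ⟨h.derived_le hd, mul_mem (h.derived_normal (hBn ha) hd) (Subgroup.inv_mem _ hd)⟩
    refine (Subgroup.eq_of_le_of_card_ge hle ?_).symm
    rw [h.card_line hy.1 hyd, ← h.relIndex_two (h.fixMod_le _) ((h.lt_line hyd).trans_le hle) hfP]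
  have hyx : y ∉ line P x := fun hyl => hyd (h.fix_inf_neg (hBn ha) hy (hL1 ▸ hyl))
  have hP : line P x ⊔ line P y = P := h.line_sup hx hy.1 hxd hyx
  -- every element preserves the two lines
  have hpres : ∀ b (hb : b ∈ B), b * x * b⁻¹ ∈ line P x ∧ b * y * b⁻¹ ∈ line P y := by
    intro b hb
    have hconj : ∀ w ∈ P, ∀ ε : G → G, (∀ u, b * ε u * b⁻¹ = ε (b * u * b⁻¹)) →
        a * w * a⁻¹ * ε w ∈ (⁅P, P⁆ : Subgroup G) →
        a * (b * w * b⁻¹) * a⁻¹ * ε (b * w * b⁻¹) ∈ (⁅P, P⁆ : Subgroup G) := by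
      intro w hw ε hε hmem
      have hc := hcomm a ha b hb
      have hu : b * a * w * (b * a)⁻¹ ∈ P :=
        (mem_normalizer_iff.1 (mul_mem (hBn hb) (hBn ha)) w).1 hw
      have e : a * (b * w * b⁻¹) * a⁻¹ = b * (a * w * a⁻¹) * b⁻¹ := by
        calc a * (b * w * b⁻¹) * a⁻¹ = ⁅a, b⁆ * (b * a * w * (b * a)⁻¹) * ⁅a, b⁆⁻¹ := by
              simp only [commutatorElement_def]; group
          _ = b * a * w * (b * a)⁻¹ := by
              rw [← mem_centralizer_iff.1 hc _ hu, mul_inv_cancel_right]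
          _ = _ := by group
      rw [e, ← hε, show b * (a * w * a⁻¹) * b⁻¹ * (b * ε w * b⁻¹) = b * (a * w * a⁻¹ * ε w) * b⁻¹ by group]
      exact h.derived_normal (hBn hb) hmem
    constructor
    · rw [← hL1]
      exact ⟨(mem_normalizer_iff.1 (hBn hb) x).1 hx, hconj x hx id (fun u => rfl) hxneg.2⟩
    · rw [← hL2]
      exact ⟨(mem_normalizer_iff.1 (hBn hb) y).1 hy.1,
        hconj y hy.1 (fun u => u⁻¹) (fun u => by group) hy.2⟩
  have hcases : ∀ (b : B) (e : G), e ∈ P → e ∉ (⁅P, P⁆ : Subgroup G) → (b : G) * e * (b : G)⁻¹ ∈ line P e →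
      line P e ≤ h.fixMod (hBn b.2) ∨ line P e ≤ h.negMod (hBn b.2) :=
    fun b e he he' hi => h.line_cases (hBn b.2) (hsq b b.2) he he' hi
  let F : Subgroup G → B → Bool := fun L b => decide (L ≤ h.fixMod (hBn b.2))
  have hFsame : ∀ (b c : B) (e : G), e ∈ P → e ∉ (⁅P, P⁆ : Subgroup G) →
      (∀ d : B, (d : G) * e * (d : G)⁻¹ ∈ line P e) → F (line P e) b = F (line P e) c →
      ∀ w ∈ line P e, (b : G)⁻¹ * c * w * ((b : G)⁻¹ * c)⁻¹ * w⁻¹ ∈ (⁅P, P⁆ : Subgroup G) := by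
    intro b c e he he' hi hbc
    simp only [F, decide_eq_decide] at hbc
    by_cases hf : line P e ≤ h.fixMod (hBn b.2)
    · exact hsame _ b.2 _ c.2 _ (h.line_le he) (Or.inl ⟨hf, hbc.1 hf⟩)
    · exact hsame _ b.2 _ c.2 _ (h.line_le he) (Or.inr ⟨(hcases b e he he' (hi b)).resolve_left hf,
        (hcases c e he he' (hi c)).resolve_left fun hc => hf (hbc.2 hc)⟩)
  have hkey : ∀ b c : B, F (line P x) b = F (line P x) c → F (line P y) b = F (line P y) c →
      (b : G)⁻¹ * c ∈ centralizer (P : Set G) := by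
    intro b c h1 h2
    refine hcent _ b.2 _ c.2 fun w hw => ?_
    have hle : line P x ⊔ line P y ≤
        h.fixMod (mul_mem (Subgroup.inv_mem _ (hBn b.2)) (hBn c.2)) :=
      sup_le (fun w hw => ⟨h.line_le hx hw, hFsame b c x hx hxd (fun d => (hpres d d.2).1) h1 w hw⟩)
        (fun w hw => ⟨h.line_le hy.1 hw, hFsame b c y hy.1 hyd (fun d => (hpres d d.2).2) h2 w hw⟩)
    exact (hle (hP.ge hw)).2
  refine ⟨(hinj (α := Bool × Bool) (fun b => (F (line P x) b, F (line P y) b)) fun b c hbc =>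
    hkey b c (congrArg Prod.fst hbc) (congrArg Prod.snd hbc)).trans (by simp), ?_⟩
  by_cases hneg : ∃ b : B, F (line P x) b = false ∧ F (line P y) b = false
  · obtain ⟨b, hb1, hb2⟩ := hneg
    simp only [F, decide_eq_false_iff_not] at hb1 hb2
    have hle : line P x ⊔ line P y ≤ h.negMod (hBn b.2) :=
      sup_le ((hcases b x hx hxd (hpres b b.2).1).resolve_left hb1)
        ((hcases b y hy.1 hyd (hpres b b.2).2).resolve_left hb2)
    refine Or.inr ⟨b, b.2, fun hbC => ?_, fun w hw => (hle (hP.ge hw)).2⟩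
    refine hb1 fun w hw => ⟨h.line_le hx hw, ?_⟩
    rw [← mem_centralizer_iff.1 hbC w (h.line_le hx hw), mul_inv_cancel_right, mul_inv_cancel]
    exact one_mem _
  push Not at hneg
  left
  refine (hinj (α := Bool) (fun b => F (line P x) b) fun b c hbc => hkey b c hbc ?_).trans (by simp)
  have haF : F (line P x) ⟨a, ha⟩ = false ∧ F (line P y) ⟨a, ha⟩ = true := by
    simp only [F, decide_eq_false_iff_not, decide_eq_true_eq]
    exact ⟨fun hle => hxd (h.fix_inf_neg _ (hle (mem_sup_left (mem_zpowers x))) hxneg), hL2.ge⟩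
  have hFy : ∀ d : B, F (line P y) d = true := by
    intro d
    by_contra hd
    rw [Bool.not_eq_true] at hd
    have hd1 : F (line P x) d = true := by
      by_contra hd1
      rw [Bool.not_eq_true] at hd1
      exact hneg d hd1 hd
    -- the product with `a` is minus one
    set d' : B := d * ⟨a, ha⟩
    simp only [F, decide_eq_false_iff_not, decide_eq_true_eq] at hd hd1
    have hnegd := (hcases d y hy.1 hyd (hpres d d.2).2).resolve_left hd
    have h1 : ¬ line P x ≤ h.fixMod (hBn d'.2) := by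
      intro hle
      have hx2 := (hle (mem_sup_left (mem_zpowers x))).2
      have hxi : (d : G) * x * (d : G)⁻¹ * x⁻¹ ∈ (⁅P, P⁆ : Subgroup G) :=
        (hd1 (mem_sup_left (mem_zpowers x))).2
      refine hxd (h.fix_inf_neg (hBn d'.2) ⟨hx, hx2⟩ ⟨hx, ?_⟩)
      show (d : G) * a * x * ((d : G) * a)⁻¹ * x ∈ _
      rw [show (d : G) * a * x * ((d : G) * a)⁻¹ = (d : G) * (a * x * a⁻¹) * (d : G)⁻¹ by group, hax,
        show (d : G) * x⁻¹ * (d : G)⁻¹ * x = x⁻¹ * ((d : G) * x * (d : G)⁻¹ * x⁻¹)⁻¹ * x by group,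
        h.derived_comm (Subgroup.inv_mem _ hxi) (Subgroup.inv_mem _ hx), inv_mul_cancel_right]
      exact Subgroup.inv_mem _ hxi
    have h2 : ¬ line P y ≤ h.fixMod (hBn d'.2) := by
      intro hle
      have hy2 := (hle (mem_sup_left (mem_zpowers y))).2
      have hyi : (d : G) * y * (d : G)⁻¹ * y ∈ (⁅P, P⁆ : Subgroup G) :=
        (hnegd (mem_sup_left (mem_zpowers y))).2
      refine hyd (h.fix_inf_neg (hBn d'.2) ⟨hy.1, hy2⟩ ⟨hy.1, ?_⟩)
      show (d : G) * a * y * ((d : G) * a)⁻¹ * y ∈ _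
      rw [show (d : G) * a * y * ((d : G) * a)⁻¹ * y =
        (d : G) * (a * y * a⁻¹ * y⁻¹) * (d : G)⁻¹ * ((d : G) * y * (d : G)⁻¹ * y) by group]
      exact mul_mem (h.derived_normal (hBn d.2) hy.2) hyi
    exact hneg d' (decide_eq_false h1) (decide_eq_false h2)
  rw [hFy b, hFy c]

end Shape

end Cfsg.Agent.QTXi
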