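import Cfsg.Agent.Lib.QTXi.PGroup
import Cfsg.Agent.Lib.Components.Basic
import Cfsg.Agent.Lib.PLocal.CyclicExtension
import Cfsg.Prelude.Def_Quasithin

/-!
# Components in a group of rank two

Odd order elements fix every component, and an irreducible pair inducing inner automorphisms on the
product of the conjugates of a component under `T` centralises it or lies in it.
-/

set_option autoImplicit false
set_option linter.style.haveILetI false

namespace Cfsg.Agent.QTXi

open Subgroup
open scoped Pointwise commutatorElement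

universe u

variable {A : Type u} [Group A] [Finite A]

/-- An odd prime and an element of that order modulo the centre of a component. -/
theorem exists_element {K : Subgroup A} (hK : Cfsg.IsComponent K) :
    ∃ (r : ℕ) (x : A), r.Prime ∧ r ≠ 2 ∧ x ∈ K ∧ x ^ r ∈ centralizer (K : Set A) ∧
      x ∉ centralizer (K : Set A) := by
  classical
  have hC : ∀ k : K, k ∈ center K ↔ (k : A) ∈ centralizer (K : Set A) := fun k => by
    rw [mem_center_iff, mem_centralizer_iff]
    exact ⟨fun h y hy => congrArg Subtype.val (h ⟨y, hy⟩), fun h y => Subtype.ext (h y y.2)⟩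
  obtain ⟨r, hr, hr2, hrd⟩ : ∃ r : ℕ, r.Prime ∧ r ≠ 2 ∧ r ∣ Nat.card (K ⧸ center K) := by
    by_contra hcon
    push Not at hcon
    haveI : Fact (Nat.Prime 2) := ⟨Nat.prime_two⟩
    have hp : IsPGroup 2 (K ⧸ center K) :=
      IsPGroup.of_card (n := (Nat.card (K ⧸ center K)).primeFactorsList.length)
        (Nat.eq_prime_pow_of_unique_prime_dvd Nat.card_pos.ne' fun {d} hd hdd => by
          by_contra hne
          exact hcon d hd hne hdd)
    haveI := hp.isNilpotent
    haveI : Group.IsNilpotent K := Group.of_quotient_center_nilpotent inferInstance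
    exact Components.Basic.component_not_isSolvable hK inferInstance
  haveI := Fact.mk hr
  obtain ⟨q, hq⟩ := exists_prime_orderOf_dvd_card' r hrd
  obtain ⟨k, rfl⟩ := QuotientGroup.mk'_surjective (center K) q
  refine ⟨r, k, hr, hr2, k.2, ?_, fun hk => ?_⟩
  · rw [← SubgroupClass.coe_pow, ← hC, ← QuotientGroup.eq_one_iff]
    show QuotientGroup.mk' (center K) (k ^ r) = 1
    rw [map_pow, ← hq, pow_orderOf_eq_one]
  · rw [← hC, ← QuotientGroup.eq_one_iff] at hk
    rw [QuotientGroup.mk'_apply, hk, orderOf_one] at hq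
    exact hr.ne_one hq.symm

omit [Finite A] in
theorem mem_centralizer_map {K : Subgroup A} (g : A) {x : A} :
    g * x * g⁻¹ ∈ centralizer ((K.map (MulAut.conj g).toMonoidHom : Subgroup A) : Set A) ↔
      x ∈ centralizer (K : Set A) := by
  constructor
  · intro h
    refine mem_centralizer_iff.2 fun y hy => ?_
    have := mem_centralizer_iff.1 h (g * y * g⁻¹) ⟨y, hy, rfl⟩
    calc y * x = g⁻¹ * (g * y * g⁻¹ * (g * x * g⁻¹)) * g := by group
      _ = g⁻¹ * (g * x * g⁻¹ * (g * y * g⁻¹)) * g := by rw [this]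
      _ = x * y := by group
  · intro h
    refine mem_centralizer_iff.2 ?_
    rintro _ ⟨y, hy, rfl⟩
    show g * y * g⁻¹ * (g * x * g⁻¹) = g * x * g⁻¹ * (g * y * g⁻¹)
    calc g * y * g⁻¹ * (g * x * g⁻¹) = g * (y * x) * g⁻¹ := by group
      _ = g * (x * y) * g⁻¹ := by rw [mem_centralizer_iff.1 h y hy]
      _ = _ := by group

/-- There are at most two conjugates of a component. -/
theorem no_three (hA : RankTwo A) {K : Subgroup A} (hK : Cfsg.IsComponent K) (g : Fin 3 → A)
    (hg : ∀ i j, i ≠ j → K.map (MulAut.conj (g i)).toMonoidHom ≠ K.map (MulAut.conj (g j)).toMonoidHom) :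
    False := by
  classical
  obtain ⟨r, x, hr, hr2, hxK, hxr, hxn⟩ := exists_element hK
  haveI := Fact.mk hr
  let L : Fin 3 → Subgroup A := fun i => K.map (MulAut.conj (g i)).toMonoidHom
  let y : Fin 3 → A := fun i => g i * x * (g i)⁻¹
  have hyL : ∀ i, y i ∈ L i := fun i => ⟨x, hxK, rfl⟩
  have hcomm : ∀ i j, i ≠ j → ∀ a ∈ L i, ∀ b ∈ L j, a * b = b * a := fun i j hij a ha b hb => by
    have h := commutator_eq_bot_iff_le_centralizer.1 (Components.Basic.component_commutator_eq_bot_of_ne
      (Components.Basic.component_conj hK (g i)) (Components.Basic.component_conj hK (g j)) (hg i j hij)) ha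
    exact (mem_centralizer_iff.1 h b hb).symm
  have hyr : ∀ i, (y i) ^ r ∈ centralizer (L i : Set A) := fun i => by
    show (g i * x * (g i)⁻¹) ^ r ∈ _
    rw [conj_pow]; exact (mem_centralizer_map (g i)).2 hxr
  have hyn : ∀ i, y i ∉ centralizer (L i : Set A) := fun i h => hxn ((mem_centralizer_map (g i)).1 h)
  have hyy : ∀ i j, y i * y j = y j * y i := fun i j => by
    rcases eq_or_ne i j with rfl | hij
    · rfl
    · exact hcomm i j hij _ (hyL i) _ (hyL j)
  set D := closure (Set.range y)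
  haveI hDc : IsMulCommutative D := Subgroup.isMulCommutative_closure (by
    rintro _ ⟨i, rfl⟩ _ ⟨j, rfl⟩; exact hyy i j)
  -- powers of the three elements are independent modulo the centralisers
  let C : Subgroup A := ⨅ i, centralizer (L i : Set A)
  have hyC : ∀ i j, i ≠ j → y i ∈ centralizer (L j : Set A) := fun i j hij =>
    mem_centralizer_iff.2 fun b hb => (hcomm i j hij _ (hyL i) b hb).symm
  have hyrC : ∀ i, (y i) ^ r ∈ C := fun i => mem_iInf.2 fun j => by
    rcases eq_or_ne i j with rfl | hij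
    · exact hyr i
    · exact pow_mem (hyC i j hij) r
  letI : CommGroup D := { (inferInstance : Group D) with mul_comm := fun a b => hDc.is_comm.comm a b }
  let C' := C.subgroupOf D
  let φ : D →* D := powMonoidHom r
  have hφC : ∀ d : D, φ d ∈ C' := by
    intro d
    obtain ⟨d, hd⟩ := d
    show d ^ r ∈ C
    induction hd using closure_induction with
    | mem z hz => obtain ⟨i, rfl⟩ := hz; exact hyrC i
    | one => rw [one_pow]; exact one_mem _
    | mul a b ha hb iha ihb =>
      rw [(show Commute a b from congrArg Subtype.val (mul_comm (⟨a, ha⟩ : D) ⟨b, hb⟩)).mul_pow]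
      exact mul_mem iha ihb
    | inv a _ iha => rw [inv_pow]; exact inv_mem iha
  let ψ : (Fin 3 → Fin r) → D ⧸ C' := fun e =>
    QuotientGroup.mk' C' (∏ i, (⟨y i, subset_closure ⟨i, rfl⟩⟩ : D) ^ (e i).val)
  have hψ : Function.Injective ψ := by
    intro a b hab
    funext i
    have h0 := QuotientGroup.eq.1 hab
    have h2 : ((∏ k, (⟨y k, subset_closure ⟨k, rfl⟩⟩ : D) ^ (a k).val)⁻¹ *
        ∏ k, (⟨y k, subset_closure ⟨k, rfl⟩⟩ : D) ^ (b k).val : D).1 ∈ centralizer (L i : Set A) :=
      mem_iInf.1 h0 i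
    let Ci := (centralizer (L i : Set A)).subgroupOf D
    let π := QuotientGroup.mk' Ci
    have hπ : ∀ e : Fin 3 → Fin r, π (∏ k, (⟨y k, subset_closure ⟨k, rfl⟩⟩ : D) ^ (e k).val) =
        π ⟨y i, subset_closure ⟨i, rfl⟩⟩ ^ (e i).val := by
      intro e
      rw [map_prod, Finset.prod_eq_single i]
      · rw [map_pow]
      · intro k _ hki
        rw [map_pow, show π ⟨y k, subset_closure ⟨k, rfl⟩⟩ = 1 from
          (QuotientGroup.eq_one_iff _).2 (hyC k i hki), one_pow]
      · exact fun h => absurd (Finset.mem_univ i) h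
    have h3 : π (∏ k, (⟨y k, subset_closure ⟨k, rfl⟩⟩ : D) ^ (a k).val) =
        π (∏ k, (⟨y k, subset_closure ⟨k, rfl⟩⟩ : D) ^ (b k).val) := QuotientGroup.eq.2 h2
    rw [hπ, hπ] at h3
    have ho : orderOf (π ⟨y i, subset_closure ⟨i, rfl⟩⟩) = r := orderOf_eq_prime (by
      rw [← map_pow]; exact (QuotientGroup.eq_one_iff _).2 (hyr i))
      fun h => hyn i ((QuotientGroup.eq_one_iff (N := Ci) _).1 h)
    have h4 := pow_eq_pow_iff_modEq.1 h3
    rw [ho] at h4
    exact Fin.ext (h4.eq_of_lt_of_lt (a i).2 (b i).2)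
  have hq : r ^ 3 ≤ Nat.card (D ⧸ C') := by
    have := Nat.card_le_card_of_injective ψ hψ
    rwa [Nat.card_fun, Nat.card_fin, Nat.card_fin] at this
  have hker : r ^ 3 ≤ Nat.card φ.ker := by
    have h1 := φ.ker.card_mul_index
    rw [Subgroup.index_ker] at h1
    have h2 : Nat.card φ.range ≤ Nat.card C' := Subgroup.card_le_of_le (by
      rintro _ ⟨d, rfl⟩; exact hφC d)
    have h3 := Subgroup.card_eq_card_quotient_mul_card_subgroup C'
    have h4 : 0 < Nat.card φ.range := Nat.card_pos
    refine hq.trans (Nat.le_of_mul_le_mul_right ?_ h4)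
    calc Nat.card (D ⧸ C') * Nat.card φ.range ≤ Nat.card (D ⧸ C') * Nat.card C' :=
          Nat.mul_le_mul_left _ h2
      _ = Nat.card φ.ker * Nat.card φ.range := by rw [← h3, h1]
  have hrank := hA r hr hr2 (φ.ker.map D.subtype) (by
    haveI : IsMulCommutative φ.ker := ⟨⟨fun a b => Subtype.ext (mul_comm (a : D) b)⟩⟩
    infer_instance) (by
      rintro _ ⟨d, hd, rfl⟩
      exact congrArg Subtype.val (MonoidHom.mem_ker.1 hd))
  rw [card_map_of_injective D.subtype_injective] at hrank
  have := Nat.pow_le_pow_iff_right hr.one_lt |>.1 (hker.trans hrank)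
  omega

/-- Elements of odd order normalise every component. -/
theorem odd_mem_normalizer (hA : RankTwo A) {K : Subgroup A} (hK : Cfsg.IsComponent K) {g : A}
    (hg : Odd (orderOf g)) : g ∈ normalizer (K : Set A) := by
  classical
  have hfix : ∀ h : A, K.map (MulAut.conj h).toMonoidHom = K → h ∈ normalizer (K : Set A) := by
    intro h hh
    exact mem_normalizer_iff_conj_image_eq.2 (congrArg SetLike.coe hh)
  have h2 : g ^ 2 ∈ normalizer (K : Set A) := by
    by_contra hn
    refine no_three hA hK (fun i => g ^ i.val) fun i j hij he => hn ?_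
    have key : ∀ a b : ℕ, K.map (MulAut.conj (g ^ a)).toMonoidHom = K.map (MulAut.conj (g ^ b)).toMonoidHom →
        (g ^ a)⁻¹ * g ^ b ∈ normalizer (K : Set A) := fun a b e => hfix _ (by
      rw [map_mul, show ((MulAut.conj (g ^ a)⁻¹ * MulAut.conj (g ^ b)).toMonoidHom : A →* A) =
        (MulAut.conj (g ^ a)⁻¹).toMonoidHom.comp (MulAut.conj (g ^ b)).toMonoidHom from rfl,
        ← Subgroup.map_map, ← e, Subgroup.map_map]
      rw [show ((MulAut.conj (g ^ a)⁻¹).toMonoidHom.comp (MulAut.conj (g ^ a)).toMonoidHom : A →* A) =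
        MonoidHom.id A from MonoidHom.ext fun z => by simp, Subgroup.map_id])
    have h' := key _ _ he
    fin_cases i <;> fin_cases j <;> simp at hij h' ⊢
    all_goals
      first
      | exact h'
      | exact pow_mem h' 2
      | (have := inv_mem h'; simpa using this)
      | (have := pow_mem (inv_mem h') 2; simpa using this)
      | (rw [show g⁻¹ * g ^ 2 = g by group] at h'; exact pow_mem h' 2)
      | (have h'' := inv_mem h'
         rw [show ((g ^ 2)⁻¹ * g)⁻¹ = g by group] at h''
         exact pow_mem h'' 2)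
  obtain ⟨m, hm⟩ := exists_pow_eq_self_of_coprime (n := 2) (x := g) (Nat.coprime_two_left.2 hg)
  rw [← hm]
  exact pow_mem h2 m

omit [Finite A] in
theorem map_conj_eq {K : Subgroup A} {g : A} (hg : g ∈ normalizer (K : Set A)) :
    K.map (MulAut.conj g).toMonoidHom = K :=
  SetLike.coe_injective (mem_normalizer_iff_conj_image_eq.1 hg)

omit [Finite A] in
theorem le_conjClosure {K T : Subgroup A} : K ≤ Cfsg.conjClosure K T := fun k hk =>
  mem_iSup_of_mem (1 : T) ⟨k, hk, by simp⟩

theorem conjClosure_normalized {K T : Subgroup A} : T ≤ normalizer (Cfsg.conjClosure K T : Set A) := by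
  refine le_normalizer_of_conj fun t ht k hk => ?_
  have hle : Cfsg.conjClosure K T ≤ (Cfsg.conjClosure K T).comap (MulAut.conj t).toMonoidHom := by
    refine iSup_le fun s => ?_
    rintro _ ⟨z, hz, rfl⟩
    refine mem_iSup_of_mem (⟨t, ht⟩ * s) ⟨z, hz, ?_⟩
    simp [mul_assoc]
  exact hle hk

theorem odd_normalizes_conjClosure (hA : RankTwo A) {K T : Subgroup A} (hK : Cfsg.IsComponent K) {g : A}
    (hg : Odd (orderOf g)) : g ∈ normalizer (Cfsg.conjClosure K T : Set A) := by
  refine zpowers_le.1 (le_normalizer_of_conj (H := zpowers g) fun a ha k hk => ?_)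
  have hle : Cfsg.conjClosure K T ≤ (Cfsg.conjClosure K T).comap (MulAut.conj a).toMonoidHom := by
    refine iSup_le fun s => ?_
    rintro _ ⟨z, hz, rfl⟩
    refine mem_iSup_of_mem s ?_
    exact conj_mem_of_normalizer (zpowers_le.2
      (odd_mem_normalizer hA (Components.Basic.component_conj hK (s : A)) hg)) ha ⟨z, hz, rfl⟩
  exact hle hk

theorem conjClosure_perfect {K T : Subgroup A} (hK : Cfsg.IsComponent K) :
    ⁅Cfsg.conjClosure K T, Cfsg.conjClosure K T⁆ = Cfsg.conjClosure K T := by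
  refine le_antisymm (commutator_le_self _) (iSup_le fun s => ?_)
  rw [← Components.Basic.component_commutator_self (Components.Basic.component_conj hK (s : A))]
  exact commutator_mono (le_iSup (fun s : T => K.map (MulAut.conj (s : A)).toMonoidHom) s)
    (le_iSup (fun s : T => K.map (MulAut.conj (s : A)).toMonoidHom) s)

theorem conjClosure_centralizes {K T N : Subgroup A} (hK : Cfsg.IsComponent K) (hN : Group.IsSolvable N)
    (hn : Cfsg.conjClosure K T ≤ normalizer (N : Set A)) :
    Cfsg.conjClosure K T ≤ centralizer (N : Set A) :=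
  iSup_le fun s => commutator_eq_bot_iff_le_centralizer.1
    (Components.Basic.component_commutator_eq_bot_of_le_normalizer (Components.Basic.component_conj hK (s : A))
      hN ((le_iSup (fun s : T => K.map (MulAut.conj (s : A)).toMonoidHom) s).trans hn))

namespace Shape

variable {p : ℕ} {P T : Subgroup A}

omit [Finite A] in
theorem not_cyclic_mod (h : Shape p P T) {D : Subgroup A} (hD : D ≤ ⁅P, P⁆) {π : A} (hπ : π ∈ P) :
    ¬ P ≤ zpowers π ⊔ D := by
  intro hle
  haveI := Fact.mk h.prime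
  haveI : Finite P := Nat.finite_of_card_ne_zero (by
    intro h0
    have hr := h.index
    have hd := Subgroup.relIndex_dvd_card (⁅P, P⁆ : Subgroup A) P
    have := h.derived_card
    by_cases hc : Nat.card ↥(⁅P, P⁆ : Subgroup A) = 0
    · rw [hc] at this; exact h.prime.ne_zero (zero_dvd_iff.1 this)
    · rw [← card_mul_relIndex_of_le h.derived_le, hr] at h0
      exact hc ((Nat.mul_eq_zero.1 h0).resolve_right (pow_ne_zero 2 h.prime.ne_zero)))
  haveI : Group.IsNilpotent P := h.isPGroup.isNilpotent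
  have hsup : zpowers π ⊔ ⁅P, P⁆ = P :=
    le_antisymm (sup_le (zpowers_le.2 hπ) h.derived_le) (hle.trans (sup_le_sup_left hD _))
  have hn : zpowers π ≤ normalizer ((⁅P, P⁆ : Subgroup A) : Set A) := by
    rw [zpowers_le]
    exact centralizer_le_normalizer _ (mem_centralizer_iff.2 fun d hd =>
      (mem_centralizer_iff.1 (h.central hd) π hπ).symm)
  have hcoe : (P : Set A) = (zpowers π : Set A) * ((⁅P, P⁆ : Subgroup A) : Set A) := by
    rw [← coe_mul_of_left_le_normalizer_right _ _ hn, hsup]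
  have hcard : Nat.card P ≤ Nat.card (zpowers π) * Nat.card (⁅P, P⁆ : Subgroup A) :=
    calc Nat.card P = Nat.card ((P : Set A) : Set A) := rfl
      _ ≤ _ := by rw [hcoe]; exact Set.natCard_mul_le
  rw [← card_mul_relIndex_of_le h.derived_le, h.index, Nat.card_zpowers] at hcard
  have hπp : orderOf π ≤ p :=
    Nat.le_of_dvd h.prime.pos (orderOf_dvd_of_pow_eq_one (h.exp π hπ))
  have hpos : 0 < Nat.card (⁅P, P⁆ : Subgroup A) := Nat.pos_of_ne_zero fun h0 => by
    have := h.derived_card
    rw [h0] at this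
    exact h.prime.ne_zero (zero_dvd_iff.1 this)
  have h2 : Nat.card (⁅P, P⁆ : Subgroup A) * p ^ 2 ≤ Nat.card (⁅P, P⁆ : Subgroup A) * p :=
    hcard.trans (by rw [mul_comm (Nat.card _) p]; exact Nat.mul_le_mul_right _ hπp)
  have h3 := Nat.le_of_mul_le_mul_left h2 hpos
  nlinarith [h.prime.two_le]

/-- Inner on commuting factors: an elementary subgroup of order `p ^ 2` in a factor. -/
theorem exists_square_factor (h : Shape p P T) {X C : Subgroup A} (hXC : X ≤ centralizer (C : Set A))
    (hP : P ≤ X ⊔ C) (hPC : P ⊓ C ≤ ⁅P, P⁆) :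
    ∃ E ≤ X, (∀ a ∈ E, ∀ b ∈ E, a * b = b * a) ∧ (∀ a ∈ E, a ^ p = 1) ∧ p ^ 2 ≤ Nat.card E := by
  classical
  haveI := Fact.mk h.prime
  have hXn : X ≤ normalizer (C : Set A) := hXC.trans (centralizer_le_normalizer _)
  have hsupn : X ⊔ C ≤ normalizer (C : Set A) := sup_le hXn le_normalizer
  set H := P ⊔ C
  have hH : H ≤ normalizer (C : Set A) := sup_le (hP.trans hsupn) le_normalizer
  haveI : (C.subgroupOf H).Normal := normal_subgroupOf_of_le_normalizer hH
  set Xk := H ⊓ X
  let ψ : Xk →* H ⧸ C.subgroupOf H :=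
    (QuotientGroup.mk' (C.subgroupOf H)).comp (Subgroup.inclusion inf_le_left)
  have hψ : Function.Surjective ψ := by
    intro q
    obtain ⟨g, rfl⟩ := QuotientGroup.mk'_surjective _ q
    have hg : (g : A) ∈ X ⊔ C := (sup_le hP le_sup_right) g.2
    rw [← SetLike.mem_coe, coe_mul_of_left_le_normalizer_right _ _ hXn] at hg
    obtain ⟨a, ha, c, hc, hac⟩ := hg
    have hac' : a * c = (g : A) := hac
    have haH : a ∈ H := by
      rw [show a = (g : A) * c⁻¹ by rw [← hac', mul_inv_cancel_right]]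
      exact mul_mem g.2 (Subgroup.inv_mem _ (mem_sup_right hc))
    refine ⟨⟨a, haH, ha⟩, QuotientGroup.eq.2 ?_⟩
    show a⁻¹ * (g : A) ∈ C
    rw [← hac', inv_mul_cancel_left]; exact hc
  have hpq : IsPGroup p (H ⧸ C.subgroupOf H) := by
    intro q
    obtain ⟨g, rfl⟩ := QuotientGroup.mk'_surjective _ q
    have hg : (g : A) ∈ (P : Set A) * (C : Set A) := by
      rw [← coe_mul_of_left_le_normalizer_right _ _ (hP.trans hsupn)]; exact g.2
    obtain ⟨a, ha, c, hc, hac⟩ := hg
    refine ⟨1, ?_⟩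
    have e : QuotientGroup.mk' (C.subgroupOf H) g =
        QuotientGroup.mk' (C.subgroupOf H) ⟨a, mem_sup_left ha⟩ := (QuotientGroup.eq.2 (by
      show a⁻¹ * (g : A) ∈ C
      rw [← show a * c = (g : A) from hac, inv_mul_cancel_left]; exact hc)).symm
    rw [e, pow_one, ← map_pow,
      show (⟨a, mem_sup_left ha⟩ : H) ^ p = 1 from Subtype.ext (h.exp a ha), map_one]
  obtain ⟨S⟩ : Nonempty (Sylow p Xk) := inferInstance
  have htop : (S.mapSurjective hψ : Subgroup (H ⧸ C.subgroupOf H)) = ⊤ :=
    (S.mapSurjective hψ).is_maximal' (hpq.to_subgroup ⊤) le_top |>.symm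
  have hS : ¬ IsCyclic S := by
    intro hc
    haveI : IsCyclic ((S : Subgroup Xk).map ψ) :=
      isCyclic_of_surjective _ (ψ.subgroupMap_surjective (S : Subgroup Xk))
    haveI : IsCyclic (H ⧸ C.subgroupOf H) := by
      rw [Sylow.coe_mapSurjective] at htop
      rw [htop] at *
      exact (Subgroup.topEquiv.isCyclic).mp (by assumption)
    let φ : P →* H ⧸ C.subgroupOf H :=
      (QuotientGroup.mk' (C.subgroupOf H)).comp (Subgroup.inclusion le_sup_left)
    obtain ⟨⟨_, π, rfl⟩, hgen⟩ := IsCyclic.exists_generator (α := φ.range)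
    refine h.not_cyclic_mod (D := P ⊓ C) hPC π.2 fun x hx => ?_
    obtain ⟨m, hm⟩ := hgen ⟨φ ⟨x, hx⟩, ⟨_, rfl⟩⟩
    have hm' : φ (π ^ m) = φ ⟨x, hx⟩ := by
      rw [map_zpow]; exact congrArg Subtype.val hm
    have h0 := QuotientGroup.eq.1 hm'
    have h1 : ((π : A) ^ m)⁻¹ * x ∈ C := h0
    rw [show x = (π : A) ^ m * (((π : A) ^ m)⁻¹ * x) by group]
    exact mul_mem_sup (zpow_mem (mem_zpowers _) m)
      ⟨P.mul_mem (P.inv_mem (P.zpow_mem π.2 m)) hx, h1⟩
  obtain ⟨E, -, -, ⟨hEc, hEp⟩, hEcard⟩ :=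
    PLocal.CyclicExtension.exists_normal_elementaryAbelian_sq h.odd S.isPGroup' ⊤
      (fun hc => hS ((Subgroup.topEquiv.isCyclic).mp hc))
  set ι := Xk.subtype.comp (S : Subgroup Xk).subtype
  have hι : Function.Injective ι := Xk.subtype_injective.comp (S : Subgroup Xk).subtype_injective
  refine ⟨E.map ι, ?_, ?_, ?_, ?_⟩
  · rintro _ ⟨e, -, rfl⟩
    exact (e : Xk).2.2
  · rintro _ ⟨a, ha, rfl⟩ _ ⟨b, hb, rfl⟩
    rw [← map_mul, ← map_mul]
    exact congrArg ι (congrArg Subtype.val (hEc.is_comm.comm (⟨a, ha⟩ : E) ⟨b, hb⟩))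
  · rintro _ ⟨a, ha, rfl⟩
    rw [← map_pow, hEp a ha, map_one]
  · rw [card_map_of_injective hι, hEcard]

/-- Inducing inner automorphisms on `X` means lying in it or centralising it. -/
theorem le_of_inner (hA : RankTwo A) (h : Shape p P T) {X : Subgroup A}
    (hTX : T ≤ normalizer (X : Set A)) (hP : P ≤ X ⊔ centralizer (X : Set A)) :
    P ≤ X ∨ P ≤ centralizer (X : Set A) := by
  by_contra hcon
  push Not at hcon
  set C := centralizer (X : Set A)
  have hTC : ∀ t ∈ T, ∀ d ∈ C, t * d * t⁻¹ ∈ C := fun t ht d hd => by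
    refine mem_centralizer_iff.2 fun y hy => ?_
    have hy' := conj_mem_of_normalizer hTX (inv_mem ht) hy
    rw [inv_inv] at hy'
    calc y * (t * d * t⁻¹) = t * (t⁻¹ * y * t * d) * t⁻¹ := by group
      _ = t * (d * (t⁻¹ * y * t)) * t⁻¹ := by rw [mem_centralizer_iff.1 hd _ hy']
      _ = t * d * t⁻¹ * y := by group
  have hPX : P ⊓ X ≤ ⁅P, P⁆ := (h.sub_cases (D := P ⊓ X) inf_le_left fun t ht d hd =>
    ⟨conj_mem_of_normalizer h.normalizes ht hd.1, conj_mem_of_normalizer hTX ht hd.2⟩).resolve_right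
      fun e => hcon.1 (e.ge.trans inf_le_right)
  have hPC : P ⊓ C ≤ ⁅P, P⁆ := (h.sub_cases (D := P ⊓ C) inf_le_left fun t ht d hd =>
    ⟨conj_mem_of_normalizer h.normalizes ht hd.1, hTC t ht d hd.2⟩).resolve_right
      fun e => hcon.2 (e.ge.trans inf_le_right)
  have hXC : X ≤ centralizer (C : Set A) := fun x hx =>
    mem_centralizer_iff.2 fun c hc => (mem_centralizer_iff.1 hc x hx).symm
  obtain ⟨E, hEX, hEc, hEp, hE⟩ := h.exists_square_factor (C := C) hXC hP hPC
  obtain ⟨F, hFC, hFc, hFp, hF⟩ := h.exists_square_factor (X := C) (C := X) le_rfl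
    (by rwa [sup_comm]) hPX
  have hFE : F ≤ E := fun f hf => mem_of_commute hA h.prime h.odd hEc hEp hE (hFp f hf)
    fun a ha => (mem_centralizer_iff.1 (hFC hf) a (hEX ha)).symm
  refine hcon.2 fun x hx => hFC (mem_of_commute hA h.prime h.odd hFc hFp hF (h.exp x hx) fun a ha => ?_)
  have hle : X ⊔ C ≤ centralizer ({a} : Set A) := sup_le
    (fun z hz => mem_centralizer_singleton_iff.2 (mem_centralizer_iff.1 (hFC ha) z hz))
    (fun z hz => mem_centralizer_singleton_iff.2 (mem_centralizer_iff.1 hz a (hEX (hFE ha))).symm)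
  exact mem_centralizer_singleton_iff.1 (hle (hP hx))

end Shape

end Cfsg.Agent.QTXi
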