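import Cfsg.Agent.Lib.Coprime.PGroup
import Cfsg.Prelude.Def_CaseTheorems
import Mathlib

/-!
# Irreducible pairs

A `p`-group `P` of type `p ^ 2` or `p ^ (1 + 2)`, of exponent `p`, with a subgroup `T` of its normaliser
irreducible on `P / ⁅P, P⁆`: the local configuration of a member of `Ξ`.
-/

set_option autoImplicit false

namespace Cfsg.Agent.QTXi

open Subgroup

universe u

variable {A : Type u} [Group A]

/-- Every odd prime has rank at most two. -/
def RankTwo (A : Type u) [Group A] : Prop :=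
  ∀ r : ℕ, r.Prime → r ≠ 2 → Cfsg.PRankLE r 2 A

/-- An irreducible pair. -/
structure Shape (p : ℕ) (P T : Subgroup A) : Prop where
  prime : p.Prime
  odd : p ≠ 2
  exp : ∀ x ∈ P, x ^ p = 1
  index : (⁅P, P⁆ : Subgroup A).relIndex P = p ^ 2
  derived_card : Nat.card ↥(⁅P, P⁆ : Subgroup A) ∣ p
  central : ⁅P, P⁆ ≤ centralizer (P : Set A)
  normalizes : T ≤ normalizer (P : Set A)
  irr : ∀ D : Subgroup A, ⁅P, P⁆ ≤ D → D ≤ P → (∀ t ∈ T, ∀ d ∈ D, t * d * t⁻¹ ∈ D) →
    D = ⁅P, P⁆ ∨ D = P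

namespace Shape

variable {p : ℕ} {P T : Subgroup A}

theorem derived_le (_h : Shape p P T) : ⁅P, P⁆ ≤ P := commutator_le_self P

theorem isPGroup (h : Shape p P T) : IsPGroup p P :=
  fun x => ⟨1, by rw [pow_one]; exact Subtype.ext (h.exp x x.2)⟩

theorem derived_mem (h : Shape p P T) {t x : A} (ht : t ∈ T) (hx : x ∈ (⁅P, P⁆ : Subgroup A)) :
    t * x * t⁻¹ ∈ (⁅P, P⁆ : Subgroup A) := by
  have hP := h.normalizes ht
  have : (MulAut.conj t).toMonoidHom x ∈ (⁅P, P⁆ : Subgroup A).map (MulAut.conj t).toMonoidHom :=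
    mem_map_of_mem _ hx
  rw [map_commutator, mem_normalizer_iff_conj_image_eq.1 hP |> fun e =>
    show P.map (MulAut.conj t).toMonoidHom = P from SetLike.coe_injective e] at this
  exact this

/-- An invariant subgroup of `P` is small or everything. -/
theorem sub_cases [Finite A] (h : Shape p P T) {D : Subgroup A} (hD : D ≤ P)
    (hinv : ∀ t ∈ T, ∀ d ∈ D, t * d * t⁻¹ ∈ D) : D ≤ ⁅P, P⁆ ∨ D = P := by
  haveI : Fact p.Prime := ⟨h.prime⟩
  have hinv' : ∀ t ∈ T, ∀ d ∈ D ⊔ ⁅P, P⁆, t * d * t⁻¹ ∈ D ⊔ ⁅P, P⁆ := by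
    intro t ht
    have hle : D ⊔ ⁅P, P⁆ ≤ (D ⊔ ⁅P, P⁆).comap (MulAut.conj t).toMonoidHom :=
      sup_le (fun d hd => mem_sup_left (hinv t ht d hd))
        (fun d hd => mem_sup_right (h.derived_mem ht hd))
    exact fun d hd => hle hd
  rcases h.irr _ le_sup_right (sup_le hD h.derived_le) hinv' with e | e
  · exact Or.inl (le_sup_left.trans e.le)
  · haveI : Group.IsNilpotent P := h.isPGroup.isNilpotent
    exact Or.inr (Coprime.eq_of_le_of_sup_commutator_eq hD e)

/-- Only the action on `P` matters. -/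
theorem transfer (h : Shape p P T) {T' : Subgroup A} (hn : T' ≤ normalizer (P : Set A))
    (hT : ∀ t ∈ T, ∃ n ∈ T', ∀ x ∈ P, n * x * n⁻¹ = t * x * t⁻¹) : Shape p P T' :=
  { h with
    normalizes := hn
    irr := fun D h1 h2 h3 => h.irr D h1 h2 fun t ht d hd => by
      obtain ⟨n, hn', hnx⟩ := hT t ht
      rw [← hnx d (h2 hd)]
      exact h3 n hn' d hd }

end Shape

end Cfsg.Agent.QTXi
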