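import Cfsg.Agent.Lib.Coprime.Generation
import Cfsg.Agent.Lib.Coprime.Commutator
import Mathlib

/-!
# Fixed point pieces of an elementary abelian group of odd order on an abelian 2-group

The fixed points of pairwise independent commuting elements are independent, a fixed point free element
of odd order bounds the group by the square of the index of the fixed points of an element inverting
it, and a fixed point free element of order `p` makes the order congruent to `1` modulo `p`.
-/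

set_option autoImplicit false
set_option linter.unusedSectionVars false
set_option linter.style.haveILetI false

namespace Cfsg.Agent.QTXi.Pieces

open Subgroup
open scoped commutatorElement

universe u

variable {G : Type u} [Group G]

/-- The fixed points of `e` in `U`. -/
abbrev piece (U : Subgroup G) (e : G) : Subgroup G := U ⊓ centralizer ({e} : Set G)

theorem mem_piece {U : Subgroup G} {e v : G} : v ∈ piece U e ↔ v ∈ U ∧ e * v = v * e := by
  rw [Subgroup.mem_inf, mem_centralizer_singleton_iff]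
  exact and_congr_right fun _ => ⟨fun h => h.symm, fun h => h.symm⟩

/-- Elements commuting on `U` respect each other's fixed points. -/
theorem conj_mem_piece {U : Subgroup G} {e f v : G} (hf : f ∈ normalizer (U : Set G))
    (hc : ⁅f, e⁆ ∈ centralizer (U : Set G)) (hv : v ∈ piece U e) : f * v * f⁻¹ ∈ piece U e := by
  obtain ⟨hvU, hev⟩ := mem_piece.1 hv
  have hw : f * v * f⁻¹ ∈ U := (mem_normalizer_iff.1 hf v).1 hvU
  have h1 := mem_centralizer_iff.1 hc _ hw
  refine mem_piece.2 ⟨hw, ?_⟩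
  calc e * (f * v * f⁻¹) = ⁅f, e⁆⁻¹ * (f * (e * v) * f⁻¹ * (f * e⁻¹ * f⁻¹)) * ⁅f, e⁆ * e := by
        simp only [commutatorElement_def]; group
    _ = ⁅f, e⁆⁻¹ * (f * (v * e) * f⁻¹ * (f * e⁻¹ * f⁻¹)) * ⁅f, e⁆ * e := by rw [hev]
    _ = ⁅f, e⁆⁻¹ * (f * v * f⁻¹ * ⁅f, e⁆) * e := by simp only [commutatorElement_def]; group
    _ = ⁅f, e⁆⁻¹ * (⁅f, e⁆ * (f * v * f⁻¹)) * e := by rw [h1]
    _ = _ := by group

variable {ι : Type*}

/-- The join of some pieces. -/
abbrev join (U : Subgroup G) (e : ι → G) (t : Finset ι) : Subgroup G := t.sup fun i => piece U (e i)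

theorem join_le (U : Subgroup G) (e : ι → G) (t : Finset ι) : join U e t ≤ U :=
  Finset.sup_le fun _ _ => inf_le_left

theorem conj_mem_join {U : Subgroup G} (e : ι → G) (t : Finset ι) {f : G}
    (h : ∀ i ∈ t, ∀ v ∈ piece U (e i), f * v * f⁻¹ ∈ join U e t) {v : G} (hv : v ∈ join U e t) :
    f * v * f⁻¹ ∈ join U e t := by
  have hle : join U e t ≤ (join U e t).comap (MulAut.conj f).toMonoidHom :=
    Finset.sup_le fun i hi v hv => h i hi v hv
  exact hle hv

variable [Finite G]

/-- Pieces of pairwise independent commuting elements are independent. -/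
theorem independent {U : Subgroup G} (hUc : ∀ a ∈ U, ∀ b ∈ U, a * b = b * a) (e : ι → G) (s : Finset ι)
    (hn : ∀ i ∈ s, e i ∈ normalizer (U : Set G))
    (hc : ∀ i ∈ s, ∀ j ∈ s, ⁅e i, e j⁆ ∈ centralizer (U : Set G))
    (hd : ∀ i ∈ s, ∀ j ∈ s, i ≠ j → piece U (e i) ⊓ piece U (e j) = ⊥) :
    ∀ t : Finset ι, t ⊆ s → ∀ i ∈ s, i ∉ t → piece U (e i) ⊓ join U e t = ⊥ := by
  classical
  intro t
  induction t using Finset.induction_on with
  | empty => intro _ i _ _; simp [join]
  | @insert j t hjt ih =>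
    intro hts i hi hit
    rw [Finset.mem_insert, not_or] at hit
    have hj : j ∈ s := hts (Finset.mem_insert_self j t)
    have hts' : t ⊆ s := fun k hk => hts (Finset.mem_insert_of_mem hk)
    refine (Subgroup.eq_bot_iff_forall _).2 fun u hu => ?_
    obtain ⟨hui, hujoin⟩ := hu
    have hn' : join U e t ≤ normalizer (piece U (e j) : Set G) := fun a ha =>
      centralizer_le_normalizer _ (mem_centralizer_iff.2 fun b hb =>
        hUc b (mem_piece.1 hb).1 a (join_le U e t ha))
    have hu' : u ∈ piece U (e j) ⊔ join U e t := by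
      change u ∈ (insert j t).sup (fun k => piece U (e k)) at hujoin
      rwa [Finset.sup_insert] at hujoin
    rw [← SetLike.mem_coe, coe_mul_of_right_le_normalizer_left _ _ hn'] at hu'
    obtain ⟨a, ha, b, hb, hab⟩ := hu'
    obtain ⟨huU, -⟩ := mem_piece.1 hui
    have hδ : e j * u * (e j)⁻¹ * u⁻¹ = e j * b * (e j)⁻¹ * b⁻¹ := by
      rw [show u = a * b from hab.symm]
      calc e j * (a * b) * (e j)⁻¹ * (a * b)⁻¹
          = e j * a * (e j)⁻¹ * (e j * b * (e j)⁻¹ * b⁻¹) * a⁻¹ := by group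
        _ = a * (e j * b * (e j)⁻¹ * b⁻¹) * a⁻¹ := by
            rw [(mem_piece.1 ha).2, mul_inv_cancel_right]
        _ = _ := by
            rw [hUc a (mem_piece.1 ha).1 _ (mul_mem ((mem_normalizer_iff.1 (hn j hj) b).1 (join_le U e t hb))
              (Subgroup.inv_mem _ (join_le U e t hb))), mul_inv_cancel_right]
    have h1 : e j * u * (e j)⁻¹ * u⁻¹ = 1 := by
      refine Subgroup.mem_bot.1 (ih hts' i hi hit.2 ▸ Subgroup.mem_inf.2 ⟨?_, ?_⟩)
      · exact mul_mem (conj_mem_piece (hn j hj) (hc j hj i hi) hui) (Subgroup.inv_mem _ hui)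
      · rw [hδ]
        exact mul_mem (conj_mem_join e t (fun k hk v hv =>
          Finset.le_sup (f := fun i => piece U (e i)) hk (conj_mem_piece (hn j hj) (hc j hj k (hts' hk)) hv))
          hb) (Subgroup.inv_mem _ hb)
    have h2 : u ∈ piece U (e i) ⊓ piece U (e j) :=
      ⟨hui, mem_piece.2 ⟨huU, mul_inv_eq_iff_eq_mul.1 (mul_inv_eq_one.1 h1)⟩⟩
    rw [hd i hi j hj hit.1] at h2
    exact Subgroup.mem_bot.1 h2

/-- The order of a join of independent pieces. -/
theorem card_join {U : Subgroup G} (hUc : ∀ a ∈ U, ∀ b ∈ U, a * b = b * a) (e : ι → G) (s : Finset ι)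
    (hn : ∀ i ∈ s, e i ∈ normalizer (U : Set G))
    (hc : ∀ i ∈ s, ∀ j ∈ s, ⁅e i, e j⁆ ∈ centralizer (U : Set G))
    (hd : ∀ i ∈ s, ∀ j ∈ s, i ≠ j → piece U (e i) ⊓ piece U (e j) = ⊥) :
    ∀ t : Finset ι, t ⊆ s → Nat.card (join U e t) = ∏ i ∈ t, Nat.card (piece U (e i)) := by
  classical
  intro t
  induction t using Finset.induction_on with
  | empty => intro _; simp [join]
  | @insert j t hjt ih =>
    intro hts
    have hts' : t ⊆ s := fun k hk => hts (Finset.mem_insert_of_mem hk)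
    rw [Finset.prod_insert hjt, ← ih hts']
    show Nat.card ↥((insert j t).sup fun k => piece U (e k)) = _
    rw [Finset.sup_insert]
    refine Coprime.card_sup_of_disjoint (fun a ha => centralizer_le_normalizer _
      (mem_centralizer_iff.2 fun b hb => hUc b (mem_piece.1 hb).1 a (join_le U e t ha))) ?_
    rw [disjoint_iff]
    exact independent hUc e s hn hc hd t hts' j (hts (Finset.mem_insert_self j t)) hjt

/-- The bound from an element inverting a fixed point free one. -/
theorem card_le_sq {V W : Subgroup G} (hWV : W ≤ V) (hWc : ∀ a ∈ W, ∀ b ∈ W, a * b = b * a) {a x : G}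
    (hxW : x ∈ normalizer (W : Set G))
    (hinv : ∀ w ∈ W, a * x * a⁻¹ * w * (a * x * a⁻¹)⁻¹ = x⁻¹ * w * x)
    (hfix : ∀ w ∈ W, x * x * w = w * (x * x) → w = 1) :
    Nat.card W ≤ ((piece V a).relIndex V) ^ 2 := by
  have hmem : ∀ d ∈ piece W a, x * d * x⁻¹ ∈ W := fun d hd =>
    (mem_normalizer_iff.1 hxW d).1 (mem_piece.1 hd).1
  have hinj : Function.Injective (fun q : piece W a × piece W a =>
      (⟨(q.1 : G) * (x * q.2 * x⁻¹), mul_mem (mem_piece.1 q.1.2).1 (hmem _ q.2.2)⟩ : W)) := by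
    rintro ⟨c, d⟩ ⟨c', d'⟩ h
    have h' : (c : G) * (x * d * x⁻¹) = c' * (x * d' * x⁻¹) := congrArg Subtype.val h
    have hce : (c' : G)⁻¹ * c = x * ((d' : G) * (d : G)⁻¹) * x⁻¹ := by
      calc (c' : G)⁻¹ * c = (c' : G)⁻¹ * (c * (x * d * x⁻¹)) * (x * (d : G)⁻¹ * x⁻¹) := by group
        _ = (c' : G)⁻¹ * (c' * (x * d' * x⁻¹)) * (x * (d : G)⁻¹ * x⁻¹) := by rw [h']
        _ = _ := by group
    obtain ⟨k, hk⟩ : ∃ k, k = (d' : G) * (d : G)⁻¹ := ⟨_, rfl⟩
    rw [← hk] at hce
    have hkp : k ∈ piece W a := hk ▸ mul_mem d'.2 (Subgroup.inv_mem _ d.2)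
    obtain ⟨hkW, hka⟩ := mem_piece.1 hkp
    have hcp : (c' : G)⁻¹ * c ∈ piece W a := mul_mem (Subgroup.inv_mem _ c'.2) c.2
    have hca := (mem_piece.1 hcp).2
    rw [hce] at hca
    have e1 : x⁻¹ * k * x = x * k * x⁻¹ := by
      calc x⁻¹ * k * x = a * x * a⁻¹ * k * (a * x * a⁻¹)⁻¹ := (hinv k hkW).symm
        _ = a * x * (a⁻¹ * (k * a)) * x⁻¹ * a⁻¹ := by group
        _ = a * x * (a⁻¹ * (a * k)) * x⁻¹ * a⁻¹ := by rw [hka]
        _ = a * (x * k * x⁻¹) * a⁻¹ := by group
        _ = x * k * x⁻¹ := by rw [hca, mul_inv_cancel_right]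
    have hk1 : k = 1 := hfix k hkW (by
      calc x * x * k = x * (x * k * x⁻¹) * x := by group
        _ = x * (x⁻¹ * k * x) * x := by rw [e1]
        _ = _ := by group)
    rw [hk1, mul_one, mul_inv_cancel] at hce
    have hdd : d' = d := Subtype.ext (mul_inv_eq_one.1 (hk.symm.trans hk1))
    exact Prod.ext (Subtype.ext (inv_mul_eq_one.1 hce).symm) hdd.symm
  have hcard : Nat.card (piece W a) * Nat.card (piece W a) ≤ Nat.card W := by
    rw [← Nat.card_prod]
    exact Nat.card_le_card_of_injective _ hinj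
  have h1 : Nat.card (piece W a) * (piece W a).relIndex W = Nat.card W := by
    rw [← relIndex_bot_left, ← relIndex_bot_left, relIndex_mul_relIndex ⊥ _ W bot_le inf_le_left]
  have h2 : (piece W a).relIndex W ≤ (piece V a).relIndex V := by
    rw [show piece W a = piece V a ⊓ W by
      show W ⊓ _ = V ⊓ _ ⊓ W
      rw [inf_comm (V ⊓ _) W, ← inf_assoc, inf_eq_left.2 hWV], inf_relIndex_right]
    exact relIndex_le_of_le_right hWV index_ne_zero_of_finite
  have h3 : Nat.card (piece W a) ≤ (piece W a).relIndex W :=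
    Nat.le_of_mul_le_mul_left (hcard.trans h1.ge) Nat.card_pos
  calc Nat.card W = Nat.card (piece W a) * (piece W a).relIndex W := h1.symm
    _ ≤ (piece V a).relIndex V * (piece V a).relIndex V := Nat.mul_le_mul (h3.trans h2) h2
    _ = _ := (pow_two _).symm

/-- A fixed point free element of order `p` gives a congruence. -/
theorem card_modEq {W : Subgroup G} {x : G} {p : ℕ} [Fact p.Prime] (hx : x ^ p = 1)
    (hxW : x ∈ normalizer (W : Set G)) (hfix : ∀ w ∈ W, x * w = w * x → w = 1) :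
    Nat.card W % p = 1 := by
  set Z := zpowers x with hZ
  have hle : Z ≤ normalizer (W : Set G) := zpowers_le.2 hxW
  letI : MulAction Z W :=
    { smul := fun g w => ⟨(g : G) * w * (g : G)⁻¹, (mem_normalizer_iff.1 (hle g.2) w).1 w.2⟩
      one_smul := fun w => Subtype.ext (by show (1 : G) * w * (1 : G)⁻¹ = w; group)
      mul_smul := fun g g' w => Subtype.ext (by
        show ((g : G) * g') * w * ((g : G) * g')⁻¹ = g * (g' * w * (g' : G)⁻¹) * (g : G)⁻¹
        group) }
  have hp : IsPGroup p Z := fun g => ⟨1, by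
    obtain ⟨i, hi⟩ := mem_zpowers_iff.1 g.2
    refine Subtype.ext ?_
    rw [pow_one, SubgroupClass.coe_pow, ← hi, ← zpow_natCast, ← zpow_mul, mul_comm, zpow_mul,
      zpow_natCast, hx, one_zpow]
    rfl⟩
  have hmod := hp.card_modEq_card_fixedPoints (α := W)
  have hfp : MulAction.fixedPoints Z W = {1} := by
    ext w
    simp only [MulAction.mem_fixedPoints, Set.mem_singleton_iff]
    constructor
    · intro hw
      have := congrArg Subtype.val (hw ⟨x, mem_zpowers x⟩)
      exact Subtype.ext (hfix w w.2 (mul_inv_eq_iff_eq_mul.1 this))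
    · rintro rfl g
      exact Subtype.ext (by show (g : G) * 1 * (g : G)⁻¹ = 1; group)
  rw [hfp, Nat.card_coe_set_eq, Set.ncard_singleton] at hmod
  exact Eq.trans hmod (Nat.one_mod_eq_one.2 (Fact.out : p.Prime).ne_one)

/-- An involution inverting a fixed point free element has a square number of elements. -/
theorem exists_sq {W : Subgroup G} (hWc : ∀ a ∈ W, ∀ b ∈ W, a * b = b * a) (hW2 : ∀ w ∈ W, w * w = 1)
    {a x : G} (hxW : x ∈ normalizer (W : Set G)) (haW : a ∈ normalizer (W : Set G))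
    (ha2 : a * a ∈ centralizer (W : Set G))
    (hinv : ∀ w ∈ W, a * x * a⁻¹ * w * (a * x * a⁻¹)⁻¹ = x⁻¹ * w * x)
    (hfix : ∀ w ∈ W, x * x * w = w * (x * x) → w = 1) :
    ∃ c, Nat.card W = c ^ 2 := by
  refine ⟨(piece W a).relIndex W, le_antisymm (card_le_sq le_rfl hWc hxW hinv hfix) ?_⟩
  let δ : W →* W :=
    { toFun := fun w => ⟨a * w * a⁻¹ * (w : G)⁻¹,
        mul_mem ((mem_normalizer_iff.1 haW w).1 w.2) (Subgroup.inv_mem _ w.2)⟩
      map_one' := Subtype.ext (by simp)
      map_mul' := fun v w => Subtype.ext (by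
        show a * ((v : G) * w) * a⁻¹ * ((v : G) * w)⁻¹ =
          a * v * a⁻¹ * (v : G)⁻¹ * (a * w * a⁻¹ * (w : G)⁻¹)
        have e := hWc _ (mul_mem ((mem_normalizer_iff.1 haW w).1 w.2) (Subgroup.inv_mem _ w.2)) _
          (Subgroup.inv_mem _ v.2)
        calc a * ((v : G) * w) * a⁻¹ * ((v : G) * w)⁻¹
            = a * v * a⁻¹ * ((a * w * a⁻¹ * (w : G)⁻¹) * (v : G)⁻¹) := by group
          _ = a * v * a⁻¹ * ((v : G)⁻¹ * (a * w * a⁻¹ * (w : G)⁻¹)) := by rw [e]
          _ = _ := by group) }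
  have hker : δ.ker = (piece W a).subgroupOf W := by
    ext w
    rw [MonoidHom.mem_ker, mem_subgroupOf, mem_piece]
    exact ⟨fun h => ⟨w.2, mul_inv_eq_iff_eq_mul.1 (mul_inv_eq_one.1 (congrArg Subtype.val h))⟩,
      fun h => Subtype.ext (mul_inv_eq_one.2 (mul_inv_eq_iff_eq_mul.2 h.2))⟩
  have hr : (piece W a).relIndex W = Nat.card δ.range := by
    rw [← Subgroup.index_ker, hker]; rfl
  have hrange : Nat.card δ.range ≤ Nat.card (piece W a) := by
    refine Nat.card_le_card_of_injective (fun v => (⟨((v : W) : G), ?_⟩ : piece W a))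
      fun u v h => Subtype.ext (Subtype.ext (congrArg (fun z : piece W a => (z : G)) h))
    obtain ⟨w, hw⟩ := v.2
    refine mem_piece.2 ⟨(v : W).2, mul_inv_eq_iff_eq_mul.1 ?_⟩
    rw [← hw]
    show a * (a * w * a⁻¹ * (w : G)⁻¹) * a⁻¹ = a * w * a⁻¹ * (w : G)⁻¹
    have e1 : a * a * (w : G) * (a * a)⁻¹ = w := by
      rw [← mem_centralizer_iff.1 ha2 w w.2, mul_inv_cancel_right]
    have hd := hW2 _ (mul_mem ((mem_normalizer_iff.1 haW w).1 w.2) (Subgroup.inv_mem _ w.2))
    calc a * (a * w * a⁻¹ * (w : G)⁻¹) * a⁻¹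
        = a * a * (w : G) * (a * a)⁻¹ * (a * (w : G)⁻¹ * a⁻¹) := by group
      _ = (w : G) * (a * (w : G)⁻¹ * a⁻¹) := by rw [e1]
      _ = (a * w * a⁻¹ * (w : G)⁻¹)⁻¹ := by group
      _ = _ := inv_eq_of_mul_eq_one_left hd
  calc ((piece W a).relIndex W) ^ 2 = (piece W a).relIndex W * (piece W a).relIndex W := pow_two _
    _ ≤ Nat.card (piece W a) * (piece W a).relIndex W := Nat.mul_le_mul_right _ (hr ▸ hrange)
    _ = Nat.card W := by
      rw [← relIndex_bot_left, ← relIndex_bot_left, relIndex_mul_relIndex ⊥ _ W bot_le inf_le_left]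

end Cfsg.Agent.QTXi.Pieces
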