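import Cfsg.Agent.Lib.QTXi.Action
import Cfsg.Agent.Lib.QTXi.Pieces

/-!
# Small offenders force order five and two lines

If an irreducible pair with `p ≥ 5` acts nontrivially on an elementary abelian 2-group `V` and an
elementary 2-group of automorphisms `A` coming from `T` satisfies `|V : C_V(A)| ≤ |A| ^ 2`, then `p = 5`
and exactly two lines of `P / ⁅P, P⁆` have fixed points on `⁅V, P⁆`.
-/

set_option autoImplicit false
set_option linter.unusedSectionVars false
set_option linter.style.haveILetI false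

namespace Cfsg.Agent.QTXi

open Subgroup
open scoped commutatorElement

universe u

variable {G : Type u} [Group G] [Finite G]

namespace Offender

variable {P T₀ B V : Subgroup G}

theorem cent_conj {g d : G} (hg : g ∈ normalizer (V : Set G)) (hd : d ∈ centralizer (V : Set G)) :
    g * d * g⁻¹ ∈ centralizer (V : Set G) := by
  refine mem_centralizer_iff.2 fun v hv => ?_
  have hv' : g⁻¹ * v * g ∈ V := (mem_normalizer_iff''.1 hg v).1 hv
  calc v * (g * d * g⁻¹) = g * (g⁻¹ * v * g * d) * g⁻¹ := by group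
    _ = g * (d * (g⁻¹ * v * g)) * g⁻¹ := by rw [mem_centralizer_iff.1 hd _ hv']
    _ = _ := by group

omit [Finite G] in
theorem conj_mem_commutator {X Y : Subgroup G} {g u : G} (hX : g ∈ normalizer (X : Set G))
    (hY : g ∈ normalizer (Y : Set G)) (hu : u ∈ (⁅X, Y⁆ : Subgroup G)) :
    g * u * g⁻¹ ∈ (⁅X, Y⁆ : Subgroup G) := by
  have h1 : (⁅X, Y⁆ : Subgroup G).map (MulAut.conj g).toMonoidHom ≤ ⁅X, Y⁆ := by
    rw [map_commutator]
    refine commutator_mono ?_ ?_
    · rintro _ ⟨x, hx, rfl⟩; exact (mem_normalizer_iff.1 hX x).1 hx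
    · rintro _ ⟨x, hx, rfl⟩; exact (mem_normalizer_iff.1 hY x).1 hx
  exact h1 ⟨u, hu, rfl⟩

end Offender

/-- The setting. -/
structure OffBase (p : ℕ) (P T₀ B V : Subgroup G) : Prop where
  shape : Shape p P T₀
  vComm : ∀ u ∈ V, ∀ v ∈ V, u * v = v * u
  vSq : ∀ u ∈ V, u * u = 1
  pV : P ≤ normalizer (V : Set G)
  tV : T₀ ≤ normalizer (V : Set G)
  moved : ¬ P ≤ centralizer (V : Set G)
  faith : ∀ t ∈ T₀, t ∈ centralizer (P : Set G) → t ∈ centralizer (V : Set G)
  two : IsPGroup 2 T₀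
  bT : B ≤ T₀
  bSq : ∀ b ∈ B, b * b ∈ centralizer (V : Set G)
  bComm : ∀ b ∈ B, ∀ c ∈ B, ⁅b, c⁆ ∈ centralizer (V : Set G)
  bMoved : ¬ B ≤ centralizer (V : Set G)
  small : (V ⊓ centralizer (B : Set G)).relIndex V ≤ ((centralizer (V : Set G)).relIndex B) ^ 2

/-- The setting with derived group trivial on `V`. -/
structure Offender (p : ℕ) (P T₀ B V : Subgroup G) : Prop extends OffBase p P T₀ B V where
  derived : ⁅P, P⁆ ≤ centralizer (V : Set G)

namespace OffBase

open Pieces Offender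

variable {p : ℕ} {P T₀ B V : Subgroup G} (o : OffBase p P T₀ B V)

include o

theorem bP : B ≤ normalizer (P : Set G) := o.bT.trans o.shape.normalizes

theorem bV : B ≤ normalizer (V : Set G) := o.bT.trans o.tV

theorem vTwo : IsPGroup 2 V := fun v => ⟨1, Subtype.ext (by
  show (v : G) ^ (2 ^ 1) = 1
  rw [pow_one, pow_two]; exact o.vSq v v.2)⟩

theorem kernel_le {x : G} (hx : x ∈ P) (hxV : x ∈ centralizer (V : Set G)) :
    x ∈ (⁅P, P⁆ : Subgroup G) := by
  rcases o.shape.sub_cases (D := P ⊓ centralizer (V : Set G)) inf_le_left (fun t ht d hd =>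
    ⟨(mem_normalizer_iff.1 (o.shape.normalizes ht) d).1 hd.1, cent_conj (o.tV ht) hd.2⟩) with e | e
  · exact e ⟨hx, hxV⟩
  · exact absurd (e.ge.trans inf_le_right) o.moved

theorem trivial_on_P {t : G} (ht : t ∈ T₀) (htV : t ∈ centralizer (V : Set G)) :
    t ∈ centralizer (P : Set G) := by
  obtain ⟨n, hn⟩ := IsPGroup.iff_orderOf.1 o.two ⟨t, ht⟩
  rw [Subgroup.orderOf_mk] at hn
  refine o.shape.mem_centralizer_of_mod (m := 2 ^ n) (o.shape.normalizes ht) (fun x hx => ?_) ?_
    (((Nat.coprime_primes Nat.prime_two o.shape.prime).2 o.shape.odd.symm).pow_left n)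
  · refine o.kernel_le (mul_mem ((mem_normalizer_iff.1 (o.shape.normalizes ht) x).1 hx)
      (Subgroup.inv_mem _ hx)) ?_
    rw [show t * x * t⁻¹ * x⁻¹ = t * (x * t⁻¹ * x⁻¹) by group]
    exact mul_mem htV (cent_conj (o.pV hx) (Subgroup.inv_mem _ htV))
  · rw [← hn, pow_orderOf_eq_one]; exact one_mem _

theorem kern_eq : (centralizer (P : Set G)).relIndex B = (centralizer (V : Set G)).relIndex B := by
  rw [relIndex, relIndex]
  congr 1
  ext b
  rw [mem_subgroupOf, mem_subgroupOf]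
  exact ⟨o.faith _ (o.bT b.2), o.trivial_on_P (o.bT b.2)⟩

/-- The index of the fixed points of `B`. -/
theorem index_cases : (V ⊓ centralizer (B : Set G)).relIndex V ≤ 16 ∧
    ((V ⊓ centralizer (B : Set G)).relIndex V ≤ 4 ∨
      ∃ a ∈ B, a ∉ centralizer (P : Set G) ∧ ∀ w ∈ P, a * w * a⁻¹ * w ∈ (⁅P, P⁆ : Subgroup G)) := by
  obtain ⟨h4, h2⟩ := o.shape.two_group_cases o.bP
    (fun b hb => o.trivial_on_P (mul_mem (o.bT hb) (o.bT hb)) (o.bSq b hb))
    (fun b hb c hc => o.trivial_on_P (by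
      rw [commutatorElement_def]
      exact mul_mem (mul_mem (mul_mem (o.bT hb) (o.bT hc)) (Subgroup.inv_mem _ (o.bT hb)))
        (Subgroup.inv_mem _ (o.bT hc))) (o.bComm b hb c hc))
  rw [o.kern_eq] at h4 h2
  refine ⟨o.small.trans ((Nat.pow_le_pow_left h4 2).trans (by norm_num)), ?_⟩
  rcases h2 with h2 | h2
  · exact Or.inl (o.small.trans ((Nat.pow_le_pow_left h2 2).trans (by norm_num)))
  · exact Or.inr h2

theorem fix_of_sq {x w : G} (hx : x ^ p = 1) (h : x * x * w = w * (x * x)) : x * w = w * x := by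
  obtain ⟨m, hm⟩ := exists_pow_eq_self_of_coprime (n := 2) (x := x) (Nat.Coprime.coprime_dvd_right
    (orderOf_dvd_of_pow_eq_one hx)
    ((Nat.coprime_primes Nat.prime_two o.shape.prime).2 o.shape.odd.symm))
  rw [← hm, pow_two]
  exact (Commute.pow_left (h : Commute (x * x) w) m).eq

/-- An exactly inverted fixed point free element bounds the order. -/
theorem bound {a x : G} (ha : a ∈ B) (hinv : a * x * a⁻¹ = x⁻¹) (hx : x ^ p = 1) {W : Subgroup G}
    (hWV : W ≤ V) (hxW : x ∈ normalizer (W : Set G)) (hfix : ∀ w ∈ W, x * w = w * x → w = 1) :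
    Nat.card W ≤ ((V ⊓ centralizer (B : Set G)).relIndex V) ^ 2 := by
  refine (card_le_sq hWV (fun u hu v hv => o.vComm u (hWV hu) v (hWV hv)) hxW
    (fun w _ => by rw [hinv, inv_inv]) (fun w hw h => hfix w hw (o.fix_of_sq hx h))).trans
    (Nat.pow_le_pow_left (relIndex_le_of_le_left ?_ index_ne_zero_of_finite) 2)
  exact inf_le_inf_left _ (centralizer_le (Set.singleton_subset_iff.2 ha))

theorem eight_le (h5 : 5 ≤ p) {x : G} (hx : x ^ p = 1) {W : Subgroup G} (hWV : W ≤ V)
    (hxW : x ∈ normalizer (W : Set G)) (hfix : ∀ w ∈ W, x * w = w * x → w = 1) (hne : W ≠ ⊥) :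
    8 ≤ Nat.card W := by
  haveI := Fact.mk o.shape.prime
  haveI : Fact (Nat.Prime 2) := ⟨Nat.prime_two⟩
  have hmod := card_modEq hx hxW hfix
  obtain ⟨n, hn⟩ := IsPGroup.iff_card.1 (o.vTwo.to_le hWV)
  have h1 := (Subgroup.one_lt_card_iff_ne_bot W).2 hne
  rw [hn] at hmod h1 ⊢
  rcases Nat.lt_or_ge n 3 with h3 | h3
  · interval_cases n
    · simp at h1
    · rw [Nat.mod_eq_of_lt (by omega : 2 ^ 1 < p)] at hmod; omega
    · rw [Nat.mod_eq_of_lt (by omega : 2 ^ 2 < p)] at hmod; omega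
  · exact le_of_eq_of_le (by norm_num : (8 : ℕ) = 2 ^ 3) (Nat.pow_le_pow_right (by norm_num) h3)

theorem sixteen_le (hp5 : 5 ≤ p) {a x : G} (ha : a ∈ B) (hinv : a * x * a⁻¹ = x⁻¹) (hx : x ^ p = 1) {W : Subgroup G}
    (hWV : W ≤ V) (hxW : x ∈ normalizer (W : Set G)) (haW : a ∈ normalizer (W : Set G))
    (hfix : ∀ w ∈ W, x * w = w * x → w = 1) (hne : W ≠ ⊥) :
    16 ≤ Nat.card W ∧ (p ≠ 5 → 64 ≤ Nat.card W) := by
  haveI := Fact.mk o.shape.prime
  haveI : Fact (Nat.Prime 2) := ⟨Nat.prime_two⟩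
  have h8 := o.eight_le hp5 hx hWV hxW hfix hne
  have hmod := card_modEq hx hxW hfix
  obtain ⟨c, hc⟩ := exists_sq (fun u hu v hv => o.vComm u (hWV hu) v (hWV hv))
    (fun w hw => o.vSq w (hWV hw)) hxW haW (centralizer_le hWV (o.bSq a ha))
    (fun w _ => by rw [hinv, inv_inv]) (fun w hw h => hfix w hw (o.fix_of_sq hx h))
  obtain ⟨n, hn⟩ := IsPGroup.iff_card.1 (o.vTwo.to_le hWV)
  obtain ⟨j, -, hj⟩ := (Nat.dvd_prime_pow Nat.prime_two).1
    (show c ∣ 2 ^ n by rw [← hn, hc]; exact dvd_pow_self c two_ne_zero)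
  rw [hc, hj, ← pow_mul] at h8 hmod ⊢
  have hj2 : 2 ≤ j := by
    by_contra hlt
    have h4 := Nat.pow_le_pow_right (by norm_num : 0 < 2) (by omega : j * 2 ≤ 2)
    omega
  refine ⟨le_of_eq_of_le (by norm_num : (16 : ℕ) = 2 ^ 4) (Nat.pow_le_pow_right (by norm_num) (by omega)),
    fun h5 => ?_⟩
  rcases Nat.lt_or_ge j 3 with h3 | h3
  · exfalso
    obtain rfl : j = 2 := by omega
    have hd : p ∣ 3 * 5 := by
      refine ⟨2 ^ (2 * 2) / p, ?_⟩
      have := Nat.div_add_mod (2 ^ (2 * 2)) p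
      rw [hmod] at this
      norm_num at this ⊢
      omega
    rcases o.shape.prime.dvd_mul.1 hd with e | e
    · have := Nat.le_of_dvd (by norm_num) e
      omega
    · exact h5 ((Nat.prime_dvd_prime_iff_eq o.shape.prime Nat.prime_five).1 e)
  · exact le_of_eq_of_le (by norm_num : (64 : ℕ) = 2 ^ 6) (Nat.pow_le_pow_right (by norm_num) (by omega))

theorem coprime_V {E : Subgroup G} (hE : E ≤ P) : (Nat.card E).Coprime (Nat.card V) := by
  haveI := Fact.mk o.shape.prime
  haveI : Fact (Nat.Prime 2) := ⟨Nat.prime_two⟩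
  obtain ⟨i, hi⟩ := IsPGroup.iff_card.1 (o.shape.isPGroup.to_le hE)
  obtain ⟨j, hj⟩ := IsPGroup.iff_card.1 o.vTwo
  rw [hi, hj]
  exact Nat.Coprime.pow i j ((Nat.coprime_primes o.shape.prime Nat.prime_two).2 o.shape.odd)

theorem commutator_le_V {E : Subgroup G} (hE : E ≤ P) : ⁅V, E⁆ ≤ V :=
  Coprime.commutator_le_of_le_normalizer (hE.trans o.pV)

theorem fixed_free {E : Subgroup G} (hE : E ≤ P) {u : G} (hu : u ∈ (⁅V, E⁆ : Subgroup G))
    (hc : u ∈ centralizer (E : Set G)) : u = 1 := by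
  haveI : IsMulCommutative V := ⟨⟨fun a b => Subtype.ext (o.vComm a a.2 b b.2)⟩⟩
  have h1 := Coprime.inf_centralizer_inf_commutator (hE.trans o.pV) (o.coprime_V hE)
  exact Subgroup.mem_bot.1 (h1.le ⟨⟨o.commutator_le_V hE hu, hc⟩, hu⟩)

/-- The derived group centralises `V`. -/
theorem derived_le (h5 : 5 ≤ p) : ⁅P, P⁆ ≤ centralizer (V : Set G) := by
  classical
  by_contra hZ
  set S := o.shape
  haveI := Fact.mk S.prime
  have hbot : (⁅P, P⁆ : Subgroup G) ≠ ⊥ := fun e => hZ (by rw [e]; exact bot_le)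
  have hd : Nat.card ↥(⁅P, P⁆ : Subgroup G) = p :=
    ((Nat.dvd_prime S.prime).1 S.derived_card).resolve_left fun e => hbot (Subgroup.eq_bot_of_card_eq _ e)
  obtain ⟨a, ha, haV⟩ := SetLike.not_le_iff_exists.1 o.bMoved
  have haP : a ∉ centralizer (P : Set G) := fun e => haV (o.faith a (o.bT ha) e)
  have ha2 : a * a ∈ centralizer (P : Set G) := o.trivial_on_P (mul_mem (o.bT ha) (o.bT ha)) (o.bSq a ha)
  obtain ⟨x, hx, hxd, hax⟩ := S.exists_inverted (o.bP ha) ha2 haP
  obtain ⟨y, hy, hyx⟩ : ∃ y ∈ P, x * y ≠ y * x := by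
    by_contra hn
    push Not at hn
    exact hxd (S.center_le hbot hx hn)
  obtain ⟨z, hz⟩ : ∃ z, z = x⁻¹ * (y * x * y⁻¹) := ⟨_, rfl⟩
  have hyxy : y * x * y⁻¹ = x * z := by rw [hz, mul_inv_cancel_left]
  have hzd : z ∈ (⁅P, P⁆ : Subgroup G) := by
    rw [hz, show x⁻¹ * (y * x * y⁻¹) = x⁻¹ * (y * x * y⁻¹ * x⁻¹) * x by group,
      S.derived_comm (S.conj_mod hy hx) (Subgroup.inv_mem _ hx), inv_mul_cancel_right]
    exact S.conj_mod hy hx
  have hz1 : z ≠ 1 := fun e => hyx (by
    rw [e, mul_one] at hyxy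
    exact (mul_inv_eq_iff_eq_mul.1 hyxy).symm)
  have hzo : orderOf z = p := orderOf_eq_prime (S.exp z (S.derived_le hzd)) hz1
  have hgen : zpowers z = ⁅P, P⁆ := Subgroup.eq_of_le_of_card_ge (zpowers_le.2 hzd)
    (by rw [hd, Nat.card_zpowers, hzo])
  set U := ⁅V, (⁅P, P⁆ : Subgroup G)⁆ with hU
  have hUV : U ≤ V := o.commutator_le_V S.derived_le
  have hUfix : ∀ u ∈ U, z * u = u * z → u = 1 := fun u hu h => o.fixed_free S.derived_le hu (by
    rw [← hgen]
    refine mem_centralizer_iff.2 ?_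
    rintro _ ⟨i, rfl⟩
    exact ((show Commute z u from h).zpow_left i).eq)
  have hUne : U ≠ ⊥ := fun e => hZ (Coprime.commutator_eq_bot_iff_le_centralizer'.1 e)
  have hUn : ∀ g ∈ normalizer (P : Set G), g ∈ normalizer (V : Set G) → g ∈ normalizer (U : Set G) := by
    intro g hg hgV
    have hgD : g ∈ normalizer ((⁅P, P⁆ : Subgroup G) : Set G) := by
      refine zpowers_le.1 (le_normalizer_of_conj fun b hb d hd0 => ?_)
      exact S.derived_normal (zpowers_le.2 hg hb) hd0
    refine zpowers_le.1 (le_normalizer_of_conj fun b hb d hd0 => ?_)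
    exact conj_mem_commutator (zpowers_le.2 hgV hb) (zpowers_le.2 hgD hb) hd0
  have hPU : ∀ g ∈ P, g ∈ normalizer (U : Set G) := fun g hg => hUn g (le_normalizer hg) (o.pV hg)
  have haU : a ∈ normalizer (U : Set G) := hUn a (o.bP ha) (o.bV ha)
  have hUc : ∀ u ∈ U, ∀ v ∈ U, u * v = v * u := fun u hu v hv => o.vComm u (hUV hu) v (hUV hv)
  -- the pieces
  let e : ℕ → G := fun i => x * z ^ i
  have heP : ∀ i, e i ∈ P := fun i => mul_mem hx (pow_mem (S.derived_le hzd) i)
  have hxz : Commute x z := S.derived_comm hzd hx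
  have hec : ∀ i j, ⁅e i, e j⁆ ∈ centralizer (U : Set G) := fun i j => by
    have h1 : Commute (e i) (e j) :=
      Commute.mul_left (Commute.mul_right (Commute.refl x) (hxz.pow_right j))
        (Commute.mul_right (hxz.symm.pow_left i) (Commute.pow_pow_self z i j))
    rw [commutatorElement_eq_one_iff_mul_comm.2 h1.eq]
    exact one_mem _
  have hdis : ∀ i ∈ Finset.range p, ∀ j ∈ Finset.range p, i ≠ j →
      piece U (e i) ⊓ piece U (e j) = ⊥ := by
    intro i hi j hj hij
    refine (Subgroup.eq_bot_iff_forall _).2 fun u hu => ?_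
    obtain ⟨hu1, hu2⟩ := hu
    refine hUfix u (mem_piece.1 hu1).1 ?_
    have h3 : ∀ i j : ℕ, i < j → j < p → Commute (x * z ^ i) u → Commute (x * z ^ j) u → Commute z u := by
      intro i j hlt hjp h1 h2
      have h4 : Commute (z ^ (j - i)) u := by
        rw [show z ^ (j - i) = (x * z ^ i)⁻¹ * (x * z ^ j) by
          obtain ⟨k, rfl⟩ := Nat.exists_eq_add_of_le hlt.le
          rw [Nat.add_sub_cancel_left, pow_add]; group]
        exact h1.inv_left.mul_left h2
      obtain ⟨m, hm⟩ := exists_pow_eq_self_of_coprime (n := j - i) (x := z) (by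
        rw [hzo]
        exact ((S.prime.coprime_iff_not_dvd).2 fun hd' => by
          have := Nat.le_of_dvd (by omega) hd'
          omega).symm)
      rw [← hm]
      exact h4.pow_left m
    rw [Finset.mem_range] at hi hj
    rcases Nat.lt_or_gt_of_ne hij with h | h
    · exact h3 i j h hj (mem_piece.1 hu1).2 (mem_piece.1 hu2).2
    · exact h3 j i h hi (mem_piece.1 hu2).2 (mem_piece.1 hu1).2
  have hshift : ∀ i, Nat.card (piece U (e (i + 1))) = Nat.card (piece U (e i)) := by
    intro i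
    have he' : y * e i * y⁻¹ = e (i + 1) := by
      show y * (x * z ^ i) * y⁻¹ = x * z ^ (i + 1)
      rw [show y * (x * z ^ i) * y⁻¹ = y * x * y⁻¹ * (y * z ^ i * y⁻¹) by group, hyxy,
        (show Commute y z from S.derived_comm hzd hy).pow_right i, mul_inv_cancel_right, mul_assoc,
        pow_succ']
    have hmap : piece U (e (i + 1)) = (piece U (e i)).map (MulAut.conj y).toMonoidHom := by
      ext w
      simp only [mem_piece, Subgroup.mem_map]
      constructor
      · rintro ⟨hw, hc⟩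
        refine ⟨y⁻¹ * w * y, ⟨(mem_normalizer_iff''.1 (hPU y hy) w).1 hw, ?_⟩, by simp [mul_assoc]⟩
        rw [← he'] at hc
        calc e i * (y⁻¹ * w * y) = y⁻¹ * (y * e i * y⁻¹ * w) * y := by group
          _ = y⁻¹ * (w * (y * e i * y⁻¹)) * y := by rw [hc]
          _ = _ := by group
      · rintro ⟨v, ⟨hv, hc⟩, rfl⟩
        refine ⟨(mem_normalizer_iff.1 (hPU y hy) v).1 hv, ?_⟩
        rw [← he']
        show y * e i * y⁻¹ * (y * v * y⁻¹) = y * v * y⁻¹ * (y * e i * y⁻¹)
        calc y * e i * y⁻¹ * (y * v * y⁻¹) = y * (e i * v) * y⁻¹ := by group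
          _ = y * (v * e i) * y⁻¹ := by rw [hc]
          _ = _ := by group
    rw [hmap, card_map_of_injective (MulAut.conj y).injective]
  have hall : ∀ i, Nat.card (piece U (e i)) = Nat.card (piece U (e 0)) := by
    intro i
    induction i with
    | zero => rfl
    | succ i ih => rw [hshift, ih]
  have hne0 : piece U (e 0) ≠ ⊥ := by
    intro hb
    have hE : Shape.line P x ≤ P := S.line_le hx
    haveI : IsMulCommutative (Shape.line P x) := by
      have h1 : Shape.line P x ≤ centralizer ({x} : Set G) := sup_le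
        (zpowers_le.2 (mem_centralizer_singleton_iff.2 rfl))
        fun d hd => mem_centralizer_singleton_iff.2 (S.derived_comm hd hx).symm
      have h2 : Shape.line P x ≤ centralizer (Shape.line P x : Set G) := sup_le
        (zpowers_le.2 (mem_centralizer_iff.2 fun d hd => mem_centralizer_singleton_iff.1 (h1 hd)))
        fun d hd => centralizer_le (fun w hw => hE hw) (S.central hd)
      exact ⟨⟨fun u v => Subtype.ext (mem_centralizer_iff.1 (h2 v.2) u u.2)⟩⟩
    have hnc : ¬ IsCyclic (Shape.line P x) := by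
      intro hc
      obtain ⟨g, hg⟩ := IsCyclic.exists_ofOrder_eq_natCard (α := Shape.line P x)
      rw [S.card_line hx hxd, hd] at hg
      have h1 : orderOf g ∣ p := orderOf_dvd_of_pow_eq_one (Subtype.ext (S.exp _ (hE g.2)))
      have h2 := Nat.le_of_dvd S.prime.pos h1
      rw [hg] at h2
      nlinarith [S.prime.two_le]
    have hgen' := Coprime.fixedGen_eq hnc (fun g hg => hPU g (hE hg))
      (Nat.Coprime.coprime_dvd_right (Subgroup.card_dvd_of_le hUV) (o.coprime_V hE))
    refine hUne (le_bot_iff.1 (hgen'.ge.trans (iSup₂_le fun g hg u hu => ?_)))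
    obtain ⟨hgl, hg1⟩ := hg
    obtain ⟨huU, hgu⟩ := mem_piece.1 hu
    rw [Subgroup.mem_bot]
    by_cases hgd : g ∈ (⁅P, P⁆ : Subgroup G)
    · refine hUfix u huU ?_
      have hgg : zpowers g = ⁅P, P⁆ := Subgroup.eq_of_le_of_card_ge (zpowers_le.2 hgd)
        (by rw [hd, Nat.card_zpowers, orderOf_eq_prime (S.exp g (S.derived_le hgd)) hg1])
      obtain ⟨i, rfl⟩ := mem_zpowers_iff.1 (hgg.ge hzd)
      exact ((show Commute g u from hgu).zpow_left i).eq
    · have hxl : x ∈ Shape.line P g := by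
        rw [S.line_eq hx hxd hgd hgl]
        exact mem_sup_left (mem_zpowers x)
      rw [Shape.line, ← SetLike.mem_coe, coe_mul_of_left_le_normalizer_right _ _ (fun w hw =>
        centralizer_le_normalizer _ (mem_centralizer_iff.2 fun d hd =>
          (S.derived_comm hd (zpowers_le.2 (hE hgl) hw)).symm))] at hxl
      obtain ⟨_, ⟨i, rfl⟩, d, hdd, hxe⟩ := hxl
      have hdz : d⁻¹ ∈ zpowers z := hgen ▸ Subgroup.inv_mem _ hdd
      obtain ⟨k, hk⟩ : ∃ k : ℕ, k < p ∧ z ^ k = d⁻¹ := by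
        obtain ⟨k, hk, hk'⟩ := (mem_zpowers_iff_mem_range_orderOf (x := z)).1 hdz |> Finset.mem_image.1
        exact ⟨k, hzo ▸ Finset.mem_range.1 hk, hk'⟩
      have hek : e k = g ^ i := by
        show x * z ^ k = g ^ i
        rw [hk.2, ← hxe]; group
      have h1 : u ∈ piece U (e k) := mem_piece.2 ⟨huU, by
        rw [hek]; exact ((show Commute g u from hgu).zpow_left i).eq⟩
      have h2 : piece U (e k) = ⊥ :=
        Subgroup.eq_bot_of_card_eq _ (by rw [hall, hb, card_bot])
      rw [h2] at h1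
      exact Subgroup.mem_bot.1 h1
  have hzU : ∀ i, z ∈ normalizer (piece U (e i) : Set G) := fun i => by
    refine zpowers_le.1 (le_normalizer_of_conj fun b hb u hu => ?_)
    have hbD : b ∈ (⁅P, P⁆ : Subgroup G) := hgen ▸ hb
    refine conj_mem_piece (hPU b (S.derived_le hbD)) ?_ hu
    rw [commutatorElement_eq_one_iff_mul_comm.2 (S.derived_comm hbD (heP i)).symm]
    exact one_mem _
  have hc8 : ∀ i, 8 ≤ Nat.card (piece U (e i)) := fun i => by
    refine o.eight_le h5 (S.exp z (S.derived_le hzd)) (inf_le_left.trans hUV) (hzU i)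
      (fun w hw => hUfix w (mem_piece.1 hw).1) fun hb => hne0 ?_
    exact Subgroup.eq_bot_of_card_eq _ (by rw [← hall i, hb, card_bot])
  have hprod : ∀ t ⊆ Finset.range p, 8 ^ t.card ≤ Nat.card (join U e t) := by
    intro t ht
    rw [card_join hUc e (Finset.range p) (fun i _ => hPU _ (heP i)) (fun i _ j _ => hec i j) hdis t ht]
    exact Finset.pow_card_le_prod t _ 8 fun i _ => hc8 i
  have hI := o.index_cases.1
  have h256 : ∀ W : Subgroup G, Nat.card W ≤ ((V ⊓ centralizer (B : Set G)).relIndex V) ^ 2 →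
      Nat.card W ≤ 256 := fun W hW => hW.trans ((Nat.pow_le_pow_left hI 2).trans (by norm_num))
  have h3p : Finset.range 3 ⊆ Finset.range p := by
    intro i hi
    rw [Finset.mem_range] at hi ⊢
    omega
  by_cases hfz : a * z * a⁻¹ = z
  · -- `x` is fixed point free on the join of the other pieces
    set t := Finset.Ico 1 p with ht
    have htr : t ⊆ Finset.range p := fun i hi => by
      rw [ht, Finset.mem_Ico] at hi
      rw [Finset.mem_range]; omega
    have hxW : x ∈ normalizer (join U e t : Set G) := by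
      refine zpowers_le.1 (le_normalizer_of_conj fun b hb u hu => ?_)
      refine conj_mem_join e t (fun i hi v hv => Finset.le_sup (f := fun i => piece U (e i)) hi ?_) hu
      refine conj_mem_piece (hPU b (zpowers_le.2 hx hb)) ?_ hv
      obtain ⟨j, rfl⟩ := mem_zpowers_iff.1 hb
      rw [commutatorElement_eq_one_iff_mul_comm.2
        (Commute.zpow_left (Commute.mul_right (Commute.refl x) (hxz.pow_right i)) j).eq]
      exact one_mem _
    have hfix : ∀ w ∈ join U e t, x * w = w * x → w = 1 := by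
      intro w hw hc
      have h0 := independent hUc e (Finset.range p) (fun i _ => hPU _ (heP i)) (fun i _ j _ => hec i j)
        hdis t htr 0 (Finset.mem_range.2 S.prime.pos) (by simp [ht])
      refine Subgroup.mem_bot.1 (h0.le ⟨mem_piece.2 ⟨join_le U e t hw, ?_⟩, hw⟩)
      show x * z ^ 0 * w = w * (x * z ^ 0)
      rwa [pow_zero, mul_one]
    have h1 := h256 _ (o.bound ha hax (S.exp x hx) ((join_le U e t).trans hUV) hxW hfix)
    have h2 := (hprod t htr).trans h1
    have h3 : 8 ^ 4 ≤ 8 ^ t.card := Nat.pow_le_pow_right (by norm_num) (by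
      rw [ht, Nat.card_Ico]; omega)
    omega
  · -- `z` is inverted
    set w := a * z * a⁻¹ * z⁻¹ with hw
    have hwd : w ∈ (⁅P, P⁆ : Subgroup G) :=
      mul_mem (S.derived_normal (o.bP ha) hzd) (Subgroup.inv_mem _ hzd)
    have hw1 : w ≠ 1 := fun e1 => hfz (mul_inv_eq_one.1 e1)
    have hwg : zpowers w = ⁅P, P⁆ := Subgroup.eq_of_le_of_card_ge (zpowers_le.2 hwd)
      (by rw [hd, Nat.card_zpowers, orderOf_eq_prime (S.exp w (S.derived_le hwd)) hw1])
    have hinvw : a * w * a⁻¹ = w⁻¹ := S.inverted ha2 (S.derived_le hzd)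
    have hfix : ∀ u ∈ U, w * u = u * w → u = 1 := fun u hu hc => hUfix u hu (by
      obtain ⟨i, hi⟩ := mem_zpowers_iff.1 (hwg.ge hzd)
      rw [← hi]
      exact ((show Commute w u from hc).zpow_left i).eq)
    have h1 := h256 _ (o.bound ha hinvw (S.exp w (S.derived_le hwd)) hUV (hPU w (S.derived_le hwd)) hfix)
    have h2 := ((hprod _ h3p).trans (Subgroup.card_le_of_le (join_le U e _))).trans h1
    norm_num at h2

end OffBase

end Cfsg.Agent.QTXi
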