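import Cfsg.Agent.Lib.QTXi.Defs
import Cfsg.Agent.Lib.Transfer.Frobenius
import Cfsg.Agent.Lib.PGroups.UniqueSubgroup

/-!
# Irreducible pairs in a `p`-group of rank two

If a `p`-group `B` of rank at most two contains `P` and is normalised by `T`, the elements of order
dividing `p` of `B` are those of `P` and `B = P C_B(P)`; so an invariant `p`-group either contains `P`
or is centralised by it.
-/

set_option autoImplicit false
set_option linter.style.haveILetI false

namespace Cfsg.Agent.QTXi

open Subgroup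
open scoped Pointwise commutatorElement

universe u

variable {A : Type u} [Group A]

theorem le_normalizer_of_conj [Finite A] {H K : Subgroup A}
    (h : ∀ a ∈ H, ∀ k ∈ K, a * k * a⁻¹ ∈ K) : H ≤ normalizer (K : Set A) :=
  Subgroup.le_normalizer_iff.2 h

theorem card_mul_relIndex_of_le {H K : Subgroup A} (h : H ≤ K) :
    Nat.card H * H.relIndex K = Nat.card K := by
  rw [← relIndex_bot_left, ← relIndex_bot_left, relIndex_mul_relIndex ⊥ H K bot_le h]

theorem conj_mem_of_normalizer {H K : Subgroup A} (h : H ≤ normalizer (K : Set A)) {a k : A}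
    (ha : a ∈ H) (hk : k ∈ K) : a * k * a⁻¹ ∈ K :=
  Subgroup.le_normalizer_iff.1 h a ha k hk

/-- Rank two: commuting with an elementary subgroup of order `p ^ 2` leaves nothing outside it. -/
theorem mem_of_commute [Finite A] (hA : RankTwo A) {p : ℕ} (hp : p.Prime) (hp2 : p ≠ 2)
    {E : Subgroup A} (hEc : ∀ a ∈ E, ∀ b ∈ E, a * b = b * a) (hEp : ∀ a ∈ E, a ^ p = 1)
    (hE : p ^ 2 ≤ Nat.card E) {w : A} (hw : w ^ p = 1) (hwE : ∀ a ∈ E, w * a = a * w) : w ∈ E := by
  by_contra hn
  let D : Subgroup A :=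
    { carrier := {g | ∃ a ∈ E, ∃ i : ℕ, g = a * w ^ i}
      one_mem' := ⟨1, one_mem _, 0, by simp⟩
      mul_mem' := by
        rintro _ _ ⟨a, ha, i, rfl⟩ ⟨b, hb, j, rfl⟩
        refine ⟨a * b, mul_mem ha hb, i + j, ?_⟩
        have : w ^ i * b = b * w ^ i := (Commute.pow_left (hwE b hb) i).eq
        calc a * w ^ i * (b * w ^ j) = a * (w ^ i * b) * w ^ j := by group
          _ = a * b * (w ^ i * w ^ j) := by rw [this]; group
          _ = _ := by rw [← pow_add]
      inv_mem' := by
        rintro _ ⟨a, ha, i, rfl⟩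
        refine ⟨a⁻¹, inv_mem ha, i * (p - 1), ?_⟩
        have hw' : w ^ (i * (p - 1)) = (w ^ i)⁻¹ := eq_inv_of_mul_eq_one_left (by
          rw [← pow_add, ← Nat.mul_succ, Nat.succ_eq_add_one, Nat.sub_add_cancel hp.one_le,
            mul_comm, pow_mul, hw, one_pow])
        rw [hw', mul_inv_rev]
        exact (Commute.inv_inv (Commute.pow_left (hwE a ha) i)).eq }
  have hDc : IsMulCommutative D := ⟨⟨fun x y => Subtype.ext (by
    obtain ⟨a, ha, i, hx⟩ := x.2
    obtain ⟨b, hb, j, hy⟩ := y.2
    show (x : A) * y = y * x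
    rw [hx, hy]
    exact Commute.mul_left
      (Commute.mul_right (hEc a ha b hb) (Commute.pow_right (hwE a ha).symm j))
      (Commute.mul_right (Commute.pow_left (hwE b hb) i) (Commute.pow_pow_self w i j)))⟩⟩
  have hDp : ∀ g ∈ D, g ^ p = 1 := by
    rintro _ ⟨a, ha, i, rfl⟩
    rw [(Commute.pow_right (hwE a ha).symm i).mul_pow, hEp a ha, ← pow_mul, mul_comm i p, pow_mul, hw,
      one_pow, one_mul]
  have hED : E < D := lt_of_le_of_ne (fun a ha => ⟨a, ha, 0, by simp⟩)
    (fun e => hn (e ▸ ⟨1, one_mem _, 1, by simp⟩))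
  have hle := hA p hp hp2 D hDc hDp
  exact hED.ne (Subgroup.eq_of_le_of_card_ge hED.le (hle.trans hE))

namespace Shape

variable [Finite A] {p : ℕ} {P T : Subgroup A}

theorem card_eq (h : Shape p P T) : Nat.card P = p ^ 2 * Nat.card ↥(⁅P, P⁆ : Subgroup A) := by
  rw [← h.index, mul_comm, card_mul_relIndex_of_le h.derived_le]

theorem relIndex_two (h : Shape p P T) {D : Subgroup A} (hD : D ≤ P) (hPD : ⁅P, P⁆ < D) (hne : D ≠ P) :
    Nat.card D = p * Nat.card ↥(⁅P, P⁆ : Subgroup A) := by
  have h1 := Subgroup.relIndex_mul_relIndex (⁅P, P⁆ : Subgroup A) D P hPD.le hD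
  rw [h.index] at h1
  obtain ⟨i, hi, hi'⟩ := (Nat.dvd_prime_pow h.prime).1
    (Dvd.intro _ h1 : (⁅P, P⁆ : Subgroup A).relIndex D ∣ p ^ 2)
  have hne1 : i ≠ 0 := fun e => by
    rw [e, pow_zero, relIndex_eq_one] at hi'
    exact hPD.not_ge hi'
  have hne2 : i ≠ 2 := fun e => by
    rw [hi', e] at h1
    have h2 : D.relIndex P = 1 :=
      Nat.eq_of_mul_eq_mul_left (pow_pos h.prime.pos 2) (h1.trans (mul_one _).symm)
    exact hne (le_antisymm hD (relIndex_eq_one.1 h2))
  obtain rfl : i = 1 := by omega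
  rw [← card_mul_relIndex_of_le hPD.le, hi', pow_one, mul_comm]

/-- In the nonabelian case the centre of `P` is the derived group. -/
theorem center_le (h : Shape p P T) (hne : (⁅P, P⁆ : Subgroup A) ≠ ⊥) {x : A} (hx : x ∈ P)
    (hc : ∀ y ∈ P, x * y = y * x) : x ∈ (⁅P, P⁆ : Subgroup A) := by
  have hx' : x ∈ P ⊓ centralizer (P : Set A) :=
    ⟨hx, mem_centralizer_iff.2 fun y hy => (hc y hy).symm⟩
  rcases h.sub_cases (D := P ⊓ centralizer (P : Set A)) inf_le_left (fun t ht d hd =>
      ⟨conj_mem_of_normalizer h.normalizes ht hd.1, mem_centralizer_iff.2 fun y hy => by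
        have hy' := conj_mem_of_normalizer h.normalizes (inv_mem ht) hy
        have e := mem_centralizer_iff.1 hd.2 _ hy'
        rw [inv_inv] at e
        calc y * (t * d * t⁻¹) = t * (t⁻¹ * y * t * d) * t⁻¹ := by group
          _ = t * (d * (t⁻¹ * y * t)) * t⁻¹ := by rw [e]
          _ = t * d * t⁻¹ * y := by group⟩) with e | e
  · exact e hx'
  · refine absurd ((commutator_eq_bot_iff_le_centralizer).2 fun y hy => ?_) hne
    exact (e.ge hy).2

/-- Two generators. -/
theorem exists_generators (h : Shape p P T) :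
    ∃ x ∈ P, ∃ y ∈ P, closure {x, y} ⊔ ⁅P, P⁆ = P := by
  have hlt : ∀ D : Subgroup A, D ≤ P → Nat.card D < Nat.card P → ∃ x ∈ P, x ∉ D := fun D hD hc => by
    by_contra hn
    push Not at hn
    exact hc.ne (by rw [le_antisymm hD hn])
  have hc := h.card_eq
  have hpp : 1 < p := h.prime.one_lt
  obtain ⟨x, hx, hx'⟩ := hlt (⁅P, P⁆ : Subgroup A) h.derived_le (by
    rw [hc]
    exact lt_mul_of_one_lt_left Nat.card_pos (by nlinarith))
  set D := closure {x} ⊔ ⁅P, P⁆
  have hDP : D ≤ P := sup_le ((closure_le _).2 (by simpa using hx)) h.derived_le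
  have hD : ⁅P, P⁆ < D := lt_of_le_of_ne le_sup_right fun e =>
    hx' (e ▸ mem_sup_left (subset_closure rfl))
  have hDne : D ≠ P := fun e => by
    haveI : Group.IsNilpotent P := (haveI := Fact.mk h.prime; h.isPGroup.isNilpotent)
    have e' := Coprime.eq_of_le_of_sup_commutator_eq ((closure_le _).2 (by simpa using hx)) e
    have hcomm : (⁅P, P⁆ : Subgroup A) = ⊥ := by
      rw [← e', ← zpowers_eq_closure, commutator_eq_bot_iff_le_centralizer]
      rintro _ ⟨i, rfl⟩
      exact mem_centralizer_iff.2 fun _ ⟨j, hj⟩ => by rw [← hj]; exact (Commute.zpow_zpow_self x j i).eq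
    have hle : Nat.card P ≤ p := by
      rw [← e', ← zpowers_eq_closure, Nat.card_zpowers]
      exact Nat.le_of_dvd h.prime.pos (orderOf_dvd_of_pow_eq_one (h.exp x hx))
    rw [hc, hcomm, card_bot, mul_one] at hle
    nlinarith
  obtain ⟨y, hy, hy'⟩ := hlt D hDP (by
    rw [h.relIndex_two hDP hD hDne, hc, pow_two, mul_assoc]
    exact lt_mul_of_one_lt_left (Nat.mul_pos h.prime.pos Nat.card_pos) hpp)
  refine ⟨x, hx, y, hy, ?_⟩
  set E := closure {x, y} ⊔ ⁅P, P⁆
  have hEP : E ≤ P := sup_le ((closure_le _).2 (by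
    intro z hz
    rcases hz with rfl | rfl
    exacts [hx, hy])) h.derived_le
  by_contra hne
  have hDE : D ≤ E := sup_le_sup_right (Subgroup.closure_mono (by simp)) _
  have := h.relIndex_two hEP (hD.trans_le hDE) hne
  rw [← h.relIndex_two hDP hD hDne] at this
  have e := Subgroup.eq_of_le_of_card_ge hDE (le_of_eq this)
  exact hy' (e ▸ mem_sup_left (subset_closure (by simp)))

/-- An element commuting with generators centralises `P`. -/
theorem mem_centralizer_of_generators (h : Shape p P T) {x y g : A}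
    (hxy : closure {x, y} ⊔ ⁅P, P⁆ = P) (hg : g ∈ centralizer ((⁅P, P⁆ : Subgroup A) : Set A))
    (hx : g * x = x * g) (hy : g * y = y * g) : g ∈ centralizer (P : Set A) := by
  rw [← hxy]
  have hle : closure {x, y} ⊔ ⁅P, P⁆ ≤ centralizer ({g} : Set A) := by
    refine sup_le ((closure_le _).2 ?_) fun d hd => mem_centralizer_singleton_iff.2 (mem_centralizer_iff.1 hg d hd)
    intro z hz
    rcases hz with rfl | rfl
    exacts [mem_centralizer_singleton_iff.2 hx.symm, mem_centralizer_singleton_iff.2 hy.symm]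
  exact mem_centralizer_iff.2 fun d hd => mem_centralizer_singleton_iff.1 (hle hd)

/-- An elementary abelian subgroup of order at least `p ^ 2` of `P`. -/
theorem exists_square (h : Shape p P T) :
    ∃ E ≤ P, (∀ a ∈ E, ∀ b ∈ E, a * b = b * a) ∧ p ^ 2 ≤ Nat.card E ∧ ⁅P, P⁆ ≤ E := by
  by_cases hb : (⁅P, P⁆ : Subgroup A) = ⊥
  · refine ⟨P, le_rfl, fun a ha b hb' => ?_, by rw [h.card_eq, hb, card_bot, mul_one], h.derived_le⟩
    exact (mem_centralizer_iff.1 ((commutator_eq_bot_iff_le_centralizer.1 hb) ha) b hb').symm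
  · obtain ⟨x, hx, y, hy, hxy⟩ := h.exists_generators
    set E := zpowers x ⊔ ⁅P, P⁆
    have hEP : E ≤ P := sup_le (zpowers_le.2 hx) h.derived_le
    have hEc : ∀ a ∈ E, ∀ b ∈ E, a * b = b * a := by
      have hle : E ≤ centralizer (E : Set A) := by
        have h1 : E ≤ centralizer ({x} : Set A) := sup_le (zpowers_le.2 (mem_centralizer_singleton_iff.2 rfl))
          fun d hd => mem_centralizer_singleton_iff.2 (mem_centralizer_iff.1 (h.central hd) x hx).symm
        refine sup_le (zpowers_le.2 (mem_centralizer_iff.2 fun b hb' =>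
          mem_centralizer_singleton_iff.1 (h1 hb'))) fun d hd =>
          centralizer_le (fun e he => hEP he) (h.central hd)
      exact fun a ha b hb' => (mem_centralizer_iff.1 (hle ha) b hb').symm
    refine ⟨E, hEP, hEc, ?_, le_sup_right⟩
    have hcd : Nat.card ↥(⁅P, P⁆ : Subgroup A) = p :=
      ((Nat.dvd_prime h.prime).1 h.derived_card).resolve_left fun e =>
        hb (Subgroup.eq_bot_of_card_eq _ e)
    have hlt : ⁅P, P⁆ < E := lt_of_le_of_ne le_sup_right fun e => by
      have hx' : x ∈ (⁅P, P⁆ : Subgroup A) := e ▸ mem_sup_left (mem_zpowers x)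
      have h1 : closure {y} ⊔ ⁅P, P⁆ = P := by
        refine le_antisymm (sup_le ((closure_le _).2 (by simpa using hy)) h.derived_le) ?_
        conv_lhs => rw [← hxy]
        refine sup_le ((closure_le _).2 ?_) le_sup_right
        intro z hz
        rcases hz with rfl | rfl
        exacts [mem_sup_right hx', mem_sup_left (subset_closure rfl)]
      haveI : Group.IsNilpotent P := (haveI := Fact.mk h.prime; h.isPGroup.isNilpotent)
      have e' := Coprime.eq_of_le_of_sup_commutator_eq ((closure_le _).2 (by simpa using hy)) h1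
      refine hb ?_
      rw [← e', ← zpowers_eq_closure, commutator_eq_bot_iff_le_centralizer]
      rintro _ ⟨i, rfl⟩
      exact mem_centralizer_iff.2 fun _ ⟨j, hj⟩ => by rw [← hj]; exact (Commute.zpow_zpow_self y j i).eq
    by_cases hE : E = P
    · rw [hE, h.card_eq, hcd]; exact Nat.le_mul_of_pos_right _ h.prime.pos
    · rw [h.relIndex_two hEP hlt hE, hcd, pow_two]

/-- A `p`-group containing `P` and normalised by `T`. -/
theorem structure_of_le (hA : RankTwo A) (h : Shape p P T) {B : Subgroup A} (hB : IsPGroup p B)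
    (hPB : P ≤ B) (hTB : T ≤ normalizer (B : Set A)) :
    (∀ b ∈ B, b ^ p = 1 → b ∈ P) ∧ ∀ b ∈ B, ∃ π ∈ P, π⁻¹ * b ∈ centralizer (P : Set A) := by
  classical
  haveI : Fact p.Prime := ⟨h.prime⟩
  set W := P ⊔ (B ⊓ centralizer (P : Set A)) with hW
  have hn : B ⊓ centralizer (P : Set A) ≤ normalizer (P : Set A) :=
    inf_le_right.trans (centralizer_le_normalizer _)
  have hWB : W ≤ B := sup_le hPB inf_le_left
  have hdec : ∀ b ∈ W, ∃ π ∈ P, π⁻¹ * b ∈ B ⊓ centralizer (P : Set A) := by
    intro b hb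
    rw [← SetLike.mem_coe, coe_mul_of_right_le_normalizer_left _ _ hn] at hb
    obtain ⟨π, hπ, c, hc, rfl⟩ := hb
    exact ⟨π, hπ, by rw [inv_mul_cancel_left]; exact hc⟩
  have hord : ∀ b ∈ W, b ^ p = 1 → b ∈ P := by
    intro b hb hbp
    obtain ⟨π, hπ, hc⟩ := hdec b hb
    obtain ⟨c, hcd⟩ : ∃ c, c = π⁻¹ * b := ⟨_, rfl⟩
    rw [← hcd] at hc
    have hb' : b = π * c := by rw [hcd, mul_inv_cancel_left]
    have hcp : c ^ p = 1 := by
      rw [hb', (show Commute π c from mem_centralizer_iff.1 hc.2 π hπ).mul_pow, h.exp π hπ, one_mul] at hbp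
      exact hbp
    obtain ⟨E, hEP, hEc, hE, -⟩ := h.exists_square
    rw [hb']
    exact mul_mem hπ (hEP (mem_of_commute hA h.prime h.odd hEc (fun a ha => h.exp a (hEP ha)) hE hcp
      fun a ha => (mem_centralizer_iff.1 hc.2 a (hEP ha)).symm))
  have hN : B ⊓ normalizer (P : Set A) ≤ W := by
    intro n hn'
    set N := B ⊓ normalizer (P : Set A)
    haveI : Group.IsNilpotent N := (hB.to_le inf_le_left).isNilpotent
    have hPN : P ≤ N := le_inf hPB le_normalizer
    have hder : ⁅P, N⁆ ≤ ⁅P, P⁆ := by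
      rcases h.sub_cases (D := ⁅P, N⁆) (Coprime.commutator_le_of_le_normalizer inf_le_right) (fun t ht d hd => by
          have h1 : (⁅P, N⁆ : Subgroup A).map (MulAut.conj t).toMonoidHom ≤ ⁅P, N⁆ := by
            rw [map_commutator]
            refine commutator_mono ?_ ?_
            · rintro _ ⟨x, hx, rfl⟩
              exact conj_mem_of_normalizer h.normalizes ht hx
            · rintro _ ⟨x, hx, rfl⟩
              refine ⟨conj_mem_of_normalizer hTB ht hx.1, ?_⟩
              exact mul_mem (mul_mem (h.normalizes ht) hx.2) (Subgroup.inv_mem _ (h.normalizes ht))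
          exact h1 ⟨d, hd, rfl⟩) with e | e
      · exact e
      · exfalso
        have hP1 : P ≠ ⊥ := fun e0 => by
          have h0 := h.card_eq
          rw [e0, card_bot] at h0
          have := Nat.eq_one_of_mul_eq_one_right h0.symm
          nlinarith [h.prime.two_le]
        exact (Coprime.commutator_lt_of_isNilpotent hPN hP1 inf_le_right).ne e
    have hval : ∀ x ∈ P, ⁅x, n⁆ ∈ (⁅P, P⁆ : Subgroup A) := fun x hx =>
      hder (commutator_mem_commutator hx hn')
    obtain ⟨x, hx, y, hy, hxy⟩ := h.exists_generators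
    obtain ⟨π, hπ, hπx, hπy⟩ : ∃ π ∈ P, ⁅x, π⁆ = ⁅x, n⁆ ∧ ⁅y, π⁆ = ⁅y, n⁆ := by
      by_cases hb : (⁅P, P⁆ : Subgroup A) = ⊥
      · exact ⟨1, one_mem _, by
          rw [commutatorElement_one_right, eq_comm, ← Subgroup.mem_bot, ← hb]; exact hval x hx, by
          rw [commutatorElement_one_right, eq_comm, ← Subgroup.mem_bot, ← hb]; exact hval y hy⟩
      have hmul : ∀ z ∈ P, ∀ a ∈ P, ∀ b ∈ P, ⁅z, a * b⁆ = ⁅z, a⁆ * ⁅z, b⁆ := by
        intro z hz a ha b hb'
        have hzb := h.central (commutator_mem_commutator hz hb')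
        have e : a * ⁅z, b⁆ * a⁻¹ = ⁅z, b⁆ := by
          rw [mem_centralizer_iff.1 hzb a ha, mul_inv_cancel_right]
        calc ⁅z, a * b⁆ = ⁅z, a⁆ * (a * ⁅z, b⁆ * a⁻¹) := by simp only [commutatorElement_def]; group
          _ = _ := by rw [e]
      have hdc : ∀ a ∈ (⁅P, P⁆ : Subgroup A), ∀ b ∈ (⁅P, P⁆ : Subgroup A), a * b = b * a :=
        fun a ha b hb' => (mem_centralizer_iff.1 (h.central ha) b (h.derived_le hb')).symm
      let ψ : P →* ↥(⁅P, P⁆ : Subgroup A) × ↥(⁅P, P⁆ : Subgroup A) :=
        { toFun := fun π => (⟨⁅x, (π : A)⁆, commutator_mem_commutator hx π.2⟩,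
            ⟨⁅y, (π : A)⁆, commutator_mem_commutator hy π.2⟩)
          map_one' := by
            refine Prod.ext (Subtype.ext ?_) (Subtype.ext ?_) <;> exact commutatorElement_one_right _
          map_mul' := fun a b => Prod.ext (Subtype.ext (hmul x hx a a.2 b b.2))
            (Subtype.ext (hmul y hy a a.2 b b.2)) }
      have hker : ψ.ker = (⁅P, P⁆ : Subgroup A).subgroupOf P := by
        ext π
        rw [MonoidHom.mem_ker, mem_subgroupOf]
        constructor
        · intro hπ
          have e1 : ⁅x, (π : A)⁆ = 1 := congrArg Subtype.val (congrArg Prod.fst hπ)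
          have e2 : ⁅y, (π : A)⁆ = 1 := congrArg Subtype.val (congrArg Prod.snd hπ)
          have hc := h.mem_centralizer_of_generators hxy (g := (π : A))
            (mem_centralizer_iff.2 fun d hd => (mem_centralizer_iff.1 (h.central hd) π π.2).symm)
            (commutatorElement_eq_one_iff_mul_comm.1 e1).symm (commutatorElement_eq_one_iff_mul_comm.1 e2).symm
          exact h.center_le hb π.2 fun z hz => (mem_centralizer_iff.1 hc z hz).symm
        · intro hπ
          refine Prod.ext (Subtype.ext ?_) (Subtype.ext ?_) <;>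
            refine commutatorElement_eq_one_iff_mul_comm.2 ?_
          · exact mem_centralizer_iff.1 (h.central hπ) x hx
          · exact mem_centralizer_iff.1 (h.central hπ) y hy
      have hsurj : Function.Surjective ψ := by
        rw [← MonoidHom.range_eq_top]
        refine Subgroup.eq_top_of_card_eq _ ?_
        rw [← Subgroup.index_ker, hker, Nat.card_prod, ← Subgroup.relIndex, h.index]
        have hd := ((Nat.dvd_prime h.prime).1 h.derived_card).resolve_left fun e =>
          hb (Subgroup.eq_bot_of_card_eq _ e)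
        rw [hd, pow_two]
      obtain ⟨π, hπ⟩ := hsurj (⟨⁅x, n⁆, hval x hx⟩, ⟨⁅y, n⁆, hval y hy⟩)
      exact ⟨π, π.2, congrArg Subtype.val (congrArg Prod.fst hπ),
        congrArg Subtype.val (congrArg Prod.snd hπ)⟩
    have hcomm : ∀ z : A, ⁅z, π⁆ = ⁅z, n⁆ → π⁻¹ * n * z = z * (π⁻¹ * n) := by
      intro z hz
      simp only [commutatorElement_def] at hz
      have h1 : π * z⁻¹ * π⁻¹ = n * z⁻¹ * n⁻¹ := by
        calc π * z⁻¹ * π⁻¹ = z⁻¹ * (z * π * z⁻¹ * π⁻¹) := by group
          _ = _ := by rw [hz]; group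
      have h2 : π * z * π⁻¹ = n * z * n⁻¹ := by
        calc π * z * π⁻¹ = (π * z⁻¹ * π⁻¹)⁻¹ := by group
          _ = _ := by rw [h1]; group
      calc π⁻¹ * n * z = π⁻¹ * (n * z * n⁻¹) * n := by group
        _ = z * (π⁻¹ * n) := by rw [← h2]; group
    have hzc : π⁻¹ * n ∈ centralizer ((⁅P, P⁆ : Subgroup A) : Set A) := by
      refine mem_centralizer_iff.2 fun d hd => ?_
      have h1 : ∀ g ∈ N, d * g = g * d := by
        have hND : (⁅⁅P, P⁆, N⁆ : Subgroup A) = ⊥ := by
          refine le_bot_iff.1 ?_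
          have hN' : N ≤ normalizer ((⁅P, P⁆ : Subgroup A) : Set A) := le_normalizer_of_conj fun g hg e he => by
            have : (MulAut.conj g).toMonoidHom e ∈ (⁅P, P⁆ : Subgroup A).map (MulAut.conj g).toMonoidHom :=
              mem_map_of_mem _ he
            rw [map_commutator] at this
            refine commutator_mono ?_ ?_ this <;>
            · rintro _ ⟨z, hz, rfl⟩
              exact conj_mem_of_normalizer (inf_le_right : N ≤ normalizer (P : Set A)) hg hz
          by_cases hb : (⁅P, P⁆ : Subgroup A) = ⊥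
          · rw [hb]; simp
          · have hlt := Coprime.commutator_lt_of_isNilpotent (h.derived_le.trans hPN) hb hN'
            have hd' := ((Nat.dvd_prime h.prime).1 h.derived_card).resolve_left fun e =>
              hb (Subgroup.eq_bot_of_card_eq _ e)
            have hdvd := Subgroup.card_dvd_of_le hlt.le
            rw [hd'] at hdvd
            rcases (Nat.dvd_prime h.prime).1 hdvd with e | e
            · exact (Subgroup.eq_bot_of_card_eq _ e).le
            · exact absurd (Subgroup.eq_of_le_of_card_ge hlt.le (by rw [hd', e])) hlt.ne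
        intro g hg
        exact ((mem_centralizer_iff.1 ((commutator_eq_bot_iff_le_centralizer.1 hND) hd)) g hg).symm
      exact h1 _ (mul_mem (Subgroup.inv_mem _ (hPN hπ)) hn')
    have hc := h.mem_centralizer_of_generators hxy hzc (hcomm x hπx) (hcomm y hπy)
    rw [show n = π * (π⁻¹ * n) by group]
    exact mul_mem_sup hπ ⟨mul_mem (Subgroup.inv_mem _ (hPB hπ)) hn'.1, hc⟩
  have hWB' : W = B := by
    by_contra hne
    have hlt := Transfer.Frobenius.lt_inf_normalizer hB (lt_of_le_of_ne hWB hne)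
    refine hlt.not_ge fun n hn' => hN ⟨hn'.1, ?_⟩
    refine le_normalizer_of_conj (H := zpowers n) (fun a ha k hk => ?_) (mem_zpowers n)
    have haN : a ∈ B ⊓ normalizer (W : Set A) := zpowers_le.2 hn' ha
    exact hord _ (conj_mem_of_normalizer inf_le_right haN (mem_sup_left hk))
      (by rw [conj_pow, h.exp k hk, mul_one, mul_inv_cancel])
  refine ⟨fun b hb => hord b (hWB'.ge hb), fun b hb => ?_⟩
  obtain ⟨π, hπ, hc⟩ := hdec b (hWB'.ge hb)
  exact ⟨π, hπ, hc.2⟩

/-- An invariant `p`-group contains `P` or is centralised by it. -/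
theorem le_or_centralizes (hA : RankTwo A) (h : Shape p P T) {V : Subgroup A} (hV : IsPGroup p V)
    (hPV : P ≤ normalizer (V : Set A)) (hTV : T ≤ normalizer (V : Set A)) :
    P ≤ V ∨ P ≤ centralizer (V : Set A) := by
  classical
  haveI : Fact p.Prime := ⟨h.prime⟩
  set B := V ⊔ P with hB
  have hBp : IsPGroup p B := IsPGroup.to_sup_of_normal_left' hV h.isPGroup hPV
  have hTB : T ≤ normalizer (B : Set A) := le_normalizer_of_conj fun t ht b hb => by
    have hle : B ≤ B.comap (MulAut.conj t).toMonoidHom :=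
      sup_le (fun v hv => mem_sup_left (conj_mem_of_normalizer hTV ht hv))
        (fun x hx => mem_sup_right (conj_mem_of_normalizer h.normalizes ht hx))
    exact hle hb
  obtain ⟨hord, hdec⟩ := h.structure_of_le hA hBp le_sup_right hTB
  rcases h.sub_cases (D := P ⊓ V) inf_le_left (fun t ht d hd =>
      ⟨conj_mem_of_normalizer h.normalizes ht hd.1, conj_mem_of_normalizer hTV ht hd.2⟩) with e | e
  swap
  · exact Or.inl (e.ge.trans inf_le_right)
  right
  by_cases hb : (⁅P, P⁆ : Subgroup A) = ⊥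
  · have hV1 : V = ⊥ := by
      by_contra hne
      haveI : Nontrivial V := (nontrivial_iff_ne_bot V).2 hne
      obtain ⟨⟨v, hv⟩, hvo⟩ := exists_prime_orderOf_dvd_card' (G := V) p (by
        obtain ⟨n, hn⟩ := IsPGroup.iff_card.1 hV
        rcases Nat.eq_zero_or_pos n with rfl | hn0
        · exact absurd (Subgroup.eq_bot_of_card_eq V (by rw [hn, pow_zero])) hne
        · rw [hn]; exact dvd_pow_self p hn0.ne')
      have hvp : v ^ p = 1 := by
        have := pow_orderOf_eq_one (⟨v, hv⟩ : V)
        rw [hvo] at this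
        exact congrArg Subtype.val this
      have h1 : v ∈ (⁅P, P⁆ : Subgroup A) := e ⟨hord v (mem_sup_left hv) hvp, hv⟩
      rw [hb, Subgroup.mem_bot] at h1
      subst h1
      exact h.prime.ne_one ((orderOf_one (G := V)).symm.trans hvo).symm
    rw [hV1]
    intro x _
    exact mem_centralizer_iff.2 fun v hv => by rw [Subgroup.mem_bot.1 hv, one_mul, mul_one]
  have hdcard : Nat.card ↥(⁅P, P⁆ : Subgroup A) = p :=
    ((Nat.dvd_prime h.prime).1 h.derived_card).resolve_left fun e0 =>
      hb (Subgroup.eq_bot_of_card_eq _ e0)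
  -- `V` and `C_B(P)` have one subgroup of order `p`
  have hcyc : ∀ K : Subgroup A, IsPGroup p K → (∀ k ∈ K, k ^ p = 1 → k ∈ (⁅P, P⁆ : Subgroup A)) →
      ∀ a ∈ K, ∀ b ∈ K, a * b = b * a := by
    intro K hK hKord
    have hsub : ∀ H : Subgroup K, Nat.card H = p → H.map K.subtype = ⁅P, P⁆ := by
      intro H hH
      refine Subgroup.eq_of_le_of_card_ge ?_ (by
        rw [hdcard, card_map_of_injective K.subtype_injective, hH])
      rintro _ ⟨k, hk, rfl⟩
      refine hKord _ k.2 ?_
      have := pow_card_eq_one' (x := (⟨k, hk⟩ : H))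
      rw [hH] at this
      exact congrArg (fun w : H => ((w : K) : A)) this
    rcases PGroups.UniqueSubgroup.isCyclic_or_quaternion hK (fun H K' hH hK' =>
      Subgroup.map_injective K.subtype_injective ((hsub H hH).trans (hsub K' hK').symm)) with hc | ⟨h2, -⟩
    · intro a ha b hb'
      letI := IsCyclic.commGroup (α := K)
      exact congrArg Subtype.val (mul_comm (⟨a, ha⟩ : K) ⟨b, hb'⟩)
    · exact absurd h2 h.odd
  have hVc := hcyc V hV fun v hv hvp => e ⟨hord v (mem_sup_left hv) hvp, hv⟩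
  have hCc := hcyc (B ⊓ centralizer (P : Set A)) (hBp.to_le inf_le_left) fun c hc hcp => by
    refine h.center_le hb (hord c hc.1 hcp) fun y hy => ?_
    exact (mem_centralizer_iff.1 hc.2 y hy).symm
  set D : Subgroup A := P ⊓ (V ⊔ (B ⊓ centralizer (P : Set A))) with hD
  have hVC : V ≤ normalizer ((B ⊓ centralizer (P : Set A) : Subgroup A) : Set A) := by
    refine le_normalizer_of_conj fun v hv c hc => ⟨mul_mem (mul_mem (mem_sup_left hv) hc.1)
      (Subgroup.inv_mem _ (mem_sup_left hv)), ?_⟩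
    obtain ⟨π, hπ, hπv⟩ := hdec v (mem_sup_left hv)
    refine mem_centralizer_iff.2 fun y hy => ?_
    have hc' : π⁻¹ * v * c = c * (π⁻¹ * v) :=
      hCc _ ⟨mul_mem (Subgroup.inv_mem _ (mem_sup_right hπ)) (mem_sup_left hv), hπv⟩ _ hc
    have e1 : v * c * v⁻¹ = c := by
      calc v * c * v⁻¹ = π * (π⁻¹ * v * c) * v⁻¹ := by group
        _ = π * c * π⁻¹ := by rw [hc']; group
        _ = c := by rw [mem_centralizer_iff.1 hc.2 π hπ, mul_inv_cancel_right]
    rw [e1]
    exact mem_centralizer_iff.1 hc.2 y hy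
  rcases h.sub_cases (D := D) inf_le_left (fun t ht d hd => ⟨conj_mem_of_normalizer h.normalizes ht hd.1, by
      have hle : V ⊔ (B ⊓ centralizer (P : Set A)) ≤
          (V ⊔ (B ⊓ centralizer (P : Set A))).comap (MulAut.conj t).toMonoidHom := by
        refine sup_le (fun v hv => mem_sup_left (conj_mem_of_normalizer hTV ht hv)) fun c hc =>
          mem_sup_right ⟨conj_mem_of_normalizer hTB ht hc.1, mem_centralizer_iff.2 fun y hy => ?_⟩
        have hy' := conj_mem_of_normalizer h.normalizes (inv_mem ht) hy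
        rw [inv_inv] at hy'
        show y * (t * c * t⁻¹) = t * c * t⁻¹ * y
        calc y * (t * c * t⁻¹) = t * (t⁻¹ * y * t * c) * t⁻¹ := by group
          _ = t * (c * (t⁻¹ * y * t)) * t⁻¹ := by rw [mem_centralizer_iff.1 hc.2 _ hy']
          _ = t * c * t⁻¹ * y := by group
      exact hle hd.2⟩) with e' | e'
  · intro x hx
    refine mem_centralizer_iff.2 fun v hv => ?_
    obtain ⟨π, hπ, hπv⟩ := hdec v (mem_sup_left hv)
    have hπD : π ∈ D := ⟨hπ, by
      rw [show π = v * (π⁻¹ * v)⁻¹ by group]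
      exact mul_mem_sup hv (inv_mem ⟨mul_mem (Subgroup.inv_mem _ (mem_sup_right hπ)) (mem_sup_left hv), hπv⟩)⟩
    have h1 : x * π = π * x := mem_centralizer_iff.1 (h.central (e' hπD)) x hx
    have h2 : x * (π⁻¹ * v) = π⁻¹ * v * x := mem_centralizer_iff.1 hπv x hx
    calc v * x = π * (π⁻¹ * v * x) := by group
      _ = π * (x * (π⁻¹ * v)) := by rw [h2]
      _ = x * π * (π⁻¹ * v) := by rw [h1]; group
      _ = x * v := by group
  · exfalso
    refine hb (commutator_eq_bot_iff_le_centralizer.2 fun a ha => mem_centralizer_iff.2 fun b hb' => ?_)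
    have hlift : ∀ z ∈ P, ∃ v ∈ V, ∃ c ∈ B ⊓ centralizer (P : Set A), z = v * c := by
      intro z hz
      have hz' : z ∈ V ⊔ (B ⊓ centralizer (P : Set A)) := (e'.ge hz).2
      rw [← SetLike.mem_coe, coe_mul_of_left_le_normalizer_right _ _ hVC] at hz'
      obtain ⟨v, hv, c, hc, rfl⟩ := hz'
      exact ⟨v, hv, c, hc, rfl⟩
    obtain ⟨v, hv, c, hc, hvc⟩ := hlift a ha
    obtain ⟨w, hw, d, hd, hwd⟩ := hlift b hb'
    have hca : ∀ c ∈ B ⊓ centralizer (P : Set A), Commute b c := fun c hc => mem_centralizer_iff.1 hc.2 b hb'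
    have hva : Commute v b := by
      have hwv : Commute v w := hVc v hv w hw
      have hvd : Commute v d := by
        have h1 : Commute a d := mem_centralizer_iff.1 hd.2 a ha
        have h2 : Commute c⁻¹ d := Commute.inv_left (hCc c hc d hd)
        have : v = a * c⁻¹ := by rw [hvc]; group
        rw [this]
        exact h1.mul_left h2
      rw [hwd]
      exact hwv.mul_right hvd
    rw [hvc]
    exact ((hva.mul_left (hca c hc).symm).eq).symm

end Shape

end Cfsg.Agent.QTXi
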