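import Cfsg.Agent.Lib.QTXi.Offender

/-!
# The two lines

With the derived group trivial on `V`, the lines of `P / ⁅P, P⁆` with fixed points on `⁅V, P⁆` are
counted against the index of the fixed points of an inverting element: there are exactly two, and
`p = 5`; an automorphism of odd order prime to five permuting two lines is then trivial.
-/

set_option autoImplicit false
set_option linter.unusedSectionVars false
set_option linter.style.haveILetI false

namespace Cfsg.Agent.QTXi

open Subgroup Pieces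
open scoped commutatorElement

universe u

variable {G : Type u} [Group G] [Finite G]

namespace Offender

variable {p : ℕ} {P T₀ B V : Subgroup G} (o : Offender p P T₀ B V)

/-- An element outside the derived group with fixed points on `⁅V, P⁆`. -/
def Active (P V : Subgroup G) (e : G) : Prop :=
  e ∈ P ∧ e ∉ (⁅P, P⁆ : Subgroup G) ∧ piece ⁅V, P⁆ e ≠ ⊥

theorem piece_map {U : Subgroup G} {e g : G} (hU : g ∈ normalizer (U : Set G)) :
    piece U (g * e * g⁻¹) = (piece U e).map (MulAut.conj g).toMonoidHom := by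
  ext w
  simp only [mem_piece, Subgroup.mem_map]
  constructor
  · rintro ⟨hw, hc⟩
    refine ⟨g⁻¹ * w * g, ⟨(mem_normalizer_iff''.1 hU w).1 hw, ?_⟩, by simp [mul_assoc]⟩
    calc e * (g⁻¹ * w * g) = g⁻¹ * (g * e * g⁻¹ * w) * g := by group
      _ = g⁻¹ * (w * (g * e * g⁻¹)) * g := by rw [hc]
      _ = _ := by group
  · rintro ⟨v, ⟨hv, hc⟩, rfl⟩
    refine ⟨(mem_normalizer_iff.1 hU v).1 hv, ?_⟩
    show g * e * g⁻¹ * (g * v * g⁻¹) = g * v * g⁻¹ * (g * e * g⁻¹)
    calc g * e * g⁻¹ * (g * v * g⁻¹) = g * (e * v) * g⁻¹ := by group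
      _ = g * (v * e) * g⁻¹ := by rw [hc]
      _ = _ := by group

include o

theorem norm_U {g : G} (hg : g ∈ normalizer (P : Set G)) (hgV : g ∈ normalizer (V : Set G)) :
    g ∈ normalizer ((⁅V, P⁆ : Subgroup G) : Set G) :=
  zpowers_le.1 (le_normalizer_of_conj fun b hb d hd =>
    conj_mem_commutator (zpowers_le.2 hgV hb) (zpowers_le.2 hg hb) hd)

theorem U_le : ⁅V, P⁆ ≤ V := o.commutator_le_V le_rfl

theorem U_comm : ∀ u ∈ (⁅V, P⁆ : Subgroup G), ∀ v ∈ (⁅V, P⁆ : Subgroup G), u * v = v * u :=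
  fun u hu v hv => o.vComm u (o.U_le hu) v (o.U_le hv)

theorem comm_cent {e f : G} (he : e ∈ P) (hf : f ∈ P) :
    ⁅e, f⁆ ∈ centralizer ((⁅V, P⁆ : Subgroup G) : Set G) :=
  centralizer_le o.U_le (o.derived (commutator_mem_commutator he hf))

theorem line_cent {e u : G} (hu : u ∈ piece ⁅V, P⁆ e) : Shape.line P e ≤ centralizer ({u} : Set G) :=
  sup_le (zpowers_le.2 (mem_centralizer_singleton_iff.2 (mem_piece.1 hu).2))
    fun _ hd => mem_centralizer_singleton_iff.2
      (mem_centralizer_iff.1 (o.derived hd) u (o.U_le (mem_piece.1 hu).1)).symm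

theorem piece_disjoint {e f : G} (he : e ∈ P) (he' : e ∉ (⁅P, P⁆ : Subgroup G)) (hf : f ∈ P)
    (hfe : f ∉ Shape.line P e) : piece ⁅V, P⁆ e ⊓ piece ⁅V, P⁆ f = ⊥ := by
  refine (Subgroup.eq_bot_iff_forall _).2 fun u hu => ?_
  refine o.fixed_free le_rfl (mem_piece.1 hu.1).1 (mem_centralizer_iff.2 fun w hw => ?_)
  have hle : Shape.line P e ⊔ Shape.line P f ≤ centralizer ({u} : Set G) :=
    sup_le (o.line_cent hu.1) (o.line_cent hu.2)
  exact mem_centralizer_singleton_iff.1 (hle ((o.shape.line_sup he hf he' hfe).ge hw))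

theorem piece_line {e f : G} (hf : f ∈ Shape.line P e) :
    piece ⁅V, P⁆ e ≤ piece ⁅V, P⁆ f := fun _ hu =>
  mem_piece.2 ⟨(mem_piece.1 hu).1, mem_centralizer_singleton_iff.1 (o.line_cent hu hf)⟩

theorem active_conj {e g : G} (hg : g ∈ normalizer (P : Set G)) (hgV : g ∈ normalizer (V : Set G))
    (he : Active P V e) : Active P V (g * e * g⁻¹) := by
  refine ⟨(mem_normalizer_iff.1 hg e).1 he.1, fun h => he.2.1 ?_, fun h => he.2.2 ?_⟩
  · have := o.shape.derived_normal (Subgroup.inv_mem _ hg) h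
    rwa [show g⁻¹ * (g * e * g⁻¹) * g⁻¹⁻¹ = e by group] at this
  · rw [piece_map (o.norm_U hg hgV),
      map_eq_bot_iff_of_injective _ (MulAut.conj g).injective] at h
    exact h

/-- The pieces generate. -/
theorem le_of_pieces {H : Subgroup G}
    (hH : ∀ g ∈ P, g ∉ (⁅P, P⁆ : Subgroup G) → piece ⁅V, P⁆ g ≤ H) : ⁅V, P⁆ ≤ H := by
  classical
  set S := o.shape
  set U := (⁅V, P⁆ : Subgroup G) with hU
  haveI := Fact.mk S.prime
  haveI : IsMulCommutative U := ⟨⟨fun a b => Subtype.ext (o.U_comm a a.2 b b.2)⟩⟩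
  letI : CommGroup U := { (inferInstance : Group U) with mul_comm := fun a b => mul_comm' a b }
  let ψ : P →* MulAut U :=
    (normalizerMonoidHom U).comp (Subgroup.inclusion fun g hg => o.norm_U (le_normalizer hg) (o.pV hg))
  have hker : ∀ g : P, ψ g = 1 → (g : G) ∈ (⁅P, P⁆ : Subgroup G) := by
    intro g hg
    have h1 := MonoidHom.mem_ker.2 hg
    rw [← MonoidHom.comap_ker, Subgroup.mem_comap, normalizerMonoidHom_ker, mem_subgroupOf] at h1
    refine o.kernel_le g.2 (mem_centralizer_iff.2 fun v hv => ?_)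
    have hdec := Coprime.commutator_sup_inf_centralizer o.pV (o.coprime_V le_rfl)
      (Or.inl (haveI := S.isPGroup.isNilpotent; inferInstance))
    have hle : V ≤ centralizer ({(g : G)} : Set G) := by
      rw [← hdec]
      exact sup_le (fun u hu => mem_centralizer_singleton_iff.2 (mem_centralizer_iff.1 h1 u hu))
        (fun u hu => mem_centralizer_singleton_iff.2 (mem_centralizer_iff.1 hu.2 g g.2).symm)
    exact mem_centralizer_singleton_iff.1 (hle hv)
  have hker' : ∀ g : P, (g : G) ∈ (⁅P, P⁆ : Subgroup G) → ψ g = 1 := by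
    intro g hg
    apply MonoidHom.mem_ker.1
    rw [← MonoidHom.comap_ker, Subgroup.mem_comap, normalizerMonoidHom_ker, mem_subgroupOf]
    exact centralizer_le o.U_le (o.derived hg)
  obtain ⟨x, hx, y, hy, hxy⟩ := S.exists_generators
  have hy' : y ∉ (⁅P, P⁆ : Subgroup G) := by
    intro hyd
    refine S.line_ne hx (le_antisymm (S.line_le hx) ?_)
    conv_lhs => rw [← hxy]
    refine sup_le ((closure_le _).2 ?_) le_sup_right
    intro w hw
    rcases hw with rfl | rfl
    exacts [mem_sup_left (mem_zpowers _), mem_sup_right hyd]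
  have hxl : x ∉ Shape.line P y := by
    intro hxy'
    refine S.line_ne hy (le_antisymm (S.line_le hy) ?_)
    conv_lhs => rw [← hxy]
    refine sup_le ((closure_le _).2 ?_) le_sup_right
    intro w hw
    rcases hw with rfl | rfl
    exacts [hxy', mem_sup_left (mem_zpowers _)]
  intro v hv
  let X : ψ.range := ⟨ψ ⟨x, hx⟩, _, rfl⟩
  let Y : ψ.range := ⟨ψ ⟨y, hy⟩, _, rfl⟩
  have hXY : Commute X Y := Subtype.ext (by
    show ψ ⟨x, hx⟩ * ψ ⟨y, hy⟩ = ψ ⟨y, hy⟩ * ψ ⟨x, hx⟩
    rw [← commutatorElement_eq_one_iff_mul_comm, ← map_commutatorElement]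
    exact hker' _ (commutator_mem_commutator hx hy))
  have hpow : ∀ w (hw : w ∈ P), (⟨ψ ⟨w, hw⟩, _, rfl⟩ : ψ.range) ^ p = 1 := fun w hw => Subtype.ext (by
    rw [SubgroupClass.coe_pow, ← map_pow, show (⟨w, hw⟩ : P) ^ p = 1 from Subtype.ext (S.exp w hw), map_one]
    rfl)
  have key := Coprime.pow_mem_of_fixed_mem ψ.range.subtype (H.subgroupOf U) S.prime (x := X) (y := Y) hXY
    (hpow y hy) (hpow x hx) (fun e => hy' (hker ⟨y, hy⟩ (congrArg Subtype.val e))) (fun j e => ?_)
    (fun E w hE hw => ?_) ⟨v, hv⟩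
  · have h2 : (v ^ p) ∈ H := key
    obtain ⟨n, hn⟩ := IsPGroup.iff_orderOf.1 o.vTwo ⟨v, o.U_le hv⟩
    rw [Subgroup.orderOf_mk] at hn
    obtain ⟨m, hm⟩ := exists_pow_eq_self_of_coprime (n := p) (x := v) (by
      rw [hn]; exact ((Nat.coprime_primes S.prime Nat.prime_two).2 S.odd).pow_right n)
    rw [← hm]
    exact pow_mem h2 m
  · refine hxl ?_
    have h1 : x * y ^ j ∈ (⁅P, P⁆ : Subgroup G) :=
      hker (⟨x, hx⟩ * ⟨y, hy⟩ ^ j) (by
        rw [map_mul, map_pow]; exact congrArg Subtype.val e)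
    rw [show x = x * y ^ j * (y ^ j)⁻¹ by group]
    exact mul_mem (mem_sup_right h1) (Subgroup.inv_mem _ (mem_sup_left (npow_mem_zpowers y j)))
  · obtain ⟨g, hg⟩ := E.2
    have hgd : (g : G) ∉ (⁅P, P⁆ : Subgroup G) := fun hd =>
      hE (Subtype.ext (hg.symm.trans (hker' g hd)))
    refine hH g g.2 hgd (mem_piece.2 ⟨w.2, ?_⟩)
    have h1 : ψ g w = w := by rw [hg]; exact hw
    exact mul_inv_eq_iff_eq_mul.1 (congrArg Subtype.val h1)

/-- Two active lines. -/
theorem exists_two : ∃ e f : G, Active P V e ∧ Active P V f ∧ f ∉ Shape.line P e := by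
  have h1 : ∃ e, Active P V e := by
    by_contra hn
    push Not at hn
    refine o.moved (Coprime.commutator_eq_bot_iff_le_centralizer'.1 (le_bot_iff.1 (o.le_of_pieces fun g hg hgd => ?_)))
    by_contra hne
    exact hn g ⟨hg, hgd, fun hb => hne hb.le⟩
  obtain ⟨e, he⟩ := h1
  by_contra hn
  push Not at hn
  refine he.2.1 (o.kernel_le he.1 ?_)
  have hle : (⁅V, P⁆ : Subgroup G) ≤ piece ⁅V, P⁆ e := o.le_of_pieces fun g hg hgd => by
    by_cases hb : piece ⁅V, P⁆ g = ⊥
    · rw [hb]; exact bot_le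
    have hgl : g ∈ Shape.line P e := hn e g he ⟨hg, hgd, hb⟩
    refine o.piece_line ?_
    rw [o.shape.line_eq he.1 he.2.1 hgd hgl]
    exact mem_sup_left (mem_zpowers e)
  refine mem_centralizer_iff.2 fun v hv => ?_
  haveI := o.shape.isPGroup.isNilpotent (hp := ⟨o.shape.prime⟩)
  have hdec := Coprime.commutator_sup_inf_centralizer o.pV (o.coprime_V le_rfl) (Or.inl inferInstance)
  have hV : V ≤ centralizer ({e} : Set G) := by
    rw [← hdec]
    exact sup_le (hle.trans inf_le_right)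
      (fun u hu => mem_centralizer_singleton_iff.2 (mem_centralizer_iff.1 hu.2 e he.1).symm)
  exact mem_centralizer_singleton_iff.1 (hV hv)

/-- The join of some active pieces. -/
theorem join_data {a x : G} (ha : a ∈ B) (hx : x ∈ P) (hax : a * x * a⁻¹ = x⁻¹) (s : Finset G)
    (hs : ∀ e ∈ s, Active P V e) (hlines : ∀ e ∈ s, ∀ f ∈ s, e ≠ f → f ∉ Shape.line P e)
    (hxl : ∀ e ∈ s, x ∉ Shape.line P e) :
    ∏ e ∈ s, Nat.card (piece ⁅V, P⁆ e) ≤ ((V ⊓ centralizer (B : Set G)).relIndex V) ^ 2 := by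
  classical
  set S := o.shape
  by_cases hxd : x ∈ (⁅P, P⁆ : Subgroup G)
  · rcases s.eq_empty_or_nonempty with rfl | ⟨e, he⟩
    · rw [Finset.prod_empty]
      exact Nat.one_le_pow _ _ (Nat.pos_of_ne_zero index_ne_zero_of_finite)
    · exact absurd (mem_sup_right hxd) (hxl e he)
  have hxs : x ∉ s := fun h => hxl x h (mem_sup_left (mem_zpowers x))
  have hP : ∀ e ∈ insert x s, e ∈ P ∧ e ∉ (⁅P, P⁆ : Subgroup G) := fun e he => by
    rcases Finset.mem_insert.1 he with rfl | he
    exacts [⟨hx, hxd⟩, ⟨(hs e he).1, (hs e he).2.1⟩]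
  have hn : ∀ e ∈ insert x s, e ∈ normalizer ((⁅V, P⁆ : Subgroup G) : Set G) := fun e he =>
    o.norm_U (le_normalizer (hP e he).1) (o.pV (hP e he).1)
  have hc : ∀ e ∈ insert x s, ∀ f ∈ insert x s, ⁅e, f⁆ ∈ centralizer ((⁅V, P⁆ : Subgroup G) : Set G) :=
    fun e he f hf => o.comm_cent (hP e he).1 (hP f hf).1
  have hd : ∀ e ∈ insert x s, ∀ f ∈ insert x s, e ≠ f → piece ⁅V, P⁆ e ⊓ piece ⁅V, P⁆ f = ⊥ := by
    intro e he f hf hne
    rcases Finset.mem_insert.1 he with rfl | he'
    · rcases Finset.mem_insert.1 hf with rfl | hf'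
      · exact absurd rfl hne
      · rw [inf_comm]
        exact o.piece_disjoint (hs f hf').1 (hs f hf').2.1 hx (hxl f hf')
    · rcases Finset.mem_insert.1 hf with rfl | hf'
      · exact o.piece_disjoint (hs e he').1 (hs e he').2.1 hx (hxl e he')
      · exact o.piece_disjoint (hs e he').1 (hs e he').2.1 (hs f hf').1 (hlines e he' f hf' hne)
  have hsub : s ⊆ insert x s := Finset.subset_insert _ _
  refine le_of_eq_of_le (card_join o.U_comm id (insert x s) hn hc hd s hsub).symm ?_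
  refine o.bound ha hax (S.exp x hx) ((join_le _ id s).trans o.U_le) ?_ ?_
  · refine zpowers_le.1 (le_normalizer_of_conj fun b hb u hu => ?_)
    refine conj_mem_join id s (fun e he v hv => Finset.le_sup (f := fun i : G => piece ⁅V, P⁆ i) he ?_) hu
    have hbP := zpowers_le.2 hx hb
    exact conj_mem_piece (o.norm_U (le_normalizer hbP) (o.pV hbP)) (o.comm_cent hbP (hs e he).1) hv
  · intro w hw hc'
    have h0 := independent o.U_comm id (insert x s) hn hc hd s hsub x (Finset.mem_insert_self x s) hxs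
    exact Subgroup.mem_bot.1 (h0.le ⟨mem_piece.2 ⟨join_le _ id s hw, hc'⟩, hw⟩)

theorem eight_piece (h5 : 5 ≤ p) {e : G} (he : Active P V e) : 8 ≤ Nat.card (piece ⁅V, P⁆ e) := by
  set S := o.shape
  obtain ⟨w, hw, -, hwl⟩ := S.exists_notMem_lines {e} (fun f hf => by
    rw [Finset.mem_singleton] at hf; subst hf; exact ⟨he.1, he.2.1⟩) (Finset.singleton_nonempty e)
    (by rw [Finset.card_singleton]; exact S.prime.one_lt)
  refine o.eight_le h5 (S.exp w hw) (inf_le_left.trans o.U_le) ?_ ?_ he.2.2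
  · refine zpowers_le.1 (le_normalizer_of_conj fun b hb u hu => ?_)
    have hbP := zpowers_le.2 hw hb
    exact conj_mem_piece (o.norm_U (le_normalizer hbP) (o.pV hbP)) (o.comm_cent hbP he.1) hu
  · intro u hu hc
    exact Subgroup.mem_bot.1 ((o.piece_disjoint he.1 he.2.1 hw (hwl e (Finset.mem_singleton_self e))).le
      ⟨hu, mem_piece.2 ⟨(mem_piece.1 hu).1, hc⟩⟩)

/-- An invariant piece. -/
theorem square_piece (h5 : 5 ≤ p) {a x e : G} (ha : a ∈ B) (hx : x ∈ P) (hax : a * x * a⁻¹ = x⁻¹) (he : Active P V e)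
    (hxl : x ∉ Shape.line P e) (hinv : a * e * a⁻¹ ∈ Shape.line P e) :
    16 ≤ Nat.card (piece ⁅V, P⁆ e) ∧ (p ≠ 5 → 64 ≤ Nat.card (piece ⁅V, P⁆ e)) := by
  set S := o.shape
  refine o.sixteen_le h5 ha hax (S.exp x hx) (inf_le_left.trans o.U_le) ?_ ?_ ?_ he.2.2
  · refine zpowers_le.1 (le_normalizer_of_conj fun b hb u hu => ?_)
    have hbP := zpowers_le.2 hx hb
    exact conj_mem_piece (o.norm_U (le_normalizer hbP) (o.pV hbP)) (o.comm_cent hbP he.1) hu
  · have haU := o.norm_U (o.bP ha) (o.bV ha)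
    have h1 := o.active_conj (o.bP ha) (o.bV ha) he
    have hle : piece ⁅V, P⁆ e ≤ piece ⁅V, P⁆ (a * e * a⁻¹) := o.piece_line hinv
    rw [mem_normalizer_iff_map_conj_eq]
    change (piece ⁅V, P⁆ e).map (MulAut.conj a).toMonoidHom = piece ⁅V, P⁆ e
    rw [← piece_map haU]
    exact (Subgroup.eq_of_le_of_card_ge hle (by
      rw [piece_map haU, card_map_of_injective (MulAut.conj a).injective])).symm
  · intro u hu hc
    exact Subgroup.mem_bot.1 ((o.piece_disjoint he.1 he.2.1 hx hxl).le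
      ⟨hu, mem_piece.2 ⟨(mem_piece.1 hu).1, hc⟩⟩)

/-- With `-1` present. -/
theorem neg_case (hp5 : 5 ≤ p) {a : G} (ha : a ∈ B) (hneg : ∀ w ∈ P, a * w * a⁻¹ * w ∈ (⁅P, P⁆ : Subgroup G))
    (s : Finset G) (hs : ∀ e ∈ s, Active P V e) (hlines : ∀ e ∈ s, ∀ f ∈ s, e ≠ f → f ∉ Shape.line P e)
    (hne : s.Nonempty) (hcard : s.card < p) :
    16 ^ s.card ≤ 256 ∧ (p ≠ 5 → 64 ^ s.card ≤ 256) := by
  classical
  set S := o.shape
  obtain ⟨w, hw, hwd, hwl⟩ := S.exists_notMem_lines s (fun e he => ⟨(hs e he).1, (hs e he).2.1⟩) hne hcard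
  set x := a * w * a⁻¹ * w⁻¹ with hx
  have hxP : x ∈ P := mul_mem ((mem_normalizer_iff.1 (o.bP ha) w).1 hw) (Subgroup.inv_mem _ hw)
  have hax : a * x * a⁻¹ = x⁻¹ :=
    S.inverted (o.trivial_on_P (mul_mem (o.bT ha) (o.bT ha)) (o.bSq a ha)) hw
  have hxl : ∀ e ∈ s, x ∉ Shape.line P e := by
    intro e he hxe
    refine hwl e he ?_
    have h2 : w ^ 2 ∈ Shape.line P e := by
      rw [show w ^ 2 = x⁻¹ * (a * w * a⁻¹ * w) by rw [hx, pow_two]; group]
      exact mul_mem (Subgroup.inv_mem _ hxe) (mem_sup_right (hneg w hw))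
    obtain ⟨m, hm⟩ := exists_pow_eq_self_of_coprime (n := 2) (x := w) (Nat.Coprime.coprime_dvd_right
      (orderOf_dvd_of_pow_eq_one (S.exp w hw)) ((Nat.coprime_primes Nat.prime_two S.prime).2 S.odd.symm))
    rw [← hm]
    exact pow_mem h2 m
  have hinv : ∀ e ∈ s, a * e * a⁻¹ ∈ Shape.line P e := fun e he => by
    rw [show a * e * a⁻¹ = a * e * a⁻¹ * e * e⁻¹ by group]
    exact mul_mem (mem_sup_right (hneg e (hs e he).1)) (Subgroup.inv_mem _ (mem_sup_left (mem_zpowers e)))
  have hI : ((V ⊓ centralizer (B : Set G)).relIndex V) ^ 2 ≤ 256 :=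
    (Nat.pow_le_pow_left o.index_cases.1 2).trans (by norm_num)
  have hp := (o.join_data ha hxP hax s hs hlines hxl).trans hI
  exact ⟨(Finset.pow_card_le_prod s _ 16 fun e he =>
      (o.square_piece hp5 ha hxP hax (hs e he) (hxl e he) (hinv e he)).1).trans hp,
    fun h5 => (Finset.pow_card_le_prod s _ 64 fun e he =>
      (o.square_piece hp5 ha hxP hax (hs e he) (hxl e he) (hinv e he)).2 h5).trans hp⟩

/-- The theorem. -/
theorem pair (hbig : 5 ≤ p) : p = 5 ∧ ∃ e f : G, Active P V e ∧ Active P V f ∧ f ∉ Shape.line P e ∧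
    ∀ g, Active P V g → g ∈ Shape.line P e ∨ g ∈ Shape.line P f := by
  classical
  set S := o.shape
  obtain ⟨e, f, he, hf, hfe⟩ := o.exists_two
  have hef : e ≠ f := fun h => hfe (h ▸ mem_sup_left (mem_zpowers e))
  have hlsymm : ∀ a b : G, Active P V a → Active P V b → b ∉ Shape.line P a → a ∉ Shape.line P b := by
    intro a b ha hb h h'
    exact h (S.line_eq hb.1 hb.2.1 ha.2.1 h' ▸ mem_sup_left (mem_zpowers b))
  have hpair : ∀ u v : G, Active P V u → Active P V v → v ∉ Shape.line P u →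
      ∀ a ∈ ({u, v} : Finset G), ∀ b ∈ ({u, v} : Finset G), a ≠ b → b ∉ Shape.line P a := by
    intro u v hu hv hvu a ha b hb hab
    simp only [Finset.mem_insert, Finset.mem_singleton] at ha hb
    rcases ha with rfl | rfl <;> rcases hb with rfl | rfl
    exacts [absurd rfl hab, hvu, hlsymm _ _ hu hv hvu, absurd rfl hab]
  obtain ⟨-, hsmall | ⟨a, ha, -, hneg⟩⟩ := o.index_cases
  swap
  · -- minus one is present
    have hmem : ∀ c ∈ ({e, f} : Finset G), Active P V c := by
      intro c hc; simp only [Finset.mem_insert, Finset.mem_singleton] at hc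
      rcases hc with rfl | rfl <;> assumption
    have h2 := o.neg_case hbig ha hneg {e, f} hmem (hpair e f he hf hfe) ⟨e, by simp⟩
      (by rw [Finset.card_pair hef]; omega)
    rw [Finset.card_pair hef] at h2
    refine ⟨?_, e, f, he, hf, hfe, fun g hg => ?_⟩
    · by_contra h5
      exact absurd (h2.2 h5) (by norm_num)
    by_contra hn
    push Not at hn
    have hge : g ≠ e := fun h => hn.1 (by rw [h]; exact mem_sup_left (mem_zpowers e))
    have hgf : g ≠ f := fun h => hn.2 (by rw [h]; exact mem_sup_left (mem_zpowers f))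
    have hc3 : ({g, e, f} : Finset G).card = 3 := by
      rw [Finset.card_insert_of_notMem (by simp [hge, hgf]), Finset.card_pair hef]
    have h3 := o.neg_case hbig ha hneg {g, e, f} (fun c hc => by
        simp only [Finset.mem_insert, Finset.mem_singleton] at hc
        rcases hc with rfl | rfl | rfl <;> assumption)
      (fun c hc d hd hcd => by
        simp only [Finset.mem_insert, Finset.mem_singleton] at hc hd
        rcases hc with rfl | rfl | rfl <;> rcases hd with rfl | rfl | rfl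
        exacts [absurd rfl hcd, hlsymm _ _ he hg hn.1, hlsymm _ _ hf hg hn.2, hn.1, absurd rfl hcd, hfe,
          hn.2, hlsymm _ _ he hf hfe, absurd rfl hcd])
      ⟨g, by simp⟩ (by rw [hc3]; omega)
    rw [hc3] at h3
    exact absurd h3.1 (by norm_num)
  -- an element of index at most four
  obtain ⟨a, ha, haV⟩ := SetLike.not_le_iff_exists.1 o.bMoved
  obtain ⟨x, hx, hxd, hax⟩ := S.exists_inverted (o.bP ha)
    (o.trivial_on_P (mul_mem (o.bT ha) (o.bT ha)) (o.bSq a ha)) fun e => haV (o.faith a (o.bT ha) e)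
  have hI : ((V ⊓ centralizer (B : Set G)).relIndex V) ^ 2 ≤ 16 :=
    (Nat.pow_le_pow_left hsmall 2).trans (by norm_num)
  -- no two lines avoid `x`
  have htwo : ∀ u v : G, Active P V u → Active P V v → v ∉ Shape.line P u → x ∉ Shape.line P u →
      x ∈ Shape.line P v := by
    intro u v hu hv hvu hxu
    by_contra hxv
    have huv : u ≠ v := fun h => hvu (h ▸ mem_sup_left (mem_zpowers u))
    have h1 := (o.join_data ha hx hax {u, v} (fun c hc => by
      simp only [Finset.mem_insert, Finset.mem_singleton] at hc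
      rcases hc with rfl | rfl <;> assumption) (hpair u v hu hv hvu) (fun c hc => by
      simp only [Finset.mem_insert, Finset.mem_singleton] at hc
      rcases hc with rfl | rfl <;> assumption)).trans hI
    have h2 := Finset.pow_card_le_prod ({u, v} : Finset G) (fun c => Nat.card (piece ⁅V, P⁆ c)) 8
      (fun c hc => by
        simp only [Finset.mem_insert, Finset.mem_singleton] at hc
        rcases hc with rfl | rfl <;> exact o.eight_piece hbig (by assumption))
    rw [Finset.card_pair huv] at h2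
    exact absurd (h2.trans h1) (by norm_num)
  have hnorm : ∀ u, Active P V u → x ∈ Shape.line P u → Shape.line P x = Shape.line P u :=
    fun u hu hxu => S.line_eq hu.1 hu.2.1 hxd hxu
  have hp5 : ∀ u : G, Active P V u → x ∉ Shape.line P u → p = 5 := by
    intro u hu hxu
    by_contra h5
    have hv := o.active_conj (o.bP ha) (o.bV ha) hu
    by_cases hi : a * u * a⁻¹ ∈ Shape.line P u
    · have h1 := (o.join_data ha hx hax {u} (fun c hc => Finset.mem_singleton.1 hc ▸ hu)
        (fun c hc d hd hcd => absurd ((Finset.mem_singleton.1 hc).trans (Finset.mem_singleton.1 hd).symm) hcd)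
        (fun c hc => Finset.mem_singleton.1 hc ▸ hxu)).trans hI
      rw [Finset.prod_singleton] at h1
      exact absurd (((o.square_piece hbig ha hx hax hu hxu hi).2 h5).trans h1) (by norm_num)
    · have hxv := htwo u _ hu hv hi hxu
      -- then `x` would be on the line of `u`
      refine hxu ?_
      have hle : Shape.line P (a * u * a⁻¹) ≤
          (Shape.line P u).map (MulAut.conj a).toMonoidHom := by
        refine sup_le (zpowers_le.2 ⟨u, mem_sup_left (mem_zpowers u), rfl⟩) fun d hd => ?_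
        refine ⟨a⁻¹ * d * a, mem_sup_right ?_, by simp [mul_assoc]⟩
        have := S.derived_normal (Subgroup.inv_mem _ (o.bP ha)) hd
        rwa [inv_inv] at this
      obtain ⟨w, hw, hwx⟩ := hle hxv
      have e1 : a * w * a⁻¹ = x := hwx
      have e2 : w = x⁻¹ := by
        rw [show w = a⁻¹ * (a * w * a⁻¹) * a by group, e1,
          show x⁻¹ = a⁻¹ * (a * x⁻¹ * a⁻¹) * a by group,
          show a * x⁻¹ * a⁻¹ = (a * x * a⁻¹)⁻¹ by group, hax, inv_inv]
      rw [e2] at hw
      exact inv_mem_iff.1 hw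
  by_cases hxe : x ∈ Shape.line P e
  · have hxf : x ∉ Shape.line P f := fun hxf => hfe (by
      rw [← hnorm e he hxe, hnorm f hf hxf]; exact mem_sup_left (mem_zpowers f))
    refine ⟨hp5 f hf hxf, e, f, he, hf, hfe, fun g hg => ?_⟩
    by_contra hn
    push Not at hn
    have hxg := htwo f g hf hg hn.2 hxf
    exact hn.1 (by rw [← hnorm e he hxe, hnorm g hg hxg]; exact mem_sup_left (mem_zpowers g))
  · refine ⟨hp5 e he hxe, e, f, he, hf, hfe, fun g hg => ?_⟩
    by_contra hn
    push Not at hn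
    have hxg := htwo e g he hg hn.1 hxe
    have hxf := htwo e f he hf hfe hxe
    exact hn.2 (by rw [← hnorm f hf hxf, hnorm g hg hxg]; exact mem_sup_left (mem_zpowers g))

end Offender

namespace Shape

variable {P T₀ : Subgroup G}

/-- An element of odd order prime to five permuting two lines is trivial. -/
theorem trivial_of_pair (h : Shape 5 P T₀) {g e f : G} {r : ℕ} (hg : g ∈ normalizer (P : Set G))
    (hr : r.Prime) (hr2 : r ≠ 2) (hr5 : r ≠ 5) (hgr : g ^ r ∈ centralizer (P : Set G))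
    (he : e ∈ P) (he' : e ∉ (⁅P, P⁆ : Subgroup G)) (hf : f ∈ P) (hf' : f ∉ (⁅P, P⁆ : Subgroup G))
    (hfe : f ∉ line P e) (hge : g * e * g⁻¹ ∈ line P e ∨ g * e * g⁻¹ ∈ line P f)
    (hgf : g * f * g⁻¹ ∈ line P e ∨ g * f * g⁻¹ ∈ line P f) : g ∈ centralizer (P : Set G) := by
  classical
  have hgD : ∀ d ∈ (⁅P, P⁆ : Subgroup G), g * d * g⁻¹ ∈ (⁅P, P⁆ : Subgroup G) :=
    fun d hd => h.derived_normal hg hd
  have hmove : ∀ {c d w : G}, g * c * g⁻¹ ∈ line P d → w ∈ line P c → g * w * g⁻¹ ∈ line P d := by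
    intro c d w hcd hw
    have hle : line P c ≤ (line P d).comap (MulAut.conj g).toMonoidHom :=
      sup_le (zpowers_le.2 hcd) fun z hz => mem_sup_right (hgD z hz)
    exact hle hw
  have hout : ∀ {c : G}, c ∉ (⁅P, P⁆ : Subgroup G) → g * c * g⁻¹ ∉ (⁅P, P⁆ : Subgroup G) := by
    intro c hc hcd
    have := h.derived_normal (Subgroup.inv_mem _ hg) hcd
    rw [show g⁻¹ * (g * c * g⁻¹) * g⁻¹⁻¹ = c by group] at this
    exact hc this
  -- iterated conjugates
  have hodd : Odd r := hr.odd_of_ne_two hr2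
  obtain ⟨k, hk⟩ := hodd
  have hfix : ∀ c, c ∈ P → c ∉ (⁅P, P⁆ : Subgroup G) → ∀ d, d ∈ P → d ∉ (⁅P, P⁆ : Subgroup G) →
      g * c * g⁻¹ ∈ line P d → g * d * g⁻¹ ∈ line P c → g * c * g⁻¹ ∈ line P c := by
    intro c hc hc' d hd hd' h1 h2
    have h2' : ∀ n : ℕ, g ^ (2 * n) * c * (g ^ (2 * n))⁻¹ ∈ line P c := by
      intro n
      induction n with
      | zero => simpa using mem_sup_left (mem_zpowers c)
      | succ n ih =>
        rw [show g ^ (2 * (n + 1)) * c * (g ^ (2 * (n + 1)))⁻¹ =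
          g * (g * (g ^ (2 * n) * c * (g ^ (2 * n))⁻¹) * g⁻¹) * g⁻¹ by
            rw [show 2 * (n + 1) = 2 * n + 1 + 1 by ring, pow_succ', pow_succ']; group]
        exact hmove h2 (hmove h1 ih)
    have h3 : g ^ r * c * (g ^ r)⁻¹ ∈ line P d := by
      rw [hk, show g ^ (2 * k + 1) * c * (g ^ (2 * k + 1))⁻¹ = g * (g ^ (2 * k) * c * (g ^ (2 * k))⁻¹) * g⁻¹ by
        rw [pow_succ']; group]
      exact hmove h1 (h2' k)
    rw [← mem_centralizer_iff.1 hgr c hc, mul_inv_cancel_right] at h3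
    rw [h.line_eq hd hd' hc' h3]; exact h1
  -- both lines are fixed
  have heq : g * e * g⁻¹ ∈ line P e := by
    rcases hge with h1 | h1
    · exact h1
    rcases hgf with h2 | h2
    · exact hfix e he he' f hf hf' h1 h2
    · exfalso
      have h3 : line P (g * e * g⁻¹) = line P f := h.line_eq hf hf' (hout he') h1
      have h4 : line P (g * f * g⁻¹) = line P f := h.line_eq hf hf' (hout hf') h2
      have h5 : g * f * g⁻¹ ∈ line P (g * e * g⁻¹) := by
        rw [h3, ← h4]; exact mem_sup_left (mem_zpowers _)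
      refine hfe ?_
      have hle : line P (g * e * g⁻¹) ≤ (line P e).map (MulAut.conj g).toMonoidHom := by
        refine sup_le (zpowers_le.2 ⟨e, mem_sup_left (mem_zpowers e), rfl⟩) fun d hd => ?_
        refine ⟨g⁻¹ * d * g, mem_sup_right ?_, by simp [mul_assoc]⟩
        have := h.derived_normal (Subgroup.inv_mem _ hg) hd
        rwa [inv_inv] at this
      obtain ⟨w, hw, hwf⟩ := hle h5
      rwa [(MulAut.conj g).injective hwf] at hw
  have hfq : g * f * g⁻¹ ∈ line P f := by
    rcases hgf with h1 | h1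
    · exfalso
      have h3 : line P (g * e * g⁻¹) = line P e := h.line_eq he he' (hout he') heq
      have h5 : g * f * g⁻¹ ∈ line P (g * e * g⁻¹) := by rwa [h3]
      refine hfe ?_
      have hle : line P (g * e * g⁻¹) ≤ (line P e).map (MulAut.conj g).toMonoidHom := by
        refine sup_le (zpowers_le.2 ⟨e, mem_sup_left (mem_zpowers e), rfl⟩) fun d hd => ?_
        refine ⟨g⁻¹ * d * g, mem_sup_right ?_, by simp [mul_assoc]⟩
        have := h.derived_normal (Subgroup.inv_mem _ hg) hd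
        rwa [inv_inv] at this
      obtain ⟨w, hw, hwf⟩ := hle h5
      rwa [(MulAut.conj g).injective hwf] at hw
    · exact h1
  -- the scalar on each line is one
  have hscalar : ∀ c, c ∈ P → c ∉ (⁅P, P⁆ : Subgroup G) → g * c * g⁻¹ ∈ line P c → c ∈ h.fixMod hg := by
    intro c hc hc' hline
    rw [line, ← SetLike.mem_coe, coe_mul_of_left_le_normalizer_right _ _ (fun w hw =>
      centralizer_le_normalizer _ (mem_centralizer_iff.2 fun d hd =>
        (h.derived_comm hd (zpowers_le.2 hc hw)).symm))] at hline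
    obtain ⟨_, ⟨i, rfl⟩, d, hd, hid⟩ := hline
    obtain ⟨j, hj, hji⟩ : ∃ j : ℕ, j < 5 ∧ c ^ j = c ^ i := by
      refine ⟨(i % (5 : ℤ)).toNat, by omega, ?_⟩
      rw [← zpow_natCast, Int.toNat_of_nonneg (Int.emod_nonneg i (by norm_num))]
      conv_rhs => rw [← Int.emod_add_ediv_mul i 5, zpow_add, mul_comm (i / 5), zpow_mul]
      rw [show c ^ (5 : ℤ) = 1 by exact_mod_cast h.exp c hc, one_zpow, mul_one]
    have hid' : c ^ i * d = g * c * g⁻¹ := hid
    rw [← hji] at hid'
    have hiter : ∀ n : ℕ, ∃ d' ∈ (⁅P, P⁆ : Subgroup G), g ^ n * c * (g ^ n)⁻¹ = c ^ (j ^ n) * d' := by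
      intro n
      induction n with
      | zero => exact ⟨1, one_mem _, by simp⟩
      | succ n ih =>
        obtain ⟨d', hd', hn⟩ := ih
        refine ⟨d ^ (j ^ n) * (g * d' * g⁻¹), mul_mem (pow_mem hd _) (hgD d' hd'), ?_⟩
        calc g ^ (n + 1) * c * (g ^ (n + 1))⁻¹ = g * (g ^ n * c * (g ^ n)⁻¹) * g⁻¹ := by
              rw [pow_succ']; group
          _ = (g * c * g⁻¹) ^ (j ^ n) * (g * d' * g⁻¹) := by rw [hn, conj_pow]; group
          _ = c ^ (j ^ (n + 1)) * (d ^ (j ^ n) * (g * d' * g⁻¹)) := by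
              rw [← hid', (show Commute (c ^ j) d from h.derived_comm hd (pow_mem hc j)).mul_pow,
                ← pow_mul, ← pow_succ', mul_assoc]
    obtain ⟨d', hd', hr'⟩ := hiter r
    rw [← mem_centralizer_iff.1 hgr c hc, mul_inv_cancel_right] at hr'
    have hmod : j ^ r % 5 = 1 := by
      by_contra hne
      refine hc' ?_
      have h1 : c ^ (j ^ r % 5) * c⁻¹ ∈ (⁅P, P⁆ : Subgroup G) := by
        have e1 : c ^ (j ^ r % 5) = c ^ (j ^ r) := (pow_eq_pow_mod (j ^ r) (h.exp c hc)).symm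
        have e2 : c ^ (j ^ r) = c * d'⁻¹ := eq_mul_inv_of_mul_eq hr'.symm
        rw [e1, e2, show c * d'⁻¹ * c⁻¹ = d'⁻¹ by
          rw [h.derived_comm (Subgroup.inv_mem _ hd') hc, mul_inv_cancel_right]]
        exact Subgroup.inv_mem _ hd'
      have hlt : j ^ r % 5 < 5 := Nat.mod_lt _ (by norm_num)
      rcases Nat.eq_zero_or_pos (j ^ r % 5) with h0 | h0
      · rw [h0, pow_zero, one_mul] at h1
        exact inv_mem_iff.1 h1
      · obtain ⟨q, hq⟩ : ∃ q, j ^ r % 5 = q + 1 := ⟨_, (Nat.sub_add_cancel h0).symm⟩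
        rw [hq, pow_succ, mul_inv_cancel_right] at h1
        obtain ⟨m, hm⟩ := exists_pow_eq_self_of_coprime (n := q) (x := c) (Nat.Coprime.coprime_dvd_right
          (orderOf_dvd_of_pow_eq_one (h.exp c hc)) ((Nat.prime_five.coprime_iff_not_dvd).2 fun hd5 => by
            have := Nat.le_of_dvd (by omega) hd5
            omega).symm)
        rw [← hm]
        exact pow_mem h1 m
    have hj1 : j = 1 := by
      have hr4 : r % 4 = 1 ∨ r % 4 = 3 := by omega
      have hper : j ^ r % 5 = (j ^ (r % 4)) * (j ^ 4) ^ (r / 4) % 5 := by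
        rw [← pow_mul, ← pow_add, Nat.mod_add_div]
      interval_cases j
      · simp [zero_pow hr.pos.ne'] at hmod
      · rfl
      all_goals
        rw [hper, Nat.mul_mod, Nat.pow_mod _ (r / 4)] at hmod
        norm_num at hmod
        rcases hr4 with e4 | e4 <;> rw [e4] at hmod <;> norm_num at hmod
    refine ⟨hc, ?_⟩
    rw [hj1, pow_one] at hid'
    rw [← hid', h.derived_comm hd hc, mul_inv_cancel_right]
    exact hd
  have hD : ∀ d ∈ (⁅P, P⁆ : Subgroup G), d ∈ h.fixMod hg :=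
    fun d hd => ⟨h.derived_le hd, mul_mem (hgD d hd) (Subgroup.inv_mem _ hd)⟩
  have hle : line P e ⊔ line P f ≤ h.fixMod hg := sup_le
    (sup_le (zpowers_le.2 (hscalar e he he' heq)) hD) (sup_le (zpowers_le.2 (hscalar f hf hf' hfq)) hD)
  exact h.mem_centralizer_of_mod hg (fun w hw => (hle ((h.line_sup he hf he' hfe).ge hw)).2) hgr
    ((Nat.coprime_primes hr Nat.prime_five).2 hr5)

end Shape

end Cfsg.Agent.QTXi
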